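import Mathlib

/-!
Groups acting on the plane `K × K` containing the full upper root group.
-/

set_option autoImplicit false

namespace Cfsg.Agent.Fusion.SpFour.Plane

variable {G : Type*} [Group G] [Finite G] {K : Type*} [Field K] [Fintype K]
  (ρ : G →* AddMonoid.End (K × K)) (σ : K → G)

theorem map_zpowers_inj {V : Type*} [AddCommGroup V] (f : G →* AddMonoid.End V) (g : G) :
    Function.Injective (f g) :=
  Function.LeftInverse.injective (g := f g⁻¹) fun v => by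
    show (f g⁻¹ * f g) v = v
    rw [← map_mul, inv_mul_cancel, map_one]; rfl

/-- If every image of the fixed axis meets it, the axis is invariant. -/
theorem axis_invariant (hu : ∀ s b c, ρ (σ s) (b, c) = (b + s * c, c))
    (hmax : ∀ g s, (∀ b, (ρ (g * σ s * g⁻¹) (b, 0)).2 = 0) →
      ∃ s', ρ (g * σ s * g⁻¹) = ρ (σ s'))
    (hmeet : ∀ g, ∃ b, b ≠ 0 ∧ (ρ g (b, 0)).2 = 0) (g : G) (b : K) : (ρ g (b, 0)).2 = 0 := by
  classical
  cases nonempty_fintype G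
  by_contra hne
  let W : G → Set K := fun g => {b | (ρ g (b, 0)).2 = 0}
  obtain ⟨g₀, hg₀, hmx⟩ := Finset.exists_max_image
    (Finset.univ.filter fun g : G => ∃ b, (ρ g (b, 0)).2 ≠ 0) (fun g => (W g).ncard)
    ⟨g, Finset.mem_filter.2 ⟨Finset.mem_univ _, b, hne⟩⟩
  obtain ⟨b₀, hb₀⟩ := (Finset.mem_filter.1 hg₀).2
  obtain ⟨w, hw, hgw⟩ := hmeet g₀
  set s : K := (ρ g₀ (w, 0)).1 / (ρ g₀ (b₀, 0)).2 with hs
  set t : G := g₀⁻¹ * σ s * g₀⁻¹⁻¹ with ht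
  have htapp : ∀ v, ρ t v = ρ g₀⁻¹ (ρ (σ s) (ρ g₀ v)) := fun v => by
    rw [ht, inv_inv, map_mul, map_mul]; rfl
  have hcancel : ∀ v, ρ g₀⁻¹ (ρ g₀ v) = v := fun v => by
    show (ρ g₀⁻¹ * ρ g₀) v = v
    rw [← map_mul, inv_mul_cancel, map_one]; rfl
  have hfix : ∀ b ∈ W g₀, ρ t (b, 0) = (b, 0) := fun b hb => by
    rw [htapp]
    conv_rhs => rw [← hcancel (b, 0)]
    refine congrArg _ ?_
    rw [show ρ g₀ (b, 0) = ((ρ g₀ (b, 0)).1, (0 : K)) from Prod.ext rfl hb, hu]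
    simp
  have hmove : ρ t (b₀, 0) = (b₀, 0) + (w, 0) := by
    rw [htapp]
    conv_rhs => rw [← hcancel (b₀, 0), ← hcancel (w, 0), ← map_add]
    refine congrArg _ ?_
    conv_lhs => rw [show ρ g₀ (b₀, 0) = ((ρ g₀ (b₀, 0)).1, (ρ g₀ (b₀, 0)).2) from rfl, hu]
    rw [hs, div_mul_cancel₀ _ hb₀]
    exact Prod.ext rfl (by simp [hgw])
  have hlt : (W g₀).ncard < (W t).ncard := by
    refine Set.ncard_lt_ncard ((Set.ssubset_iff_of_subset fun z hz => ?_).2 ⟨b₀, ?_, hb₀⟩)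
      (Set.toFinite _)
    · show (ρ t (z, 0)).2 = 0
      rw [hfix z hz]
    · show (ρ t (b₀, 0)).2 = 0
      rw [hmove]; simp
  have htinv : ∀ b, (ρ t (b, 0)).2 = 0 := by
    by_contra h
    push Not at h
    exact absurd (hmx t (Finset.mem_filter.2 ⟨Finset.mem_univ _, h⟩)) (not_le.2 hlt)
  obtain ⟨s', hs'⟩ := hmax g₀⁻¹ s htinv
  have h1 : ρ t (b₀, 0) = (b₀, 0) := by rw [ht, hs', hu]; simp
  rw [hmove] at h1
  exact hw (by simpa using congrArg Prod.fst h1)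

/-- With linear conjugates and a disjoint image of the axis, all lower unipotents occur. -/
theorem exists_lower (hu : ∀ s b c, ρ (σ s) (b, c) = (b + s * c, c))
    (hlin : ∀ g s (l : K) v, ρ (g * σ s * g⁻¹) (l • v) = l • ρ (g * σ s * g⁻¹) v)
    {g₀ : G} (hg₀ : ∀ b, b ≠ 0 → (ρ g₀ (b, 0)).2 ≠ 0) (r : K) :
    ∃ g ∈ Subgroup.closure {x : G | ∃ h s, x = h * σ s * h⁻¹},
      ∀ b c, ρ g (b, c) = (b, c + r * b) := by
  classical
  have hcancel : ∀ v, ρ g₀⁻¹ (ρ g₀ v) = v := fun v => by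
    show (ρ g₀⁻¹ * ρ g₀) v = v
    rw [← map_mul, inv_mul_cancel, map_one]; rfl
  set f : K → G := fun s => g₀ * σ s * g₀⁻¹
  have hf : ∀ s v, ρ (f s) v = ρ g₀ (ρ (σ s) (ρ g₀⁻¹ v)) := fun s v => by
    simp only [f, map_mul]; rfl
  have hback : ∀ v, ρ g₀ (ρ g₀⁻¹ v) = v := fun v => by
    show (ρ g₀ * ρ g₀⁻¹) v = v
    rw [← map_mul, mul_inv_cancel, map_one]; rfl
  have hfixed : ∀ s, s ≠ 0 → ∀ v, ρ (f s) v = v ↔ (ρ g₀⁻¹ v).2 = 0 := fun s hs v => by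
    obtain ⟨⟨x, y⟩, hw⟩ : ∃ w, ρ g₀⁻¹ v = w := ⟨_, rfl⟩
    have hv : v = ρ g₀ (x, y) := by rw [← hw, hback]
    rw [hf, hw, hu, hv, (map_zpowers_inj ρ g₀).eq_iff]
    simp [hs]
  obtain ⟨e, he, hec⟩ : ∃ e : K × K, (ρ g₀⁻¹ e).2 = 0 ∧ e.2 ≠ 0 :=
    ⟨ρ g₀ (1, 0), by rw [hcancel], hg₀ 1 one_ne_zero⟩
  set β := e.1 / e.2
  have hline : ∀ l : K, (ρ g₀⁻¹ (l * β, l)).2 = 0 := fun l => by
    refine (hfixed 1 one_ne_zero _).1 ?_
    have : ((l * β, l) : K × K) = (l / e.2) • e := by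
      refine Prod.ext ?_ ?_
      · show l * β = l / e.2 * e.1
        simp only [β]; ring
      · show l = l / e.2 * e.2
        rw [div_mul_cancel₀ _ hec]
    rw [this, hlin, (hfixed 1 one_ne_zero e).2 he]
  have haxis : ∀ v : K × K, (ρ g₀⁻¹ v).2 = 0 → v.1 = v.2 * β := by
    intro v hv
    let φ : K → K := fun l => (ρ g₀⁻¹ (l * β, l)).1
    have hφ : Function.Injective φ := fun a b hab => by
      have : ρ g₀⁻¹ (a * β, a) = ρ g₀⁻¹ (b * β, b) :=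
        Prod.ext hab (by rw [hline, hline])
      exact congrArg Prod.snd (map_zpowers_inj ρ g₀⁻¹ this)
    obtain ⟨l, hl⟩ := (Finite.injective_iff_surjective.1 hφ) (ρ g₀⁻¹ v).1
    have h1 : (l * β, l) = v := map_zpowers_inj ρ g₀⁻¹ (Prod.ext hl (by rw [hline, hv]))
    subst h1; rfl
  have hexp : ∀ s, ∃ d : K, ρ (f s) (1, 0) = (1 + d * β, d) := fun s => by
    refine ⟨(ρ (f s) (1, 0)).2, Prod.ext ?_ rfl⟩
    have h1 : (ρ g₀⁻¹ (ρ (f s) (1, 0) - (1, 0))).2 = 0 := by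
      rw [map_sub, hf, hcancel]
      generalize ρ g₀⁻¹ (1, 0) = w
      rw [show w = (w.1, w.2) from rfl, hu]
      simp
    have h2 := haxis _ h1
    simp only [Prod.fst_sub, Prod.snd_sub, sub_zero] at h2
    linear_combination h2
  choose d hd using hexp
  have hval : ∀ s b c, ρ (f s) (b, c) = (b + (b - c * β) * d s * β, c + (b - c * β) * d s) := by
    intro s b c
    have h1 : ρ (f s) (β, (1 : K)) = (β, 1) := by
      rcases eq_or_ne s 0 with rfl | hs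
      · rw [hf, show ρ g₀⁻¹ (β, (1:K)) = ((ρ g₀⁻¹ (β, (1:K))).1, (ρ g₀⁻¹ (β, (1:K))).2) from rfl, hu]
        simp [hback]
      · exact (hfixed s hs _).2 (by simpa using hline 1)
    have hb : ((b, c) : K × K) = (b - c * β) • ((1, 0) : K × K) + c • (β, 1) := by
      refine Prod.ext ?_ ?_ <;> simp
    conv_lhs => rw [hb]
    rw [map_add, hlin, hlin, hd, h1]
    refine Prod.ext ?_ ?_ <;> simp <;> ring
  have hdinj : Function.Injective d := fun s s' hss => by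
    have h1 : ∀ v, ρ (σ s) v = ρ (σ s') v := fun v => by
      have h2 : ρ (f s) (ρ g₀ v) = ρ (f s') (ρ g₀ v) := by
        rw [show ρ g₀ v = ((ρ g₀ v).1, (ρ g₀ v).2) from rfl, hval, hval, hss]
      rw [hf, hf, hcancel] at h2
      exact map_zpowers_inj ρ g₀ h2
    simpa [hu] using h1 (0, 1)
  obtain ⟨s, hs⟩ := (Finite.injective_iff_surjective.1 hdinj) r
  refine ⟨σ (-β) * f s * σ β, mul_mem (mul_mem ?_ ?_) ?_, fun b c => ?_⟩
  · exact Subgroup.subset_closure ⟨1, -β, by simp⟩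
  · exact Subgroup.subset_closure ⟨g₀, s, rfl⟩
  · exact Subgroup.subset_closure ⟨1, β, by simp⟩
  · rw [map_mul, map_mul]
    show ρ (σ (-β)) (ρ (f s) (ρ (σ β) (b, c))) = _
    rw [hu, hval, hu, hs]
    refine Prod.ext ?_ ?_ <;> simp <;> ring

end Cfsg.Agent.Fusion.SpFour.Plane
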