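import Cfsg.Agent.Lib.Fusion.SpFour.Sum
import Cfsg.Agent.Lib.Fusion.SpFour.Plane

/-!
Groups acting on `K³` with a Sylow subgroup acting as the upper root group of `SL₂(K)` on the
symmetric matrices: if such a group fixes a nonzero vector of the first axis, its Sylow subgroup is
normal, apart from very small fields.
-/

set_option autoImplicit false
set_option linter.unusedSectionVars false

namespace Cfsg.Agent.Fusion.SpFour.Module

variable {G : Type*} [Group G] {K : Type*} [Field K] {p : ℕ}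

/-- The action of a unitriangular element on symmetric matrices. -/
def upper (s : K) (v : K × K × K) : K × K × K :=
  (v.1 + 2 * s * v.2.1 + s ^ 2 * v.2.2, v.2.1 + s * v.2.2, v.2.2)

/-- A semilinear lower triangular shape. -/
def Shape (f : K × K × K → K × K × K) (φ₁ ω : K) (φ : K ≃+* K) (π o₁ o₂ : K → K) : Prop :=
  φ₁ ≠ 0 ∧ ω ≠ 0 ∧ ∀ a b c,
    f (a, b, c) = (φ₁ ^ 2 * ω * φ a + π b + o₁ c, φ₁ * ω * φ b + o₂ c, ω * φ c)

/-- The standing hypotheses. -/
structure Hyp (p : ℕ) (ρ : G →* AddMonoid.End (K × K × K)) (σ : K → G) : Prop where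
  inj : Function.Injective ρ
  add : ∀ a b, σ (a + b) = σ a * σ b
  form : ∀ s v, ρ (σ s) v = upper s v
  sylow : ∃ P : Sylow p G, ((P : Subgroup G) : Set G) = Set.range σ

variable {ρ : G →* AddMonoid.End (K × K × K)} {σ : K → G}

theorem cancel (ρ : G →* AddMonoid.End (K × K × K)) (g : G) (v : K × K × K) :
    ρ g⁻¹ (ρ g v) = v := by
  show (ρ g⁻¹ * ρ g) v = v
  rw [← map_mul, inv_mul_cancel, map_one]; rfl

theorem cancel' (ρ : G →* AddMonoid.End (K × K × K)) (g : G) (v : K × K × K) :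
    ρ g (ρ g⁻¹ v) = v := by
  show (ρ g * ρ g⁻¹) v = v
  rw [← map_mul, mul_inv_cancel, map_one]; rfl

theorem apply_mul (ρ : G →* AddMonoid.End (K × K × K)) (g h : G) (v : K × K × K) :
    ρ (g * h) v = ρ g (ρ h v) := by
  rw [map_mul]; rfl

theorem apply_conj (ρ : G →* AddMonoid.End (K × K × K)) (g h : G) (v : K × K × K) :
    ρ (g * h * g⁻¹) v = ρ g (ρ h (ρ g⁻¹ v)) := by
  rw [apply_mul, apply_mul]

namespace Hyp

variable (H : Hyp p ρ σ)
include H

theorem σ_zero : σ (0 : K) = 1 :=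
  mul_eq_left.1 (show σ 0 * σ 0 = σ 0 by rw [← H.add, add_zero])

theorem σ_neg (a : K) : σ (-a) = (σ a)⁻¹ :=
  eq_inv_of_mul_eq_one_left (by rw [← H.add, neg_add_cancel, H.σ_zero])

theorem σ_inj : Function.Injective σ := fun a b e => by
  have := congrArg (fun g => (ρ g ((0 : K), (0 : K), (1 : K))).2.1) e
  simpa [H.form, upper] using this

theorem conj_inj (g : G) {a b : K} (e : g * σ a * g⁻¹ = g * σ b * g⁻¹) : a = b :=
  H.σ_inj (mul_left_cancel (mul_right_cancel e))

theorem mem_normalizer_of_maps [Finite K] {g : G} (h : ∀ a, ∃ b, g * σ a * g⁻¹ = σ b) :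
    g ∈ Subgroup.normalizer (Set.range σ) := by
  choose f hf using h
  have hfi : Function.Injective f := fun a b e => H.conj_inj g (by rw [hf, hf, e])
  refine Subgroup.mem_set_normalizer_iff.2 fun x => ⟨?_, fun hx => ?_⟩
  · rintro ⟨a, rfl⟩
    exact ⟨f a, (hf a).symm⟩
  · obtain ⟨b, hb⟩ := hx
    obtain ⟨a, rfl⟩ := (Finite.injective_iff_surjective.1 hfi) b
    exact ⟨a, mul_left_cancel (mul_right_cancel ((hf a).trans hb))⟩

theorem σ_mem_normalizer [Finite K] (a : K) : σ a ∈ Subgroup.normalizer (Set.range σ) :=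
  H.mem_normalizer_of_maps fun b => ⟨b, by
    rw [← H.σ_neg, ← H.add, ← H.add, add_comm a b, add_neg_cancel_right]⟩

theorem eq_σ_of_pow [Fact p.Prime] [Finite G] {g : G}
    (hg : g ∈ Subgroup.normalizer (Set.range σ)) {k : ℕ} (hk : g ^ p ^ k = 1) :
    ∃ b, g = σ b := by
  obtain ⟨P, hP⟩ := H.sylow
  rw [← hP] at hg
  have hzp : IsPGroup p (Subgroup.zpowers g) := by
    rintro ⟨_, i, rfl⟩
    refine ⟨k, Subtype.ext ?_⟩
    show (g ^ i) ^ p ^ k = 1
    rw [← zpow_natCast (g ^ i), ← zpow_mul, mul_comm, zpow_mul, zpow_natCast, hk, one_zpow]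
  have hsup : IsPGroup p ↥(Subgroup.zpowers g ⊔ (P : Subgroup G)) :=
    hzp.to_sup_of_normal_right' P.isPGroup' (Subgroup.zpowers_le.2 hg)
  have : g ∈ (P : Subgroup G) := by
    rw [← P.is_maximal' hsup le_sup_right]
    exact Subgroup.mem_sup_left (Subgroup.mem_zpowers g)
  obtain ⟨b, hb⟩ := hP.le this
  exact ⟨b, hb.symm⟩

theorem pow_σ [Fact p.Prime] [Finite G] (a : K) : ∃ k, σ a ^ p ^ k = 1 := by
  obtain ⟨P, hP⟩ := H.sylow
  obtain ⟨k, hk⟩ := P.isPGroup' ⟨σ a, hP.ge ⟨a, rfl⟩⟩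
  exact ⟨k, congrArg Subtype.val hk⟩

theorem conj_eq_σ [Fact p.Prime] [Finite G] {g : G} {a : K}
    (h : g * σ a * g⁻¹ ∈ Subgroup.normalizer (Set.range σ)) : ∃ b, g * σ a * g⁻¹ = σ b := by
  obtain ⟨k, hk⟩ := H.pow_σ a
  exact H.eq_σ_of_pow h (k := k) (by rw [conj_pow, hk, mul_one, mul_inv_cancel])

/-- The stabiliser of the standard flag normalises the Sylow subgroup. -/
theorem mem_normalizer_of_invariant [Fact p.Prime] [CharP K p] [Finite K] [Finite G] {g : G}
    (hW : ∀ a b, (ρ g (a, b, 0)).2.2 = 0)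
    (hZ : ∀ a, (2 : K) * (ρ g (a, 0, 0)).2.1 = 0) : g ∈ Subgroup.normalizer (Set.range σ) := by
  have hp := (Fact.out : p.Prime)
  let C : Subgroup G :=
    { carrier := {h | (∀ a b, (2 : K) * b = 0 → ρ h (a, b, 0) = (a, b, 0)) ∧
        (∀ a b, (ρ h (a, b, 0)).2.2 = 0 ∧ (2 : K) * ((ρ h (a, b, 0)).2.1 - b) = 0) ∧
        ∀ v : K × K × K, (ρ h v).2.2 = v.2.2}
      one_mem' := ⟨fun a b _ => by simp, fun a b => by simp, fun v => by simp⟩
      mul_mem' := by
        rintro h k ⟨h1, h2, h3⟩ ⟨k1, k2, k3⟩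
        refine ⟨fun a b hb => by rw [apply_mul, k1 a b hb, h1 a b hb], fun a b => ?_, fun v => ?_⟩
        · rw [apply_mul]
          obtain ⟨e1, e2⟩ := k2 a b
          have h2' := h2 (ρ k (a, b, 0)).1 (ρ k (a, b, 0)).2.1
          rw [show ((ρ k (a, b, 0)).1, (ρ k (a, b, 0)).2.1, (0 : K)) = ρ k (a, b, 0) from
            Prod.ext rfl (Prod.ext rfl e1.symm)] at h2'
          refine ⟨h2'.1, ?_⟩
          linear_combination h2'.2 + e2
        · rw [apply_mul, h3, k3]
      inv_mem' := by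
        rintro h ⟨h1, h2, h3⟩
        have h3' : ∀ v : K × K × K, (ρ h⁻¹ v).2.2 = v.2.2 := fun v => by
          rw [← h3 (ρ h⁻¹ v), cancel']
        refine ⟨fun a b hb => ?_, fun a b => ⟨h3' _, ?_⟩, h3'⟩
        · conv_lhs => rw [← h1 a b hb]
          rw [cancel]
        · set w := ρ h⁻¹ (a, b, 0) with hw
          have := (h2 w.1 w.2.1).2
          rw [show ((w.1, w.2.1, (0 : K)) : K × K × K) = w from
            Prod.ext rfl (Prod.ext rfl (h3' (a, b, 0)).symm), hw, cancel'] at this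
          linear_combination -this }
  have hmemC : ∀ h, h ∈ C ↔ (∀ a b, (2 : K) * b = 0 → ρ h (a, b, 0) = (a, b, 0)) ∧
      (∀ a b, (ρ h (a, b, 0)).2.2 = 0 ∧ (2 : K) * ((ρ h (a, b, 0)).2.1 - b) = 0) ∧
      ∀ v : K × K × K, (ρ h v).2.2 = v.2.2 := fun h => Iff.rfl
  have hσC : ∀ a, σ a ∈ C := fun s => by
    refine (hmemC _).2 ⟨fun a b hb => ?_, fun a b => ?_, fun v => by simp [H.form, upper]⟩
    · rw [H.form]
      refine Prod.ext ?_ (Prod.ext (by simp [upper]) rfl)
      simp only [upper]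
      linear_combination s * hb
    · simp [H.form, upper]
  have hCp : IsPGroup p C := by
    rintro ⟨h, h1, h2, h3⟩
    refine ⟨2, Subtype.ext (H.inj ?_)⟩
    show ρ (h ^ p ^ 2) = ρ 1
    rw [map_pow, map_one]
    ext v : 1
    show (ρ h ^ p ^ 2) v = v
    set d := ρ h v - v with hd
    set d' := ρ h d - d with hd'
    have hd2 : d.2.2 = 0 := by rw [hd]; simp [h3]
    have hd1 : (2 : K) * d'.2.1 = 0 ∧ d'.2.2 = 0 := by
      obtain ⟨e1, e2⟩ := h2 d.1 d.2.1
      rw [show ((d.1, d.2.1, (0 : K)) : K × K × K) = d from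
        Prod.ext rfl (Prod.ext rfl hd2.symm)] at e1 e2
      exact ⟨by simpa [hd'] using e2, by simp [hd', e1, hd2]⟩
    have hfix : ρ h d' = d' := by
      have := h1 d'.1 d'.2.1 hd1.1
      rwa [show ((d'.1, d'.2.1, (0 : K)) : K × K × K) = d' from
        Prod.ext rfl (Prod.ext rfl hd1.2.symm)] at this
    have key : ∀ m : ℕ, (ρ h ^ m) v = v + m • d + m.choose 2 • d' := by
      intro m
      induction m with
      | zero => simp
      | succ m ih =>
        rw [pow_succ']
        show ρ h ((ρ h ^ m) v) = _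
        rw [ih, map_add, map_add, map_nsmul, map_nsmul, hfix,
          show ρ h v = v + d by simp [hd], show ρ h d = d + d' by simp [hd'],
          Nat.choose_succ_succ', Nat.choose_one_right, add_smul, add_smul, one_smul, smul_add]
        abel
    rw [key]
    have hpd : ∀ (m : ℕ) (w : K × K × K), p ∣ m → m • w = 0 := fun m w hm => by
      have hc : (m : K) = 0 := (CharP.cast_eq_zero_iff K p m).2 hm
      refine Prod.ext ?_ (Prod.ext ?_ ?_) <;> simp [nsmul_eq_mul, hc]
    rw [hpd _ d (dvd_pow_self p two_ne_zero), hpd _ d' (hp.dvd_choose_pow two_ne_zero ?_),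
      add_zero, add_zero]
    intro h2'
    nlinarith [hp.two_le]
  have hgC : ∀ s, g * σ s * g⁻¹ ∈ C := by
    have hWinv : ∀ a b, (ρ g⁻¹ (a, b, 0)).2.2 = 0 := by
      intro a b
      let f : K × K → K × K := fun v => ((ρ g (v.1, v.2, 0)).1, (ρ g (v.1, v.2, 0)).2.1)
      have hf : Function.Injective f := fun v w e => by
        simp only [f, Prod.mk.injEq] at e
        have := Plane.map_zpowers_inj ρ g (Prod.ext e.1 (Prod.ext e.2 ((hW v.1 v.2).trans (hW w.1 w.2).symm)))
        simp only [Prod.mk.injEq] at this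
        exact Prod.ext this.1 this.2.1
      obtain ⟨v, hv⟩ := (Finite.injective_iff_surjective.1 hf) (a, b)
      simp only [f, Prod.mk.injEq] at hv
      rw [show ((a, b, (0 : K)) : K × K × K) = ρ g (v.1, v.2, 0) from
        Prod.ext hv.1.symm (Prod.ext hv.2.symm (hW v.1 v.2).symm), cancel]
    have hZinv : ∀ a b, (2 : K) * b = 0 → (2 : K) * (ρ g⁻¹ (a, b, 0)).2.1 = 0 := by
      intro a b hb
      by_cases h2 : (2 : K) = 0
      · rw [h2, zero_mul]
      have hb0 : b = 0 := (mul_eq_zero.1 hb).resolve_left h2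
      subst hb0
      let f : K → K := fun a => (ρ g (a, 0, 0)).1
      have hzero : ∀ a, ρ g (a, 0, 0) = (f a, 0, 0) := fun a =>
        Prod.ext rfl (Prod.ext ((mul_eq_zero.1 (hZ a)).resolve_left h2) (hW a 0))
      have hf : Function.Injective f := fun v w e => by
        have := Plane.map_zpowers_inj ρ g (show ρ g (v, 0, 0) = ρ g (w, 0, 0) by rw [hzero, hzero, e])
        exact congrArg Prod.fst this
      obtain ⟨v, rfl⟩ := (Finite.injective_iff_surjective.1 hf) a
      rw [← hzero, cancel]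
      simp
    intro s
    refine (hmemC _).2 ⟨fun a b hb => ?_, fun a b => ?_, fun v => ?_⟩
    · set w := ρ g⁻¹ (a, b, 0) with hw
      have hfix : ρ (σ s) w = w := by
        rw [H.form]
        refine Prod.ext ?_ (Prod.ext ?_ rfl)
        · simp only [upper, hw, hWinv]
          linear_combination s * hZinv a b hb
        · simp [upper, hw, hWinv]
      rw [apply_conj, hfix, cancel']
    · set w := ρ g⁻¹ (a, b, 0) with hw
      have e : ρ (σ s) w = w + (2 * s * w.2.1, (0 : K), (0 : K)) := by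
        rw [H.form]
        simp [upper, Prod.ext_iff, hw, hWinv]
      rw [apply_conj, e, map_add, hw, cancel']
      have h1 := hW (2 * s * w.2.1) 0
      have h2 := hZ (2 * s * w.2.1)
      rw [← hw]
      simp only [Prod.snd_add, Prod.fst_add]
      exact ⟨by rw [h1, add_zero], by linear_combination h2⟩
    · set w := ρ g⁻¹ v with hw
      have e : ρ (σ s) w = w + (2 * s * w.2.1 + s ^ 2 * w.2.2, s * w.2.2, (0 : K)) := by
        rw [H.form]
        simp [upper, Prod.ext_iff, add_assoc]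
      rw [apply_conj, e, map_add, hw, cancel', Prod.snd_add, Prod.snd_add, hW, add_zero]
  refine H.mem_normalizer_of_maps fun a => ?_
  obtain ⟨P, hP⟩ := H.sylow
  have hCP : C = (P : Subgroup G) :=
    P.is_maximal' hCp fun x hx => by
      obtain ⟨b, rfl⟩ := hP.le hx
      exact hσC b
  obtain ⟨b, hb⟩ := hP.le (hCP.le (hgC a))
  exact ⟨b, hb.symm⟩

/-- The Sylow subgroup is a trivial-intersection subgroup. -/
theorem eq_zero_of_conj [Fact p.Prime] [CharP K p] [Finite K] [Finite G] {g : G}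
    (hg : g ∉ Subgroup.normalizer (Set.range σ)) {a b : K} (h : g * σ a * g⁻¹ = σ b) : a = 0 := by
  by_contra ha
  have hb : b ≠ 0 := by
    rintro rfl
    rw [H.σ_zero] at h
    exact ha (H.σ_inj (by rw [H.σ_zero]; simpa using h))
  have hgv : ∀ v, ρ g (ρ (σ a) v) = ρ (σ b) (ρ g v) := fun v => by
    rw [← h, apply_conj, cancel]
  refine hg (H.mem_normalizer_of_invariant (fun x y => ?_) fun x => ?_)
  · -- the image of `σ a - 1` is `c = 0` in odd characteristic, its fixed space in characteristic 2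
    by_cases h2 : (2 : K) = 0
    · have hfix : ρ (σ a) (x, y, 0) = (x, y, 0) := by
        rw [H.form]; simp [upper, h2]
      have := hgv (x, y, 0)
      rw [hfix, H.form] at this
      have h3 := congrArg (fun v => v.2.1) this
      simp [upper] at h3
      exact h3.resolve_left hb
    · set w : K × K × K := (0, (x - a * y) / (2 * a), y / a)
      have e : ρ (σ a) w = w + (x, y, 0) := by
        rw [H.form]
        refine Prod.ext ?_ (Prod.ext ?_ ?_)
        · simp [upper, w]; field_simp; ring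
        · simp [upper, w]; field_simp
        · simp [upper, w]
      have := hgv w
      rw [e, map_add, H.form] at this
      have h3 := congrArg (fun v => v.2.2) this
      simpa [upper] using h3
  · by_cases h2 : (2 : K) = 0
    · rw [h2, zero_mul]
    have hfix : ρ (σ a) (x, 0, 0) = (x, 0, 0) := by rw [H.form]; simp [upper]
    have := hgv (x, 0, 0)
    rw [hfix, H.form] at this
    have h3 := congrArg (fun v => v.2.1) this
    have h4 := congrArg (fun v => v.1) this
    simp [upper] at h3 h4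
    have hc : (ρ g (x, 0, 0)).2.2 = 0 := h3.resolve_left hb
    rw [hc] at h4
    simp [hb, h2] at h4
    rw [h4, mul_zero]

end Hyp

/-! ### Degrees -/

/-- The quadratic part of the action. -/
def quadPart (K : Type*) [Field K] : K →+ K →+ AddMonoid.End (K × K × K) :=
  AddMonoidHom.mk' (fun s => AddMonoidHom.mk' (fun t => AddMonoidHom.mk'
    (fun v => (s * t * v.2.2, (0 : K), (0 : K))) (fun v w => by simp [mul_add])) (fun t u => by
      ext v : 1
      show (s * (t + u) * v.2.2, (0 : K), (0 : K)) =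
        (s * t * v.2.2, (0 : K), (0 : K)) + (s * u * v.2.2, (0 : K), (0 : K))
      simp [mul_add, add_mul]))
    (fun s s' => by
      ext t v : 2
      show ((s + s') * t * v.2.2, (0 : K), (0 : K)) =
        (s * t * v.2.2, (0 : K), (0 : K)) + (s' * t * v.2.2, (0 : K), (0 : K))
      simp [add_mul])

/-- The linear part of the action. -/
def linPart (K : Type*) [Field K] : K →+ AddMonoid.End (K × K × K) :=
  AddMonoidHom.mk' (fun s => AddMonoidHom.mk'
    (fun v => (2 * s * v.2.1, s * v.2.2, (0 : K))) (fun v w => by simp [mul_add]))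
    (fun s s' => by
      ext v : 1
      show (2 * (s + s') * v.2.1, (s + s') * v.2.2, (0 : K)) =
        (2 * s * v.2.1, s * v.2.2, (0 : K)) + (2 * s' * v.2.1, s' * v.2.2, (0 : K))
      simp [mul_add, add_mul])

/-- In characteristic 2 the whole action is additive. -/
def linPartTwo (K : Type*) [Field K] (h2 : (2 : K) = 0) : K →+ AddMonoid.End (K × K × K) :=
  AddMonoidHom.mk' (fun s => AddMonoidHom.mk'
    (fun v => (s ^ 2 * v.2.2, s * v.2.2, (0 : K))) (fun v w => by simp [mul_add]))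
    (fun s s' => by
      ext v : 1
      show ((s + s') ^ 2 * v.2.2, (s + s') * v.2.2, (0 : K)) =
        (s ^ 2 * v.2.2, s * v.2.2, (0 : K)) + (s' ^ 2 * v.2.2, s' * v.2.2, (0 : K))
      simp [add_mul, add_sq, h2])

theorem deg_two (H : Hyp p ρ σ) : Deg 2 (fun s => ρ (σ s)) := by
  have e : (fun s => ρ (σ s)) = fun s => quadPart K s s + (linPart K s + 1) := by
    funext s; ext v : 1
    rw [H.form]
    show _ = (s * s * v.2.2, (0 : K), (0 : K)) + ((2 * s * v.2.1, s * v.2.2, (0 : K)) + v)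
    refine Prod.ext ?_ (Prod.ext ?_ ?_) <;> simp [upper] <;> ring
  rw [e]
  exact (deg_quadratic (quadPart K)).add ((deg_addHom (linPart K)).succ.add (deg_const 2 _))

theorem deg_one (H : Hyp p ρ σ) (h2 : (2 : K) = 0) : Deg 1 (fun s => ρ (σ s)) := by
  have e : (fun s => ρ (σ s)) = fun s => linPartTwo K h2 s + 1 := by
    funext s; ext v : 1
    rw [H.form]
    show _ = (s ^ 2 * v.2.2, s * v.2.2, (0 : K)) + v
    refine Prod.ext ?_ (Prod.ext ?_ ?_) <;> simp [upper, h2] <;> ring
  rw [e]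
  exact (deg_addHom (linPartTwo K h2)).add (deg_const 1 _)

/-! ### The first axis -/

section Seeds

variable [Finite G] [Fintype K] [Fact p.Prime] [CharP K p]

/-- The action on maps from the dual space. -/
def dualAct (p : ℕ) (u w : AddMonoid.End (K × K × K))
    (Φ : ((K × K × K) →+ ZMod p) →+ K × K × K) : ((K × K × K) →+ ZMod p) →+ K × K × K :=
  u.comp (Φ.comp (AddMonoidHom.compHom'
    (M := K × K × K) (N := K × K × K) (P := ZMod p) w))

theorem dualAct_apply (u w : AddMonoid.End (K × K × K))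
    (Φ : ((K × K × K) →+ ZMod p) →+ K × K × K) (f : (K × K × K) →+ ZMod p) :
    dualAct p u w Φ f = u (Φ (f.comp w)) := rfl

/-- If the normaliser acts on the first axis by field automorphisms and the degree is small, the
first axis is invariant. -/
theorem za_invariant (H : Hyp p ρ σ) {n : ℕ} (hK : Fintype.card K = p ^ n) {d : ℕ}
    (hd : Deg d (fun s => ρ (σ s))) (hlt : d + d < n * (p - 1))
    (hN : ∀ h ∈ Subgroup.normalizer (Set.range σ), ∃ φ : K ≃+* K,
      ∀ a, ρ h (a, 0, 0) = (φ a, 0, 0)) (g : G) (a : K) :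
    (ρ g (a, 0, 0)).2 = 0 := by
  letI : Algebra (ZMod p) K := ZMod.algebra K p
  let T : K →+ ((K →+ ZMod p)) := AddMonoidHom.mk' (fun κ => AddMonoidHom.mk'
      (fun l => Algebra.trace (ZMod p) K (κ * l)) fun l l' => by rw [mul_add, map_add])
    (fun κ κ' => by ext l; simp [add_mul])
  let B := (LinearMap.BilinForm.toDual (Algebra.traceForm (ZMod p) K)
    (traceForm_nondegenerate (ZMod p) K))
  have hBT : ∀ κ l, B κ l = T κ l := fun κ l => by
    rw [LinearMap.BilinForm.toDual_def, Algebra.traceForm_apply]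
    rfl
  have hTi : Function.Injective T := fun κ κ' h => B.injective (LinearMap.ext fun l => by
    rw [hBT, hBT, h])
  have hTs : Function.Surjective T := by
    intro f
    obtain ⟨κ, hκ⟩ := B.surjective (f.toZModLinearMap p)
    exact ⟨κ, AddMonoidHom.ext fun l => (hBT κ l).symm.trans (LinearMap.congr_fun hκ l)⟩
  let Te := AddEquiv.ofBijective T ⟨hTi, hTs⟩
  let axis : K →+ K × K × K := AddMonoidHom.mk' (fun l => (l, 0, 0)) (fun l l' => by simp)
  let Φ₀ : ((K × K × K) →+ ZMod p) →+ K × K × K :=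
    (axis.comp Te.symm.toAddMonoidHom).comp
      (AddMonoidHom.compHom' (M := K) (N := K × K × K) (P := ZMod p) axis)
  have hfix := fixed_of_ti (G := G) σ H.σ_inj H.add (Subgroup.normalizer (Set.range σ))
    H.σ_mem_normalizer (fun g a h => H.conj_eq_σ h) (fun g hg a b h => H.eq_zero_of_conj hg h)
    (fun g Φ => dualAct p (ρ g) (ρ g) Φ) ?_ ?_ ?_ Φ₀ ?_ ?_ g
  · let f₁ : (K × K × K) →+ ZMod p := (T a).comp (AddMonoidHom.fst K (K × K))
    have h1 : Φ₀ f₁ = (a, 0, 0) := by
      show axis (Te.symm (f₁.comp axis)) = _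
      rw [show f₁.comp axis = T a from AddMonoidHom.ext fun l => rfl]
      show axis (Te.symm (Te a)) = _
      rw [AddEquiv.symm_apply_apply]; rfl
    have h2 := DFunLike.congr_fun hfix (f₁.comp (ρ g⁻¹))
    rw [dualAct_apply, show ((f₁.comp (ρ g⁻¹)).comp (ρ g)) = f₁ from
      AddMonoidHom.ext fun v => congrArg f₁ (cancel ρ g v), h1] at h2
    rw [h2]
    rfl
  · intro g h Φ
    ext f : 1
    simp only [dualAct_apply, apply_mul]
    refine congrArg _ (congrArg _ (congrArg _ (AddMonoidHom.ext fun v => ?_)))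
    exact congrArg f (apply_mul ρ g h v)
  · intro Φ
    ext f : 1
    simp only [dualAct_apply, map_one]
    rfl
  · intro g Φ Ψ
    ext f : 1
    simp [dualAct_apply]
  · intro h hh
    obtain ⟨φ, hφ⟩ := hN h hh
    ext f : 1
    rw [dualAct_apply]
    show ρ h (axis (Te.symm ((f.comp (ρ h)).comp axis))) = axis (Te.symm (f.comp axis))
    rw [show axis (Te.symm ((f.comp (ρ h)).comp axis)) = (Te.symm ((f.comp (ρ h)).comp axis), 0, 0)
      from rfl, hφ]
    refine congrArg (fun x => (x, (0 : K), (0 : K))) ?_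
    obtain ⟨κ, hκ⟩ := Te.surjective (f.comp axis)
    rw [← hκ, AddEquiv.symm_apply_apply]
    have he : (f.comp (ρ h)).comp axis = Te (φ.symm κ) := by
      ext l
      show f (ρ h (l, 0, 0)) = Algebra.trace (ZMod p) K (φ.symm κ * l)
      rw [hφ, show f (φ l, 0, 0) = T κ (φ l) from (DFunLike.congr_fun hκ (φ l)).symm]
      show Algebra.trace (ZMod p) K (κ * φ l) = _
      let ψ : K ≃ₐ[ZMod p] K := AlgEquiv.ofRingEquiv (f := φ) fun c =>
        RingHom.congr_fun (RingHom.ext_zmod (φ.toRingHom.comp (algebraMap (ZMod p) K))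
          (algebraMap (ZMod p) K)) c
      rw [← Algebra.trace_eq_of_algEquiv ψ (φ.symm κ * l)]
      refine congrArg _ ?_
      show κ * φ l = φ (φ.symm κ * l)
      rw [map_mul, RingEquiv.apply_symm_apply]
    rw [he, AddEquiv.symm_apply_apply, RingEquiv.apply_symm_apply]
  · intro Φ
    refine sum_field_eq_zero hK ?_ (k := d + d) ?_ hlt
    · intro Ψ
      ext f : 1
      refine Prod.ext ?_ (Prod.ext ?_ ?_) <;>
        simp [nsmul_eq_mul, CharP.cast_eq_zero K p]
    · let β : AddMonoid.End (K × K × K) →+ AddMonoid.End (K × K × K) →+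
          ((K × K × K) →+ ZMod p) →+ K × K × K :=
        AddMonoidHom.mk' (fun u => AddMonoidHom.mk' (fun w => dualAct p u w Φ)
          (fun w w' => by
            ext f : 1
            simp only [dualAct_apply, AddMonoidHom.add_apply]
            rw [← map_add, ← map_add]
            refine congrArg _ (congrArg _ (AddMonoidHom.ext fun v => ?_))
            exact map_add f _ _))
          (fun u u' => by ext w f : 2; rfl)
      exact Deg.map₂ β hd hd

end Seeds

/-! ### The plane quotient -/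

/-- The action on the last two coordinates, when the first axis is invariant. -/
def planeAct (ρ : G →* AddMonoid.End (K × K × K)) (hZa : ∀ g a, (ρ g (a, 0, 0)).2 = 0) :
    G →* AddMonoid.End (K × K) where
  toFun g := AddMonoidHom.mk' (fun v => (ρ g (0, v)).2) fun v w => by
    rw [← Prod.snd_add, ← map_add]; simp
  map_one' := by ext v : 1; show (ρ 1 (0, v)).2 = v; rw [map_one]; rfl
  map_mul' g h := by
    ext v : 1
    show (ρ (g * h) (0, v)).2 = (ρ g (0, (ρ h (0, v)).2)).2
    rw [apply_mul]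
    conv_lhs => rw [show ρ h (0, v) = ((ρ h (0, v)).1, 0, 0) + (0, (ρ h (0, v)).2) by
      refine Prod.ext ?_ ?_ <;> simp]
    rw [map_add, Prod.snd_add, hZa, zero_add]

theorem planeAct_apply (hZa : ∀ g a, (ρ g (a, 0, 0)).2 = 0) (g : G) (v : K × K) :
    planeAct ρ hZa g v = (ρ g (0, v)).2 := rfl

/-- The action on the first axis. -/
def axisAct (ρ : G →* AddMonoid.End (K × K × K)) (g : G) : K →+ K :=
  AddMonoidHom.mk' (fun l => (ρ g (l, 0, 0)).1) fun l l' => by
    rw [← Prod.fst_add, ← map_add]; simp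

section Plane

variable [Finite G] [Fintype K] [Fact p.Prime] [CharP K p] (H : Hyp p ρ σ)
variable (hZa : ∀ g a, (ρ g (a, 0, 0)).2 = 0)
include H hZa

theorem axis_eq (g : G) (l : K) : ρ g (l, 0, 0) = (axisAct ρ g l, 0, 0) :=
  Prod.ext rfl (hZa g l)

theorem axisAct_mul (g h : G) (l : K) : axisAct ρ (g * h) l = axisAct ρ g (axisAct ρ h l) := by
  show (ρ (g * h) (l, 0, 0)).1 = _
  rw [apply_mul, axis_eq H hZa]
  rfl

theorem planeAct_σ (s : K) (b c : K) : planeAct ρ hZa (σ s) (b, c) = (b + s * c, c) := by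
  rw [planeAct_apply, H.form]; simp [upper]

theorem axisAct_σ (s l : K) : axisAct ρ (σ s) l = l := by
  show (ρ (σ s) (l, 0, 0)).1 = l
  rw [H.form]; simp [upper]

theorem axisAct_conj (g : G) (s l : K) : axisAct ρ (g * σ s * g⁻¹) l = l := by
  rw [axisAct_mul H hZa, axisAct_mul H hZa, axisAct_σ H hZa, ← axisAct_mul H hZa, mul_inv_cancel]
  show (ρ 1 (l, 0, 0)).1 = l
  rw [map_one]; rfl

/-- Semilinearity on the plane. -/
theorem semilinear {n : ℕ} (hK : Fintype.card K = p ^ n) (hlt : 2 < n * (p - 1))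
    (hN : ∀ h ∈ Subgroup.normalizer (Set.range σ), ∀ l v,
      planeAct ρ hZa h (l • v) = axisAct ρ h l • planeAct ρ hZa h v) (g : G) (l : K) (v : K × K) :
    planeAct ρ hZa g (l • v) = axisAct ρ g l • planeAct ρ hZa g v := by
  set V := planeAct ρ hZa with hV
  let act : G → (K →+ AddMonoid.End (K × K)) → (K →+ AddMonoid.End (K × K)) := fun g Ψ =>
    AddMonoidHom.mk' (fun l => V g * Ψ (axisAct ρ g⁻¹ l) * V g⁻¹) fun l l' => by
      rw [map_add, map_add, mul_add, add_mul]
  have hact : ∀ g Ψ l v, act g Ψ l v = V g (Ψ (axisAct ρ g⁻¹ l) (V g⁻¹ v)) := fun _ _ _ _ => rfl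
  let Ψ₀ : K →+ AddMonoid.End (K × K) := AddMonoidHom.mk' (fun l => AddMonoidHom.mk'
    (fun v => l • v) (fun v w => smul_add l v w)) (fun l l' => by ext v : 1; exact add_smul l l' v)
  have hVinv : ∀ g v, V g (V g⁻¹ v) = v := fun g v => by
    show (V g * V g⁻¹) v = v
    rw [← map_mul, mul_inv_cancel, map_one]; rfl
  have hVinv' : ∀ g v, V g⁻¹ (V g v) = v := fun g v => by
    show (V g⁻¹ * V g) v = v
    rw [← map_mul, inv_mul_cancel, map_one]; rfl
  have hfix := fixed_of_ti (G := G) σ H.σ_inj H.add (Subgroup.normalizer (Set.range σ))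
    H.σ_mem_normalizer (fun g a h => H.conj_eq_σ h) (fun g hg a b h => H.eq_zero_of_conj hg h)
    act ?_ ?_ ?_ Ψ₀ ?_ ?_ g
  · have h1 := DFunLike.congr_fun (DFunLike.congr_fun hfix (axisAct ρ g l)) (V g v)
    rw [hact, hVinv', ← axisAct_mul H hZa, inv_mul_cancel] at h1
    have : axisAct ρ 1 l = l := by show (ρ 1 (l, 0, 0)).1 = l; rw [map_one]; rfl
    rw [this] at h1
    exact h1
  · intro g h Ψ
    ext l v : 2
    rw [hact, hact, hact, mul_inv_rev, axisAct_mul H hZa, map_mul, map_mul]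
    rfl
  · intro Ψ
    ext l v : 2
    rw [hact, inv_one, map_one, show axisAct ρ 1 l = l by show (ρ 1 (l, 0, 0)).1 = l; rw [map_one]; rfl]
    rfl
  · intro g Ψ Ψ'
    ext l v : 2
    rw [hact]
    show V g (Ψ (axisAct ρ g⁻¹ l) (V g⁻¹ v) + Ψ' (axisAct ρ g⁻¹ l) (V g⁻¹ v)) = _
    rw [map_add]
    rfl
  · intro h hh
    ext l v : 2
    rw [hact]
    show V h (axisAct ρ h⁻¹ l • V h⁻¹ v) = l • v
    rw [hN h hh, hVinv, ← axisAct_mul H hZa, mul_inv_cancel]
    show (ρ 1 (l, 0, 0)).1 • v = l • v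
    rw [map_one]; rfl
  · intro Ψ
    refine sum_field_eq_zero hK ?_ (k := 1 + 1) ?_ hlt
    · intro Φ
      ext l v : 2
      refine Prod.ext ?_ ?_ <;> simp [nsmul_eq_mul, CharP.cast_eq_zero K p]
    · let β : AddMonoid.End (K × K) →+ AddMonoid.End (K × K) →+ K →+ AddMonoid.End (K × K) :=
        AddMonoidHom.mk' (fun u => AddMonoidHom.mk' (fun w => AddMonoidHom.mk'
          (fun l => u * Ψ l * w) fun l l' => by rw [map_add, mul_add, add_mul])
          (fun w w' => by ext1 l; exact mul_add _ _ _))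
          (fun u u' => by ext1 w; ext1 l; show (u + u') * Ψ l * w = _; rw [add_mul, add_mul]; rfl)
      let L : K →+ AddMonoid.End (K × K) := AddMonoidHom.mk' (fun s => AddMonoidHom.mk'
        (fun v => (s * v.2, (0 : K))) fun v w => by simp [mul_add]) fun s s' => by
          ext v : 1; show ((s + s') * v.2, (0 : K)) = (s * v.2, (0 : K)) + (s' * v.2, (0 : K)); simp [add_mul]
      have hVs : ∀ s, V (σ s) = L s + 1 := fun s => by
        ext v : 1
        show V (σ s) (v.1, v.2) = (s * v.2, (0 : K)) + v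
        rw [hV, planeAct_σ H hZa]
        refine Prod.ext ?_ ?_ <;> simp [add_comm]
      have e : (fun s => act (σ s) Ψ) = fun s => β (L s + 1) ((L.comp (-AddMonoidHom.id K)) s + 1) := by
        funext s
        ext l v : 2
        rw [hact, ← H.σ_neg, axisAct_σ H hZa, hVs, hVs]
        rfl
      rw [e]
      exact Deg.map₂ β ((deg_addHom L).add (deg_const 1 1))
        ((deg_addHom (L.comp (-AddMonoidHom.id K))).add (deg_const 1 1))

/-- A diagonal element. -/
theorem exists_diag (hlin : ∀ g s (l : K) (v : K × K),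
      planeAct ρ hZa (g * σ s * g⁻¹) (l • v) = l • planeAct ρ hZa (g * σ s * g⁻¹) v)
    {g₀ : G} (hg₀ : g₀ ∉ Subgroup.normalizer (Set.range σ)) {t : K} (ht : t ≠ 0) :
    ∃ g, (∀ l, ρ g (l, 0, 0) = (l, 0, 0)) ∧
      ∀ b c, planeAct ρ hZa g (b, c) = (t * b, t⁻¹ * c) := by
  set V := planeAct ρ hZa with hV
  have hu := planeAct_σ H hZa
  have hWiff : ∀ g a b, (ρ g (a, b, 0)).2.2 = (V g (b, 0)).2 := fun g a b => by
    rw [show ((a, b, (0 : K)) : K × K × K) = (a, 0, 0) + (0, b, 0) by simp, map_add, Prod.snd_add,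
      hZa, zero_add]
    rfl
  have hmem : ∀ g, (∀ b, (V g (b, 0)).2 = 0) → g ∈ Subgroup.normalizer (Set.range σ) := fun g h =>
    H.mem_normalizer_of_invariant (fun a b => by rw [hWiff, h]) fun a => by rw [hZa]; simp
  obtain ⟨g₁, hg₁⟩ : ∃ g₁, ∀ b, b ≠ 0 → (V g₁ (b, 0)).2 ≠ 0 := by
    by_contra hne
    push Not at hne
    refine hg₀ (hmem g₀ fun b => Plane.axis_invariant V σ hu (fun g s h => ?_) hne g₀ b)
    obtain ⟨b', hb'⟩ := H.conj_eq_σ (hmem _ h)
    exact ⟨b', by rw [hb']⟩
  let Lfix : Subgroup G :=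
    { carrier := {g | ∀ l, ρ g (l, 0, 0) = (l, 0, 0)}
      one_mem' := fun l => by rw [map_one]; rfl
      mul_mem' := fun {a b} ha hb l => by rw [apply_mul, hb, ha]
      inv_mem' := fun {a} ha l => by conv_lhs => rw [← ha l]; rw [cancel] }
  have hcl : Subgroup.closure {x : G | ∃ h s, x = h * σ s * h⁻¹} ≤ Lfix := by
    rw [Subgroup.closure_le]
    rintro _ ⟨h, s, rfl⟩ l
    rw [axis_eq H hZa, axisAct_conj H hZa]
  obtain ⟨m, hm, hmv⟩ := Plane.exists_lower V σ hu hlin hg₁ (-t⁻¹)
  obtain ⟨k, hk, hkv⟩ := Plane.exists_lower V σ hu hlin hg₁ (1 : K)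
  have hσL : ∀ s, σ s ∈ Lfix := fun s l => by rw [H.form]; simp [upper]
  refine ⟨σ t * m * σ t * (σ (-1) * k * σ (-1)), ?_, fun b c => ?_⟩
  · exact mul_mem (mul_mem (mul_mem (hσL _) (hcl hm)) (hσL _))
      (mul_mem (mul_mem (hσL _) (hcl hk)) (hσL _))
  · simp only [map_mul]
    show V (σ t) (V m (V (σ t) (V (σ (-1)) (V k (V (σ (-1)) (b, c)))))) = _
    rw [hV, hu, ← hV, hkv, hV, hu, hu, ← hV, hmv, hV, hu]
    refine Prod.ext ?_ ?_ <;> · field_simp; ring

/-- The normaliser has no such diagonal element. -/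
theorem false_of_lin (hlin : ∀ g s (l : K) (v : K × K),
      planeAct ρ hZa (g * σ s * g⁻¹) (l • v) = l • planeAct ρ hZa (g * σ s * g⁻¹) v)
    (hN : ∀ h ∈ Subgroup.normalizer (Set.range σ), ∃ φ₁ ω φ π o₁ o₂,
      Shape (ρ h) φ₁ ω φ π o₁ o₂)
    {g₀ : G} (hg₀ : g₀ ∉ Subgroup.normalizer (Set.range σ)) {t : K} (ht : t ≠ 0)
    (ht3 : t ^ 3 ≠ 1) : False := by
  obtain ⟨g, hga, hgv⟩ := exists_diag H hZa hlin hg₀ ht
  have hb : ∀ b c, (ρ g (0, b, c)).2 = (t * b, t⁻¹ * c) := hgv
  have hgN : g ∈ Subgroup.normalizer (Set.range σ) := by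
    refine H.mem_normalizer_of_invariant (fun a b => ?_) fun a => by rw [hga]; simp
    rw [show ((a, b, (0 : K)) : K × K × K) = (a, 0, 0) + (0, b, 0) by simp, map_add, Prod.snd_add,
      hga, hb]
    simp
  obtain ⟨φ₁, ω, φ, π, o₁, o₂, h1, h2, hs⟩ := hN g hgN
  have e0 := hs 0 0 0
  rw [show ((0 : K), (0 : K), (0 : K)) = (0 : K × K × K) from rfl, map_zero] at e0
  have e1 := (hga 1).symm.trans (hs 1 0 0)
  have e2 := (hb 1 0).symm.trans (congrArg Prod.snd (hs 0 1 0))
  have e3 := congrArg Prod.snd ((hb 0 1).symm.trans (congrArg Prod.snd (hs 0 0 1)))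
  simp [Prod.ext_iff] at e0 e1 e2 e3
  obtain ⟨e0a, e0b⟩ := e0
  have k1 : φ₁ ^ 2 * ω = 1 := by linear_combination e0a - e1.1
  have k2 : φ₁ * ω = t := by linear_combination e0b - e2
  refine ht3 ?_
  have k3 : ω * t = 1 := by rw [← e3, inv_mul_cancel₀ ht]
  have hφ : φ₁ = t ^ 2 := by linear_combination t * k2 - φ₁ * k3
  linear_combination k1 - t ^ 3 * k3 - ω * (φ₁ + t ^ 2) * hφ

end Plane

end Cfsg.Agent.Fusion.SpFour.Module
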