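import Cfsg.Agent.Lib.Fusion.SpFour.Radical
import Cfsg.Agent.Lib.Fusion.SpFour.Module

/-!
The automizer of the abelian radical as a group of additive maps of `K³`.
-/

set_option autoImplicit false
set_option linter.unusedSectionVars false

namespace Cfsg.Agent.Fusion.SpFour

open Cfsg Cfsg.FusionSystem

universe u

variable {Ω : Type u} [Group Ω] {S : Subgroup Ω} {F : FusionSystem S} {p : ℕ}

/-- An automorphism of a normalized receptive subgroup normalising `Aut_S(R)` extends to `S`. -/
theorem exists_extend_top [Finite S] {R : Subgroup Ω}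
    (hSR : S ≤ Subgroup.normalizer (R : Set Ω)) (hR : F.IsReceptive R) {a : MulAut R}
    (ha : a ∈ F.autGroup R) (hnorm : ∀ c ∈ autInducedBy S R, a * c * a⁻¹ ∈ autInducedBy S R) :
    ∃ α ∈ F.autGroup S, ∀ (x : R) (hx : (x : Ω) ∈ S),
      ((α ⟨x, hx⟩ : S) : Ω) = ((a x : R) : Ω) := by
  obtain ⟨hφ, hr⟩ := hom_of_mem_autGroup hR.1 ha
  have hle : S ≤ extender S R (R.subtype.comp a.toMonoidHom) := by
    intro g hg
    refine (mem_extender_iff_congr hφ hr).2 ⟨hg, hSR hg, ?_⟩
    have he : homEquiv hφ hr = a := MulEquiv.ext fun x => Subtype.ext rfl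
    rw [he]
    convert hnorm _ (conjAut_mem_autInducedBy hg (hSR hg)) using 1
    exact MulEquiv.ext fun y => rfl
  obtain ⟨ψ, hψ, hext⟩ := exists_extension hR hφ hr hle
  have hψr : ψ.range = S := range_eq_of_le hψ le_rfl (apply_mem hψ) le_rfl
  refine ⟨toAut hψ hψr, toAut_mem hψ hψr, fun x hx => ?_⟩
  exact hext x x.2 hx

variable {K : Type*} [Field K] (e : U4 K ≃* S)

/-- An automorphism of `S` in coordinates. -/
def pull (α : MulAut S) : U4 K ≃* U4 K := e.trans (α.trans e.symm)

theorem el_pull (α : MulAut S) (g : U4 K) :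
    el e (pull e α g) = ((α ⟨el e g, el_mem e g⟩ : S) : Ω) :=
  congrArg Subtype.val (e.apply_symm_apply (α (e g)))

/-- A point of the abelian radical. -/
def vecA (v : K × K × K) : img e (U4.radA K) := ⟨el e (U4.vec v), (el_mem_img e).2 rfl⟩

theorem coe_vecA (v : K × K × K) : (vecA e v : Ω) = el e (U4.vec v) := rfl

theorem vecA_add (v w : K × K × K) : vecA e (v + w) = vecA e v * vecA e w := by
  refine Subtype.ext ?_
  rw [Subgroup.coe_mul, coe_vecA, coe_vecA, coe_vecA, ← el_mul]
  refine congrArg _ ?_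
  ext <;> simp

/-- The coordinates of a point of the abelian radical. -/
def coA (x : img e (U4.radA K)) : K × K × K :=
  ((co e (img_le e _ x.2)).a, (co e (img_le e _ x.2)).b, (co e (img_le e _ x.2)).c)

theorem vecA_coA (x : img e (U4.radA K)) : vecA e (coA e x) = x := by
  refine Subtype.ext ?_
  rw [coe_vecA]
  have h : co e (img_le e _ x.2) ∈ U4.radA K :=
    (el_mem_img e).1 (by rw [el_co]; exact x.2)
  rw [coA, ← U4.eq_vec h, el_co]

theorem vecA_injective : Function.Injective (vecA e) := fun v w h => by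
  have h' : U4.vec v = U4.vec w := (el_inj e).1 (congrArg (fun x : img e (U4.radA K) => (x : Ω)) h)
  exact Prod.ext (congrArg U4.a h') (Prod.ext (congrArg U4.b h') (congrArg U4.c h'))

theorem coA_vecA (v : K × K × K) : coA e (vecA e v) = v :=
  vecA_injective e (vecA_coA e _)

/-- Automorphisms of the abelian radical as additive maps. -/
def actA : MulAut (img e (U4.radA K)) →* AddMonoid.End (K × K × K) where
  toFun a := AddMonoidHom.mk' (fun v => coA e (a (vecA e v))) fun v w => vecA_injective e (by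
    rw [vecA_coA, vecA_add, vecA_add, vecA_coA, vecA_coA, map_mul])
  map_one' := by ext v : 1; exact coA_vecA e v
  map_mul' a b := by
    ext v : 1
    show coA e ((a * b) (vecA e v)) = coA e (a (vecA e (coA e (b (vecA e v)))))
    rw [vecA_coA]
    rfl

theorem vecA_actA (a : MulAut (img e (U4.radA K))) (v : K × K × K) :
    vecA e (actA e a v) = a (vecA e v) := vecA_coA e _

theorem actA_injective : Function.Injective (actA e) := fun a b h => MulEquiv.ext fun x => by
  rw [← vecA_coA e x, ← vecA_actA, ← vecA_actA, h]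

/-- Conjugation by a complement element on the abelian radical. -/
noncomputable def sigA (s : K) : MulAut (img e (U4.radA K)) :=
  conjAut (le_normalizer_img e radA_normal (el_mem e (U4.sig s)))

theorem coe_sigA (s : K) (x : img e (U4.radA K)) :
    ((sigA e s x : img e (U4.radA K)) : Ω) =
      el e (U4.sig s) * (x : Ω) * (el e (U4.sig s))⁻¹ := rfl

theorem actA_sigA (s : K) (v : K × K × K) : actA e (sigA e s) v = Module.upper s v := by
  refine vecA_injective e (Subtype.ext ?_)
  rw [vecA_actA, coe_sigA, coe_vecA, coe_vecA, ← el_inv, ← el_mul, ← el_mul,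
    show v = (v.1, v.2.1, v.2.2) from rfl, U4.conj_vec]
  rfl

theorem autInducedBy_eq (c : MulAut (img e (U4.radA K))) :
    c ∈ autInducedBy S (img e (U4.radA K)) ↔ ∃ s, c = sigA e s := by
  constructor
  · intro hc
    obtain ⟨g, hg, hgx⟩ := mem_autInducedBy_iff.1 hc
    obtain ⟨k, rfl⟩ := exists_el e hg
    refine ⟨k.s, MulEquiv.ext fun x => Subtype.ext ?_⟩
    rw [hgx, coe_sigA, ← vecA_coA e x, coe_vecA, ← el_inv, ← el_inv, ← el_mul, ← el_mul,
      ← el_mul, ← el_mul, show coA e x = ((coA e x).1, (coA e x).2.1, (coA e x).2.2) from rfl,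
      U4.conj_vec, U4.conj_vec]
    rfl
  · rintro ⟨s, rfl⟩
    exact conjAut_mem_autInducedBy (el_mem e _) _

/-- The automorphisms fixing the core pointwise. -/
def fixCore (F : FusionSystem S) (R : Subgroup Ω) : Subgroup (F.autGroup R) where
  carrier := {a | ∀ x : R, (x : Ω) ∈ F.core → (a : MulAut R) x = x}
  one_mem' _ _ := rfl
  mul_mem' {a b} ha hb x hx := by rw [Subgroup.coe_mul, MulAut.mul_apply, hb x hx, ha x hx]
  inv_mem' {a} ha x hx := by
    rw [Subgroup.coe_inv]
    conv_lhs => rw [← ha x hx]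
    rw [MulAut.inv_apply_self]

theorem fixCore_normal [Finite S] {R : Subgroup Ω} (hR : R ≤ S) : (fixCore F R).Normal := by
  refine ⟨fun k hk g x hx => ?_⟩
  have h1 := apply_mem_of_stronglyClosed (stronglyClosed_of_isNormal (isNormal_core F)) hR
    (g⁻¹).2 hx
  rw [Subgroup.coe_mul, Subgroup.coe_mul, Subgroup.coe_inv, MulAut.mul_apply, MulAut.mul_apply,
    hk _ (by rwa [Subgroup.coe_inv] at h1), MulAut.apply_inv_self]

/-- The representation of `fixCore` on the abelian radical. -/
def repA (F : FusionSystem S) :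
    fixCore F (img e (U4.radA K)) →* AddMonoid.End (K × K × K) :=
  (actA e).comp ((F.autGroup _).subtype.comp (fixCore F _).subtype)

theorem repA_apply (g : fixCore F (img e (U4.radA K))) (v : K × K × K) :
    repA e F g v = actA e ((g : F.autGroup (img e (U4.radA K))) : MulAut _) v := rfl

theorem sigA_mem_autGroup (F : FusionSystem S) (s : K) :
    sigA e s ∈ F.autGroup (img e (U4.radA K)) :=
  autInducedBy_le_autGroup F (img_le e _) (conjAut_mem_autInducedBy (el_mem e _) _)

variable [Finite S] [Fact p.Prime]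

theorem sigA_mem_fixCore (hX : F.core ≤ centralizerIn S S) (s : K) :
    (⟨sigA e s, sigA_mem_autGroup e F s⟩ : F.autGroup _) ∈ fixCore F (img e (U4.radA K)) := by
  intro x hx
  refine Subtype.ext ?_
  rw [coe_sigA, (mem_centralizerIn.1 (hX hx)).2 _ (el_mem e _), mul_inv_cancel_right]

/-- Conjugation by the complement inside `fixCore`. -/
noncomputable def sigG (hX : F.core ≤ centralizerIn S S) (s : K) :
    fixCore F (img e (U4.radA K)) :=
  ⟨⟨sigA e s, sigA_mem_autGroup e F s⟩, sigA_mem_fixCore e hX s⟩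

/-- The module datum of the abelian radical. -/
theorem hyp_repA (hS : IsPGroup p S) (hF : F.IsSaturated p) (hX : F.core ≤ centralizerIn S S)
    (hn : F.IsFullyNormalized (img e (U4.radA K))) :
    Module.Hyp p (repA e F) (sigG e hX) := by
  refine ⟨?_, fun a b => ?_, fun s v => actA_sigA e s v, ?_⟩
  · intro g h hgh
    exact Subtype.ext (Subtype.ext (actA_injective e hgh))
  · refine Subtype.ext (Subtype.ext (MulEquiv.ext fun x => Subtype.ext ?_))
    show el e (U4.sig (a + b)) * (x : Ω) * (el e (U4.sig (a + b)))⁻¹ =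
      el e (U4.sig a) * (el e (U4.sig b) * (x : Ω) * (el e (U4.sig b))⁻¹) * (el e (U4.sig a))⁻¹
    rw [show U4.sig (a + b) = U4.sig a * U4.sig b by ext <;> simp, el_mul]
    group
  · obtain ⟨-, Y, hY⟩ := isFullyAutomized_of_fullyNormalized hS hF hn
    have hYle : (Y : Subgroup (F.autGroup _)) ≤ fixCore F (img e (U4.radA K)) := by
      intro a ha
      rw [hY] at ha
      obtain ⟨s, hs⟩ := (autInducedBy_eq e _).1 (Subgroup.mem_subgroupOf.1 ha)
      have : a = ⟨sigA e s, sigA_mem_autGroup e F s⟩ := Subtype.ext hs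
      rw [this]
      exact sigA_mem_fixCore e hX s
    refine ⟨Y.subtype hYle, Set.ext fun g => ?_⟩
    rw [SetLike.mem_coe, Sylow.coe_subtype, Subgroup.mem_subgroupOf]
    rw [hY, Subgroup.mem_subgroupOf, autInducedBy_eq]
    constructor
    · rintro ⟨s, hs⟩
      exact ⟨s, Subtype.ext (Subtype.ext hs.symm)⟩
    · rintro ⟨s, rfl⟩
      exact ⟨s, rfl⟩

/-- Elements of the normaliser are restrictions of automorphisms of `S`. -/
theorem exists_pull (hS : IsPGroup p S) (hF : F.IsSaturated p) (hX : F.core ≤ centralizerIn S S)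
    (hn : F.IsFullyNormalized (img e (U4.radA K))) {g : fixCore F (img e (U4.radA K))}
    (hg : g ∈ Subgroup.normalizer (Set.range (sigG e hX))) :
    ∃ α ∈ F.autGroup S, (∀ x : U4 K, x.s = 0 → (pull e α x).s = 0) ∧
      ∀ v, pull e α (U4.vec v) = U4.vec (repA e F g v) := by
  obtain ⟨α, hα, hext⟩ := exists_extend_top (le_normalizer_img e radA_normal)
    (isReceptive_of_fullyNormalized hS hF hn) (g : F.autGroup _).2 fun c hc => by
      obtain ⟨s, rfl⟩ := (autInducedBy_eq e c).1 hc
      obtain ⟨t, ht⟩ := (Subgroup.mem_set_normalizer_iff.1 hg (sigG e hX s)).1 ⟨s, rfl⟩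
      exact (autInducedBy_eq e _).2 ⟨t, congrArg (fun z : fixCore F (img e (U4.radA K)) => ((z : F.autGroup (img e (U4.radA K))) : MulAut (img e (U4.radA K)))) ht.symm⟩
  have hv : ∀ v, pull e α (U4.vec v) = U4.vec (repA e F g v) := fun v => by
    rw [← el_inj e, el_pull]
    refine (hext (vecA e v) (el_mem e _)).trans ?_
    rw [repA_apply, ← vecA_actA, coe_vecA]
  refine ⟨α, hα, fun x hx => ?_, hv⟩
  rw [U4.eq_vec hx, hv]
  rfl

/-- If the abelian radical is radical, the Sylow subgroup of `fixCore` is not normal. -/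
theorem exists_notMem_normalizer (hS : IsPGroup p S) (hF : F.IsSaturated p)
    (hX : F.core ≤ centralizerIn S S) (hn : F.IsFullyNormalized (img e (U4.radA K)))
    (hr : F.IsRadical p (img e (U4.radA K))) :
    ∃ g, g ∉ Subgroup.normalizer (Set.range (sigG e hX)) := by
  by_contra hall
  push Not at hall
  have := finite_of_le (Ω := Ω) hn.1
  have := finite_mulAut (Ω := Ω) hn.1
  have H := hyp_repA e hS hF hX hn
  obtain ⟨-, Y, hY⟩ := isFullyAutomized_of_fullyNormalized hS hF hn
  have hsY : ∀ s, (⟨sigA e s, sigA_mem_autGroup e F s⟩ : F.autGroup _) ∈ (Y : Subgroup _) :=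
    fun s => by
      rw [hY, Subgroup.mem_subgroupOf]
      exact (autInducedBy_eq e _).2 ⟨s, rfl⟩
  have hYn : (Y : Subgroup (F.autGroup (img e (U4.radA K)))).Normal := by
    refine ⟨fun k hk a => ?_⟩
    rw [hY, Subgroup.mem_subgroupOf] at hk
    obtain ⟨s, hs⟩ := (autInducedBy_eq e _).1 hk
    have hk' : k = (sigG e hX s).1 := Subtype.ext hs
    subst hk'
    have hmem : a * (sigG e hX s).1 * a⁻¹ ∈ fixCore F (img e (U4.radA K)) :=
      (fixCore_normal (img_le e _)).conj_mem _ (sigG e hX s).2 a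
    obtain ⟨m, hm⟩ := H.pow_σ s
    obtain ⟨t, ht⟩ := H.eq_σ_of_pow (hall ⟨_, hmem⟩) (k := m) (Subtype.ext (by
      show (a * (sigG e hX s).1 * a⁻¹) ^ p ^ m = 1
      rw [conj_pow, show (sigG e hX s).1 ^ p ^ m = 1 from congrArg Subtype.val hm, mul_one,
        mul_inv_cancel]))
    rw [show a * (sigG e hX s).1 * a⁻¹ = (sigG e hX t).1 from congrArg Subtype.val ht]
    exact hsY t
  have h1 : sigA e 1 ∈ (pCore p (F.autGroup _)).map (F.autGroup (img e (U4.radA K))).subtype :=
    ⟨_, PCore.le_pCore Y.isPGroup' (hsY 1), rfl⟩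
  rw [hr.2] at h1
  obtain ⟨x, hx⟩ := h1
  have h2 : Module.upper (1 : K) ((0 : K), (0 : K), (1 : K)) = ((0 : K), (0 : K), (1 : K)) := by
    rw [← actA_sigA e]
    refine vecA_injective e ?_
    rw [vecA_actA, ← hx, MulAut.conj_apply]
    rw [show x * vecA e (0, 0, 1) = vecA e (0, 0, 1) * x by
      rw [← vecA_coA e x, ← vecA_add, ← vecA_add, add_comm], mul_inv_cancel_right]
  simp [Module.upper] at h2

end Cfsg.Agent.Fusion.SpFour
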