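import Cfsg.Agent.Lib.Fusion.SpFour.ExtDef
import Mathlib.GroupTheory.SemidirectProduct
import Mathlib.GroupTheory.QuotientGroup.Basic
import Mathlib.Algebra.CharP.Two

/-!
At most four elements: the extension of `GL₃(K)` by `K` restricting to `U4 K` on a Sylow subgroup,
as a quotient of the monomial group over the nonzero row vectors.
-/

set_option autoImplicit false
set_option linter.unusedSectionVars false

namespace Cfsg.Agent.Fusion.SpFour.Ext

open Matrix

variable {K : Type*} [Field K]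

/-- The nonzero row vectors. -/
def Pts (K : Type*) [Field K] := {w : Fin 3 → K // w ≠ 0}

theorem vecMul_cancel {h : GL (Fin 3) K} (w : Fin 3 → K) :
    (w ᵥ* (↑h⁻¹ : M3 K)) ᵥ* (h : M3 K) = w := by
  rw [Matrix.vecMul_vecMul, ← Units.val_mul, inv_mul_cancel, Units.val_one, Matrix.vecMul_one]

/-- The action on row vectors through the inverse. -/
instance : MulAction (GL (Fin 3) K) (Pts K) where
  smul h w := ⟨w.1 ᵥ* (↑h⁻¹ : M3 K), fun e => w.2 (by
    have := vecMul_cancel (h := h) w.1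
    rw [e, Matrix.zero_vecMul] at this
    exact this.symm)⟩
  one_smul w := Subtype.ext (by
    show w.1 ᵥ* (↑(1 : GL (Fin 3) K)⁻¹ : M3 K) = w.1
    rw [inv_one, Units.val_one, Matrix.vecMul_one])
  mul_smul g h w := Subtype.ext (by
    show w.1 ᵥ* (↑(g * h)⁻¹ : M3 K) = (w.1 ᵥ* (↑h⁻¹ : M3 K)) ᵥ* (↑g⁻¹ : M3 K)
    rw [_root_.mul_inv_rev, Units.val_mul, Matrix.vecMul_vecMul])

theorem inv_smul_val (h : GL (Fin 3) K) (w : Pts K) : (h⁻¹ • w).1 = w.1 ᵥ* (h : M3 K) := by
  show w.1 ᵥ* (↑(h⁻¹)⁻¹ : M3 K) = _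
  rw [inv_inv]

/-- The orbit of the Sylow subgroup through a point, by the first nonzero coordinate. -/
noncomputable def base (w : Fin 3 → K) : Fin 3 → K := by
  classical
  exact if w 0 ≠ 0 then ![w 0, 0, 0] else if w 1 ≠ 0 then ![0, w 1, 0] else w

/-- An element carrying a point to the base of its orbit. -/
noncomputable def vv (w : Fin 3 → K) : U4 K := by
  classical
  exact if w 0 ≠ 0 then (⟨w 1 / w 0, 0, w 2 / w 0, 0⟩ : U4 K)⁻¹
    else if w 1 ≠ 0 then (⟨0, 0, 0, w 2 / w 1⟩ : U4 K)⁻¹ else 1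

/-- A matrix with last row the base point. -/
noncomputable def R0 (w : Fin 3 → K) : M3 K := by
  classical
  exact if w 0 ≠ 0 then !![0, 0, (w 0)⁻¹; 0, 1, 0; w 0, 0, 0]
    else if w 1 ≠ 0 then !![1, 0, 0; 0, 0, (w 1)⁻¹; 0, w 1, 0]
    else !![(w 2)⁻¹, 0, 0; 0, 1, 0; 0, 0, w 2]

/-- Its inverse. -/
noncomputable def R0' (w : Fin 3 → K) : M3 K := by
  classical
  exact if w 0 ≠ 0 then !![0, 0, (w 0)⁻¹; 0, 1, 0; w 0, 0, 0]
    else if w 1 ≠ 0 then !![1, 0, 0; 0, 0, (w 1)⁻¹; 0, w 1, 0]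
    else !![w 2, 0, 0; 0, 1, 0; 0, 0, (w 2)⁻¹]

/-- The coset representative, inverted. -/
noncomputable def rinv (w : Fin 3 → K) : M3 K := R0 w * uMat (vv w)⁻¹

/-- The coset representative. -/
noncomputable def rr (w : Fin 3 → K) : M3 K := uMat (vv w) * R0' w

theorem w2_ne {w : Fin 3 → K} (hw : w ≠ 0) (h0 : ¬w 0 ≠ 0) (h1 : ¬w 1 ≠ 0) : w 2 ≠ 0 := by
  intro h2
  push Not at h0 h1
  exact hw (funext fun i => by fin_cases i <;> simp [h0, h1, h2])

theorem R0_mul {w : Fin 3 → K} (hw : w ≠ 0) : R0 w * R0' w = 1 ∧ R0' w * R0 w = 1 := by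
  unfold R0 R0'
  split_ifs with h0 h1
  · constructor <;> ext i j <;> fin_cases i <;> fin_cases j <;>
      simp [Matrix.mul_apply, Fin.sum_univ_three, h0]
  · constructor <;> ext i j <;> fin_cases i <;> fin_cases j <;>
      simp [Matrix.mul_apply, Fin.sum_univ_three, h1]
  · have := w2_ne hw h0 h1
    constructor <;> ext i j <;> fin_cases i <;> fin_cases j <;>
      simp [Matrix.mul_apply, Fin.sum_univ_three, this]

theorem uMat_inv_mul (g : U4 K) : uMat g⁻¹ * uMat g = 1 ∧ uMat g * uMat g⁻¹ = 1 := by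
  rw [← uMat_mul, ← uMat_mul, inv_mul_cancel, mul_inv_cancel, uMat_one]
  exact ⟨rfl, rfl⟩

theorem rr_mul {w : Fin 3 → K} (hw : w ≠ 0) : rr w * rinv w = 1 ∧ rinv w * rr w = 1 := by
  constructor
  · rw [rr, rinv, Matrix.mul_assoc, ← Matrix.mul_assoc (R0' w), (R0_mul hw).2, Matrix.one_mul,
      (uMat_inv_mul _).2]
  · rw [rr, rinv, Matrix.mul_assoc, ← Matrix.mul_assoc (uMat (vv w)⁻¹), (uMat_inv_mul _).1,
      Matrix.one_mul, (R0_mul hw).1]

theorem vecMul_vv (w : Fin 3 → K) : w ᵥ* uMat (vv w) = base w := by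
  unfold vv base
  split_ifs with h0 h1
  · funext i
    fin_cases i <;> simp [uMat, Matrix.vecMul, dotProduct, Fin.sum_univ_three] <;> field_simp <;>
      ring
  · push Not at h0
    funext i
    fin_cases i <;> simp [uMat, Matrix.vecMul, dotProduct, Fin.sum_univ_three, h0] <;>
      field_simp <;> ring
  · simp [uMat_one]

theorem base_row {w : Fin 3 → K} (j : Fin 3) : R0 w 2 j = base w j := by
  unfold R0 base
  split_ifs with h0 h1
  · fin_cases j <;> simp
  · fin_cases j <;> simp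
  · push Not at h0 h1
    fin_cases j <;> simp [h0, h1]

theorem base_inv (w : Fin 3 → K) : base w ᵥ* uMat (vv w)⁻¹ = w := by
  rw [← vecMul_vv, Matrix.vecMul_vecMul, (uMat_inv_mul _).2, Matrix.vecMul_one]

theorem rinv_row (w : Fin 3 → K) (j : Fin 3) : rinv w 2 j = w j := by
  conv_rhs => rw [← base_inv w]
  simp only [rinv, Matrix.mul_apply, Matrix.vecMul, dotProduct, base_row]

theorem base_smul (w : Fin 3 → K) (g : U4 K) : base (w ᵥ* uMat g) = base w := by
  have e0 : (w ᵥ* uMat g) 0 = w 0 := by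
    simp [uMat, Matrix.vecMul, dotProduct, Fin.sum_univ_three]
  by_cases h0 : w 0 ≠ 0
  · simp [base, e0, h0]
  push Not at h0
  have e1 : (w ᵥ* uMat g) 1 = w 1 := by
    simp [uMat, Matrix.vecMul, dotProduct, Fin.sum_univ_three, h0]
  by_cases h1 : w 1 ≠ 0
  · simp [base, e0, e1, h0, h1]
  push Not at h1
  simp only [base, e0, e1, h0, h1, ne_eq, not_true_eq_false, ↓reduceIte]
  funext i
  fin_cases i <;> simp [uMat, Matrix.vecMul, dotProduct, Fin.sum_univ_three, h0, h1]

theorem base_ne {w : Fin 3 → K} (hw : w ≠ 0) : base w ≠ 0 := by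
  intro e
  have := base_inv w
  rw [e, Matrix.zero_vecMul] at this
  exact hw this.symm

variable [CharP K 2]

theorem det_R0 {w : Fin 3 → K} (hw : w ≠ 0) : (R0 w).det = 1 ∧ (R0' w).det = 1 := by
  unfold R0 R0'
  split_ifs with h0 h1
  · simp [Matrix.det_fin_three, h0, CharTwo.neg_eq]
  · simp [Matrix.det_fin_three, h1, CharTwo.neg_eq]
  · have := w2_ne hw h0 h1
    simp [Matrix.det_fin_three, this]

theorem det_rinv {w : Fin 3 → K} (hw : w ≠ 0) : (rinv w).det = 1 ∧ (rr w).det = 1 := by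
  rw [rinv, rr, Matrix.det_mul, Matrix.det_mul, det_uMat, det_uMat, (det_R0 hw).1, (det_R0 hw).2,
    mul_one]
  exact ⟨rfl, rfl⟩

/-- The monomial group. -/
abbrev Mon (K : Type*) [Field K] :=
  (Pts K → GL (Fin 4) K) ⋊[mulAutArrow] GL (Fin 3) K

theorem mon_mul_left (x y : Mon K) (c : Pts K) :
    (x * y).left c = x.left c * y.left (x.right⁻¹ • c) := rfl

variable [Fintype K]

/-- The monomial preimage of `GL₃(K)`. -/
def monSet (K : Type*) [Field K] : Set (Mon K) :=
  {x | ∀ c, IsAff (x.left c : M4 K) ∧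
    proj (x.left c : M4 K) = rinv c.1 * (x.right : M3 K) * rr (x.right⁻¹ • c).1}

instance : Finite (Pts K) := inferInstanceAs (Finite {w : Fin 3 → K // w ≠ 0})

instance : Finite (Mon K) := Finite.of_equiv _ SemidirectProduct.equivProd.symm

/-- A submonoid of a finite group as a subgroup. -/
def toSub {G : Type*} [Group G] [Finite G] (M : Set G) (h1 : 1 ∈ M)
    (hm : ∀ a b, a ∈ M → b ∈ M → a * b ∈ M) : Subgroup G where
  carrier := M
  one_mem' := h1
  mul_mem' {a b} := hm a b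
  inv_mem' {a} ha := by
    have hp : ∀ n : ℕ, a ^ n ∈ M := fun n => by
      induction n with
      | zero => simpa using h1
      | succ n ih => rw [pow_succ]; exact hm _ _ ih ha
    have : a⁻¹ = a ^ (orderOf a - 1) := by
      refine inv_eq_of_mul_eq_one_left ?_
      rw [← pow_succ, Nat.sub_add_cancel (orderOf_pos a), pow_orderOf_eq_one]
    rw [this]
    exact hp _

variable (hK : Fintype.card K ≤ 4)

/-- The monomial group over `GL₃(K)`. -/
def monSub : Subgroup (Mon K) :=
  toSub (monSet K)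
    (fun c => by
      rw [SemidirectProduct.one_left, SemidirectProduct.one_right]
      refine ⟨isAff_one, ?_⟩
      rw [show ((1 : Pts K → GL (Fin 4) K) c : M4 K) = 1 from rfl, proj_one, Units.val_one,
        Matrix.mul_one, inv_one, one_smul, (rr_mul c.2).2])
    fun x y hx hy c => by
      rw [mon_mul_left, Units.val_mul]
      refine ⟨isAff_mul hK (hx c).1 (hy _).1, ?_⟩
      rw [proj_mul (hx c).1, (hx c).2, (hy _).2, SemidirectProduct.mul_right, Units.val_mul,
        _root_.mul_inv_rev, mul_smul]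
      simp only [Matrix.mul_assoc]
      rw [← Matrix.mul_assoc (rr _) (rinv _), (rr_mul (x.right⁻¹ • c).2).1, Matrix.one_mul]

omit [Fintype K] in
/-- Central elements of the monomial group. -/
def zEl (a : Pts K → K) : Mon K :=
  ⟨fun c => aHom (U4.vec (a c, 0, 0)), 1⟩

omit [Fintype K] in
theorem zEl_add (a b : Pts K → K) : zEl (a + b) = zEl a * zEl b := by
  refine SemidirectProduct.ext (funext fun c => ?_) (by simp [zEl])
  rw [mon_mul_left]
  simp only [zEl, inv_one, one_smul, ← map_mul]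
  congr 1
  ext <;> simp

omit [Fintype K] in
theorem zEl_zero : zEl (0 : Pts K → K) = 1 := by
  have h := zEl_add (0 : Pts K → K) 0
  rw [add_zero] at h
  exact left_eq_mul.1 h

include hK in
theorem zEl_mem (a : Pts K → K) : zEl a ∈ monSub hK := fun c => by
  refine ⟨isAff_aMat _, ?_⟩
  show proj (aMat _) = _
  rw [proj_aMat, uMat_vec_za]
  simp [zEl, (rr_mul c.2).2]

omit [Fintype K] in
theorem tr_comm {m : M4 K} (hm : IsAff m) (a : K) :
    m * aMat (U4.vec (a, 0, 0)) = aMat (U4.vec (m 0 0 * a, 0, 0)) * m := by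
  ext i j
  fin_cases i <;> fin_cases j <;>
    simp [aMat, Matrix.mul_apply, Fin.sum_univ_four, hm.h10, hm.h20, hm.h30, hm.h31, hm.h32,
      hm.h33] <;> ring

/-- The scalar by which an element acts on the centre. -/
def chi (h : GL (Fin 3) K) : K := (h : M3 K).det ^ 2

include hK in
theorem zEl_conj {x : Mon K} (hx : x ∈ monSub hK) (a : Pts K → K) :
    x * zEl a * x⁻¹ = zEl (fun c => chi x.right * a (x.right⁻¹ • c)) := by
  rw [mul_inv_eq_iff_eq_mul]
  refine SemidirectProduct.ext (funext fun c => Units.ext ?_) (by simp [zEl])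
  rw [mon_mul_left, mon_mul_left, Units.val_mul, Units.val_mul]
  simp only [zEl, inv_one, one_smul, coe_aHom]
  rw [tr_comm (hx c).1, ← det_proj (hx c).1, (hx c).2, Matrix.det_mul, Matrix.det_mul,
    (det_rinv c.2).1, (det_rinv (x.right⁻¹ • c).2).2, one_mul, mul_one]
  rfl

noncomputable instance : Fintype (Pts K) := Fintype.ofFinite _

/-- The kernel of the summation. -/
def sumZero : Subgroup (monSub hK) where
  carrier := {x | ∃ a : Pts K → K, ∑ c, a c = 0 ∧ (x : Mon K) = zEl a}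
  one_mem' := ⟨0, by simp, zEl_zero.symm⟩
  mul_mem' {x y} := fun ⟨a, ha, hx⟩ ⟨b, hb, hy⟩ =>
    ⟨a + b, by simp [Finset.sum_add_distrib, ha, hb], by rw [Subgroup.coe_mul, hx, hy, zEl_add]⟩
  inv_mem' {x} := fun ⟨a, ha, hx⟩ => ⟨a, ha, by
    rw [Subgroup.coe_inv, hx]
    refine inv_eq_of_mul_eq_one_right ?_
    rw [← zEl_add, show a + a = 0 from funext fun c => CharTwo.add_self_eq_zero (a c), zEl_zero]⟩

instance : (sumZero hK).Normal := ⟨fun x ⟨a, ha, hx⟩ g => ⟨_, by
    rw [← Finset.mul_sum, show (∑ c, a ((g : Mon K).right⁻¹ • c)) = ∑ c, a c from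
      Fintype.sum_equiv (MulAction.toPerm (g : Mon K).right⁻¹) _ _ fun _ => rfl, ha, mul_zero],
  by rw [Subgroup.coe_mul, Subgroup.coe_mul, Subgroup.coe_inv, hx, zEl_conj hK g.2]⟩⟩

/-- The extension. -/
abbrev Grp := monSub hK ⧸ sumZero hK

/-- The projection to `GL₃(K)`. -/
def toGL : Grp hK →* GL (Fin 3) K :=
  QuotientGroup.lift _ (SemidirectProduct.rightHom.comp (monSub hK).subtype) fun x ⟨a, _, hx⟩ => by
    show (x : Mon K).right = 1
    rw [hx]; rfl

include hK in
theorem toGL_surjective : Function.Surjective (toGL hK) := by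
  intro h
  have hrow : ∀ c : Pts K, ∀ j, (rinv c.1 * (h : M3 K) * rr (h⁻¹ • c).1) 2 j = (1 : M3 K) 2 j := by
    intro c j
    have e1 : ∀ j, (rinv c.1 * (h : M3 K)) 2 j = (h⁻¹ • c).1 j := fun j => by
      rw [inv_smul_val]
      simp only [Matrix.mul_apply, Matrix.vecMul, dotProduct, rinv_row]
    have e2 : ∀ j, (1 : M3 K) 2 j = ∑ k, rinv (h⁻¹ • c).1 2 k * rr (h⁻¹ • c).1 k j := fun j => by
      rw [← (rr_mul (h⁻¹ • c).2).2, Matrix.mul_apply]
    rw [e2, Matrix.mul_apply]
    exact Finset.sum_congr rfl fun k _ => by rw [e1, rinv_row]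
  have hdet : ∀ c : Pts K,
      (affOf (rinv c.1 * (h : M3 K) * rr (h⁻¹ • c).1)).det ≠ 0 := by
    intro c
    set M := rinv c.1 * (h : M3 K) * rr (h⁻¹ • c).1 with hM
    have hd : M.det ≠ 0 := by
      rw [hM, Matrix.det_mul, Matrix.det_mul, (det_rinv c.2).1, (det_rinv (h⁻¹ • c).2).2, one_mul,
        mul_one]
      exact (h.isUnit.map Matrix.detMonoidHom).ne_zero
    have e3 : proj (affOf M) = M := proj_affOf (by rw [hM, hrow]; rfl) (by rw [hM, hrow]; rfl)
      (by rw [hM, hrow]; rfl)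
    have e4 : ((affOf M).submatrix Fin.succ Fin.succ) = M := by
      refine Eq.trans ?_ e3
      ext i j
      fin_cases i <;> fin_cases j <;> rfl
    have hm := isAff_affOf (M := M)
    rw [Matrix.det_succ_column_zero, Fin.sum_univ_four]
    simp only [hm.h10, hm.h20, hm.h30, mul_zero, zero_mul, add_zero, Fin.succAbove_zero, e4,
      Fin.val_zero, pow_zero, one_mul, ← det_proj hm, e3]
    exact mul_ne_zero (pow_ne_zero 2 hd) hd
  refine ⟨QuotientGroup.mk ⟨⟨fun c => Matrix.GeneralLinearGroup.mkOfDetNeZero _ (hdet c), h⟩,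
    fun c => ⟨isAff_affOf, ?_⟩⟩, rfl⟩
  exact proj_affOf (by rw [hrow]; rfl) (by rw [hrow]; rfl) (by rw [hrow]; rfl)

/-! ### The Sylow subgroup -/

/-- The transported embedding on the stabiliser of a base point. -/
noncomputable def alpha (w : Fin 3 → K) (d : U4 K) : GL (Fin 4) K := by
  classical
  exact if w 0 ≠ 0 then lowU (d.c * w 0) d.a
    else if w 1 ≠ 0 then aHom ⟨d.b * w 1, d.a, d.s / w 1, 0⟩
    else aHom ⟨d.s / w 2, d.a, d.b / w 2 ^ 2, d.c / w 2⟩

omit [Fintype K] [CharP K 2] in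
theorem stab_coords {w : Fin 3 → K} {d : U4 K} (h : base w ᵥ* uMat d = base w) :
    (w 0 ≠ 0 → d.s = 0 ∧ d.b = 0) ∧ (¬w 0 ≠ 0 → w 1 ≠ 0 → d.c = 0) := by
  refine ⟨fun h0 => ?_, fun h0 h1 => ?_⟩
  · have e1 := congrFun h 1
    have e2 := congrFun h 2
    simp [base, h0, uMat, Matrix.vecMul, dotProduct, Fin.sum_univ_three] at e1 e2
    exact ⟨e1, e2⟩
  · have e2 := congrFun h 2
    simp [base, h0, h1, uMat, Matrix.vecMul, dotProduct, Fin.sum_univ_three] at e2
    exact e2

include hK in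
theorem alpha_mul {w : Fin 3 → K} (hw : w ≠ 0) {d d' : U4 K} (h : base w ᵥ* uMat d = base w)
    (h' : base w ᵥ* uMat d' = base w) : alpha w (d * d') = alpha w d * alpha w d' := by
  have h2 : (2 : K) = 0 := CharTwo.two_eq_zero
  obtain ⟨hx, hy⟩ := stab_coords h
  obtain ⟨hx', hy'⟩ := stab_coords h'
  unfold alpha
  split_ifs with h0 h1
  · refine Units.ext ?_
    show lowMat _ _ = lowMat _ _ * lowMat _ _
    rw [← lowMat_mul, U4.mul_c, U4.mul_a, (hx h0).1, add_mul]
    simp
  · rw [← map_mul]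
    congr 1
    ext <;> simp [hy h0 h1, hy' h0 h1, h2] <;> ring
  · rw [← map_mul]
    congr 1
    have hz := w2_ne hw h0 h1
    have h3 := U4.pow_three_eq hK hz
    ext
    · simp [add_div]
    · simp [h2]
      field_simp
      linear_combination (d.s ^ 2 * d'.c) * h3
    · simp
      field_simp
    · simp [add_div]

include hK in
theorem proj_alpha {w : Fin 3 → K} (hw : w ≠ 0) {d : U4 K} (h : base w ᵥ* uMat d = base w) :
    IsAff (alpha w d : M4 K) ∧ proj (alpha w d : M4 K) = R0 w * uMat d * R0' w := by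
  obtain ⟨hx, hy⟩ := stab_coords h
  unfold alpha R0 R0'
  split_ifs with h0 h1
  · refine ⟨isAff_lowMat _ _, ?_⟩
    show proj (lowMat _ _) = _
    rw [proj_lowMat]
    ext i j
    fin_cases i <;> fin_cases j <;>
      simp [uMat, Matrix.mul_apply, Fin.sum_univ_three, (hx h0).1, (hx h0).2, h0] <;> ring
  · refine ⟨isAff_aMat _, ?_⟩
    rw [coe_aHom, proj_aMat]
    ext i j
    fin_cases i <;> fin_cases j <;>
      simp [uMat, Matrix.mul_apply, Fin.sum_univ_three, hy h0 h1, h1, div_eq_mul_inv] <;> ring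
  · refine ⟨isAff_aMat _, ?_⟩
    rw [coe_aHom, proj_aMat]
    have hz := w2_ne hw h0 h1
    ext i j
    fin_cases i <;> fin_cases j <;>
      simp [uMat, Matrix.mul_apply, Fin.sum_univ_three, hz, div_eq_mul_inv] <;> ring

theorem alpha_za (w : Fin 3 → K) (a : K) :
    alpha w (U4.vec (a, 0, 0)) = aHom (U4.vec (a, 0, 0)) := by
  unfold alpha
  split_ifs with h0 h1
  · refine Units.ext ?_
    show lowMat _ _ = aMat _
    ext i j
    fin_cases i <;> fin_cases j <;> simp [lowMat, aMat]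
  all_goals
    congr 1
    ext <;> simp

/-- The unitriangular image as a homomorphism. -/
def uHom : U4 K →* GL (Fin 3) K :=
  MonoidHom.toHomUnits { toFun := uMat, map_one' := uMat_one, map_mul' := uMat_mul }

theorem coe_uHom (g : U4 K) : ((uHom g : GL (Fin 3) K) : M3 K) = uMat g := rfl

/-- The displacement at a point. -/
noncomputable def disp (g : U4 K) (c : Pts K) : U4 K :=
  (vv c.1)⁻¹ * g * vv ((uHom g)⁻¹ • c).1

theorem smul_uHom_val (g : U4 K) (c : Pts K) : ((uHom g)⁻¹ • c).1 = c.1 ᵥ* uMat g := by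
  rw [inv_smul_val, coe_uHom]

theorem base_smul_uHom (g : U4 K) (c : Pts K) : base ((uHom g)⁻¹ • c).1 = base c.1 := by
  rw [smul_uHom_val, base_smul]

theorem disp_stab (g : U4 K) (c : Pts K) : base c.1 ᵥ* uMat (disp g c) = base c.1 := by
  rw [disp, uMat_mul, uMat_mul, ← Matrix.vecMul_vecMul, ← Matrix.vecMul_vecMul, base_inv,
    ← smul_uHom_val, vecMul_vv, base_smul_uHom]

theorem alpha_base (w : Fin 3 → K) : alpha (base w) = alpha w := by
  funext d
  by_cases h0 : w 0 ≠ 0
  · simp [alpha, base, h0]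
  by_cases h1 : w 1 ≠ 0
  · simp [alpha, base, h0, h1]
  · simp [alpha, base, h0, h1]

theorem R0_base (w : Fin 3 → K) : R0 (base w) = R0 w ∧ R0' (base w) = R0' w := by
  by_cases h0 : w 0 ≠ 0
  · simp [R0, R0', base, h0]
  by_cases h1 : w 1 ≠ 0
  · simp [R0, R0', base, h0, h1]
  · simp [R0, R0', base, h0, h1]

/-- The embedding into the monomial group. -/
noncomputable def monEmb : U4 K →* monSub hK :=
  MonoidHom.mk' (fun g => ⟨⟨fun c => alpha c.1 (disp g c), uHom g⟩, fun c => by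
    obtain ⟨h1, h2⟩ := proj_alpha hK c.2 (disp_stab g c)
    refine ⟨h1, h2.trans ?_⟩
    have e : R0' c.1 = R0' ((uHom g)⁻¹ • c).1 := by
      rw [← (R0_base c.1).2, ← base_smul_uHom g c, (R0_base _).2]
    rw [disp, uMat_mul, uMat_mul, rinv, rr, e, coe_uHom]
    simp only [Matrix.mul_assoc]⟩) fun g g' => Subtype.ext (by
      rw [Subgroup.coe_mul]
      refine SemidirectProduct.ext (funext fun c => ?_) (map_mul uHom g g')
      rw [mon_mul_left]
      show alpha c.1 (disp (g * g') c) =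
        alpha c.1 (disp g c) * alpha ((uHom g)⁻¹ • c).1 (disp g' ((uHom g)⁻¹ • c))
      have e : alpha ((uHom g)⁻¹ • c).1 = alpha c.1 := by
        rw [← alpha_base, base_smul_uHom, alpha_base]
      rw [e, ← alpha_mul hK c.2 (disp_stab g c)]
      · congr 1
        simp only [disp, map_mul, _root_.mul_inv_rev, mul_smul]
        group
      · rw [← base_smul_uHom g c]
        exact disp_stab g' _)

/-- The embedding of the Sylow subgroup. -/
noncomputable def emb : U4 K →* Grp hK := (QuotientGroup.mk' _).comp (monEmb hK)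

theorem toGL_emb (g : U4 K) : toGL hK (emb hK g) = uHom g := rfl

theorem emb_za (a : K) :
    ((monEmb hK (U4.vec (a, 0, 0)) : monSub hK) : Mon K) = zEl (fun _ => a) := by
  have hu : uHom (U4.vec (a, 0, 0)) = 1 := Units.ext (uMat_vec_za a)
  refine SemidirectProduct.ext (funext fun c => ?_) hu
  show alpha c.1 (disp (U4.vec (a, 0, 0)) c) = _
  have hz : (vv c.1)⁻¹ * U4.vec (a, 0, 0) * vv c.1 = U4.vec (a, 0, 0) := by
    have h := U4.conj_vec (vv c.1)⁻¹ a 0 0
    rw [inv_inv] at h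
    rw [h]
    simp
  rw [disp, hu, inv_one, one_smul, hz, alpha_za]
  rfl

include hK in
theorem card_pts : (Fintype.card (Pts K) : K) = 1 := by
  classical
  have e : Fintype.card (Pts K) = Fintype.card K ^ 3 - 1 := by
    rw [← Nat.card_eq_fintype_card, show Nat.card (Pts K) = Nat.card {w : Fin 3 → K // w ≠ 0} from rfl,
      Nat.card_eq_fintype_card, Fintype.card_subtype_compl, Fintype.card_subtype_eq,
      Fintype.card_fun, Fintype.card_fin]
  rw [e, Nat.cast_sub (Nat.one_le_pow _ _ Fintype.card_pos), Nat.cast_pow, FiniteField.cast_card_eq_zero]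
  simp [CharTwo.neg_eq]

theorem mk_zEl_eq (a b : Pts K → K) (hab : ∑ c, a c = ∑ c, b c) :
    (QuotientGroup.mk ⟨zEl a, zEl_mem hK a⟩ : Grp hK) = QuotientGroup.mk ⟨zEl b, zEl_mem hK b⟩ := by
  refine QuotientGroup.eq.2 ⟨a + b, ?_, ?_⟩
  · rw [Finset.sum_congr rfl fun c _ => Pi.add_apply a b c, Finset.sum_add_distrib, hab,
      CharTwo.add_self_eq_zero]
  · rw [Subgroup.coe_mul, Subgroup.coe_inv, zEl_add]
    congr 1
    refine inv_eq_of_mul_eq_one_right ?_
    rw [← zEl_add, show a + a = 0 from funext fun c => CharTwo.add_self_eq_zero (a c), zEl_zero]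

theorem toGL_ker {x : Grp hK} (hx : toGL hK x = 1) : ∃ a, x = emb hK (U4.vec (a, 0, 0)) := by
  obtain ⟨⟨y, hy⟩, rfl⟩ := QuotientGroup.mk_surjective x
  change y.right = 1 at hx
  have hy' : y = zEl (fun c => (y.left c : M4 K) 0 3) := by
    refine SemidirectProduct.ext (funext fun c => Units.ext ?_) hx
    refine eq_of_proj_eq_one (hy c).1 ?_
    rw [(hy c).2, hx, inv_one, one_smul, Units.val_one, Matrix.mul_one, (rr_mul c.2).2]
  refine ⟨∑ c, (y.left c : M4 K) 0 3, ?_⟩
  refine Eq.trans (congrArg QuotientGroup.mk (Subtype.ext hy' : (⟨y, hy⟩ : monSub hK) =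
    ⟨zEl _, zEl_mem hK _⟩)) ((mk_zEl_eq hK _ (fun _ => ∑ c, (y.left c : M4 K) 0 3) ?_).trans ?_)
  · rw [Finset.sum_const, Finset.card_univ, nsmul_eq_mul, card_pts hK, one_mul]
  · exact congrArg QuotientGroup.mk (Subtype.ext (emb_za hK _).symm)

theorem emb_injective : Function.Injective (emb hK) := by
  refine (injective_iff_map_eq_one _).2 fun g hg => ?_
  have hu : uMat g = 1 := by
    rw [← coe_uHom, ← toGL_emb hK, hg, map_one, Units.val_one]
  have e1 := congrFun (congrFun hu 0) 1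
  have e2 := congrFun (congrFun hu 0) 2
  have e3 := congrFun (congrFun hu 1) 2
  simp [uMat] at e1 e2 e3
  have hg' : g = U4.vec (g.a, 0, 0) := by ext <;> simp [e1, e2, e3]
  obtain ⟨b, hb, hbz⟩ := (QuotientGroup.eq_one_iff _).1 hg
  rw [hg', emb_za] at hbz
  have hab : ∀ c, b c = g.a := fun c => by
    have e := congrArg (fun x : Mon K => ((x.left c : GL (Fin 4) K) : M4 K) 0 3) hbz
    simpa [zEl, coe_aHom, aMat] using e.symm
  have hsum : g.a = 0 := by
    rw [Finset.sum_congr rfl fun c _ => hab c, Finset.sum_const, Finset.card_univ, nsmul_eq_mul,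
      card_pts hK, one_mul] at hb
    exact hb
  rw [hg', hsum]
  ext <;> simp

theorem conj_za (x : Grp hK) (a : K) :
    x * emb hK (U4.vec (a, 0, 0)) * x⁻¹ = emb hK (U4.vec (chi (toGL hK x) * a, 0, 0)) := by
  obtain ⟨y, rfl⟩ := QuotientGroup.mk_surjective x
  show QuotientGroup.mk (y * monEmb hK _ * y⁻¹) = QuotientGroup.mk _
  refine congrArg _ (Subtype.ext ?_)
  rw [Subgroup.coe_mul, Subgroup.coe_mul, Subgroup.coe_inv, emb_za, emb_za, zEl_conj hK y.2]
  rfl

end Cfsg.Agent.Fusion.SpFour.Ext
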