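import Cfsg.Agent.Lib.Fusion.SpFour.SmallBasic
import Mathlib.LinearAlgebra.Matrix.GeneralLinearGroup.Card
import Mathlib.LinearAlgebra.Matrix.Determinant.Basic

/-!
At most four elements: local data for the extension of `GL₃(K)` by `K` restricting to `U4 K` on a
Sylow subgroup. The stabiliser of a row vector lifts to an affine group in `GL₄(K)`.
-/

set_option autoImplicit false
set_option linter.unusedSectionVars false

namespace Cfsg.Agent.Fusion.SpFour.Ext

open Matrix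

variable {K : Type*} [Field K]

abbrev M3 (K : Type*) := Matrix (Fin 3) (Fin 3) K
abbrev M4 (K : Type*) := Matrix (Fin 4) (Fin 4) K

/-- The unitriangular image. -/
def uMat (g : U4 K) : M3 K := !![1, g.s, g.b; 0, 1, g.c; 0, 0, 1]

/-- The affine image. -/
def aMat (g : U4 K) : M4 K := !![1, 0, g.s ^ 2, g.a; 0, 1, g.s, g.b; 0, 0, 1, g.c; 0, 0, 0, 1]

/-- The lower root elements with a central translation. -/
def lowMat (t a : K) : M4 K := !![1, t ^ 2, 0, a; 0, 1, 0, 0; 0, t, 1, 0; 0, 0, 0, 1]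

/-- The lifted stabiliser: block triangular, with the first row determined by the block. -/
structure IsAff (m : M4 K) : Prop where
  h10 : m 1 0 = 0
  h20 : m 2 0 = 0
  h30 : m 3 0 = 0
  h31 : m 3 1 = 0
  h32 : m 3 2 = 0
  h33 : m 3 3 = 1
  h00 : m 0 0 = (m 1 1 * m 2 2 + m 1 2 * m 2 1) ^ 2
  h01 : m 0 1 = (m 1 1 * m 2 1) ^ 2
  h02 : m 0 2 = (m 1 2 * m 2 2) ^ 2

/-- The block. -/
def proj (m : M4 K) : M3 K :=
  !![m 1 1, m 1 2, m 1 3; m 2 1, m 2 2, m 2 3; m 3 1, m 3 2, m 3 3]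

/-- A lift of an element of the stabiliser. -/
def affOf (M : M3 K) : M4 K :=
  !![(M 0 0 * M 1 1 + M 0 1 * M 1 0) ^ 2, (M 0 0 * M 1 0) ^ 2, (M 0 1 * M 1 1) ^ 2, 0;
    0, M 0 0, M 0 1, M 0 2; 0, M 1 0, M 1 1, M 1 2; 0, 0, 0, 1]

theorem uMat_mul (g h : U4 K) : uMat (g * h) = uMat g * uMat h := by
  ext i j
  fin_cases i <;> fin_cases j <;> simp [uMat, Matrix.mul_apply, Fin.sum_univ_three] <;> ring

theorem uMat_one : uMat (1 : U4 K) = 1 := by
  ext i j
  fin_cases i <;> fin_cases j <;> simp [uMat]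

theorem uMat_vec_za (a : K) : uMat (U4.vec (a, 0, 0)) = 1 := by
  ext i j
  fin_cases i <;> fin_cases j <;> simp [uMat]

theorem det_uMat (g : U4 K) : (uMat g).det = 1 := by
  simp [uMat, Matrix.det_fin_three]

theorem proj_mul {A B : M4 K} (hA : IsAff A) : proj (A * B) = proj A * proj B := by
  ext i j
  fin_cases i <;> fin_cases j <;>
    simp [proj, Matrix.mul_apply, Fin.sum_univ_three, Fin.sum_univ_four, hA.h10, hA.h20, hA.h30]

theorem proj_one : proj (1 : M4 K) = 1 := by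
  ext i j
  fin_cases i <;> fin_cases j <;> simp [proj]

theorem isAff_one : IsAff (1 : M4 K) := by
  constructor <;> simp

theorem proj_aMat (g : U4 K) : proj (aMat g) = uMat g := by
  ext i j
  fin_cases i <;> fin_cases j <;> simp [proj, uMat, aMat]

theorem proj_lowMat (t a : K) : proj (lowMat t a) = !![1, 0, 0; t, 1, 0; 0, 0, 1] := by
  ext i j
  fin_cases i <;> fin_cases j <;> simp [proj, lowMat]

theorem isAff_aMat (g : U4 K) : IsAff (aMat g) := by
  constructor <;> simp [aMat]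

theorem isAff_lowMat (t a : K) : IsAff (lowMat t a) := by
  constructor <;> simp [lowMat]

theorem aMat_one : aMat (1 : U4 K) = 1 := by
  ext i j
  fin_cases i <;> fin_cases j <;> simp [aMat]

theorem isAff_affOf {M : M3 K} : IsAff (affOf M) := by
  constructor <;> simp [affOf]

theorem proj_affOf {M : M3 K} (h0 : M 2 0 = 0) (h1 : M 2 1 = 0) (h2 : M 2 2 = 1) :
    proj (affOf M) = M := by
  ext i j
  fin_cases i <;> fin_cases j <;> simp [proj, affOf, h0, h1, h2]

/-- The lifted stabiliser is determined by its block up to the centre. -/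
theorem eq_of_proj_eq_one {m : M4 K} (hm : IsAff m) (h : proj m = 1) :
    m = aMat (U4.vec (m 0 3, 0, 0)) := by
  have e : ∀ i j, proj m i j = (1 : M3 K) i j := fun i j => by rw [h]
  have e00 : m 1 1 = 1 := by simpa [proj] using e 0 0
  have e01 : m 1 2 = 0 := by simpa [proj] using e 0 1
  have e02 : m 1 3 = 0 := by simpa [proj] using e 0 2
  have e10 : m 2 1 = 0 := by simpa [proj] using e 1 0
  have e11 : m 2 2 = 1 := by simpa [proj] using e 1 1
  have e12 : m 2 3 = 0 := by simpa [proj] using e 1 2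
  ext i j
  fin_cases i <;> fin_cases j <;>
    simp [aMat, hm.h10, hm.h20, hm.h30, hm.h31, hm.h32, hm.h33, hm.h00, hm.h01, hm.h02, e00, e01,
      e02, e10, e11, e12]

variable [CharP K 2]

theorem aMat_mul (g h : U4 K) : aMat (g * h) = aMat g * aMat h := by
  have h2 : (2 : K) = 0 := CharTwo.two_eq_zero
  ext i j
  fin_cases i <;> fin_cases j <;>
    simp [aMat, Matrix.mul_apply, Fin.sum_univ_four, h2, add_sq] <;> ring

theorem lowMat_mul (t a t' a' : K) : lowMat (t + t') (a + a') = lowMat t a * lowMat t' a' := by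
  have h2 : (2 : K) = 0 := CharTwo.two_eq_zero
  ext i j
  fin_cases i <;> fin_cases j <;>
    simp [lowMat, Matrix.mul_apply, Fin.sum_univ_four, h2, add_sq] <;> ring

/-- The affine image as a homomorphism. -/
def aHom : U4 K →* GL (Fin 4) K :=
  MonoidHom.toHomUnits { toFun := aMat, map_one' := aMat_one, map_mul' := aMat_mul }

theorem coe_aHom (g : U4 K) : ((aHom g : GL (Fin 4) K) : M4 K) = aMat g := rfl

/-- The lower root elements as units. -/
def lowU (t a : K) : GL (Fin 4) K where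
  val := lowMat t a
  inv := lowMat t a
  val_inv := by
    rw [← lowMat_mul, CharTwo.add_self_eq_zero, CharTwo.add_self_eq_zero]
    ext i j
    fin_cases i <;> fin_cases j <;> simp [lowMat]
  inv_val := by
    rw [← lowMat_mul, CharTwo.add_self_eq_zero, CharTwo.add_self_eq_zero]
    ext i j
    fin_cases i <;> fin_cases j <;> simp [lowMat]

theorem det_proj {m : M4 K} (hm : IsAff m) : (proj m).det ^ 2 = m 0 0 := by
  have h2 : (2 : K) = 0 := CharTwo.two_eq_zero
  rw [hm.h00, Matrix.det_fin_three]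
  simp [proj, hm.h31, hm.h32, hm.h33]
  linear_combination (-2 * (m 1 1 * m 2 2) * (m 1 2 * m 2 1)) * h2

variable [Fintype K]

theorem isAff_mul (hK : Fintype.card K ≤ 4) {A B : M4 K} (hA : IsAff A) (hB : IsAff B) :
    IsAff (A * B) := by
  have h2 : (2 : K) = 0 := CharTwo.two_eq_zero
  have h4 := U4.pow_four_eq hK
  constructor <;>
    simp only [Matrix.mul_apply, Fin.sum_univ_four, hA.h10, hA.h20, hA.h30, hA.h31, hA.h32, hA.h33,
      hB.h10, hB.h20, hB.h30, hB.h31, hB.h32, hB.h33, zero_mul, mul_zero, add_zero, zero_add,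
      mul_one]
  · rw [hA.h00, hB.h00, ← mul_pow]
    congr 1
    linear_combination -(A 1 1 * B 1 1 * (A 2 1 * B 1 2) + A 1 2 * B 2 1 * (A 2 2 * B 2 2)) * h2
  · rw [hA.h01, hA.h02, hA.h00, hB.h01,
      show (A 1 1 * B 1 1 + A 1 2 * B 2 1) * (A 2 1 * B 1 1 + A 2 2 * B 2 1) =
        A 1 1 * A 2 1 * B 1 1 ^ 2 + A 1 2 * A 2 2 * B 2 1 ^ 2 +
          (A 1 1 * A 2 2 + A 1 2 * A 2 1) * (B 1 1 * B 2 1) by ring,
      CharTwo.add_sq, CharTwo.add_sq]
    linear_combination -(A 1 1 * A 2 1) ^ 2 * h4 (B 1 1) - (A 1 2 * A 2 2) ^ 2 * h4 (B 2 1)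
      - 2 * (A 1 1 * A 2 2 * A 1 2 * A 2 1 * B 1 1 ^ 2 * B 2 1 ^ 2) * h2
  · rw [hA.h01, hA.h02, hA.h00, hB.h02,
      show (A 1 1 * B 1 2 + A 1 2 * B 2 2) * (A 2 1 * B 1 2 + A 2 2 * B 2 2) =
        A 1 1 * A 2 1 * B 1 2 ^ 2 + A 1 2 * A 2 2 * B 2 2 ^ 2 +
          (A 1 1 * A 2 2 + A 1 2 * A 2 1) * (B 1 2 * B 2 2) by ring,
      CharTwo.add_sq, CharTwo.add_sq]
    linear_combination -(A 1 1 * A 2 1) ^ 2 * h4 (B 1 2) - (A 1 2 * A 2 2) ^ 2 * h4 (B 2 2)
      - 2 * (A 1 1 * A 2 2 * A 1 2 * A 2 1 * B 1 2 ^ 2 * B 2 2 ^ 2) * h2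

end Cfsg.Agent.Fusion.SpFour.Ext
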