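import Mathlib

/-!
The Sylow subgroup of `Sp₄(K)` in characteristic `char K` in coordinates, and its automorphisms.
-/

set_option autoImplicit false

namespace Cfsg.Agent.Fusion.SpFour

/-- `v σ_s`, with `v = (a, b, c)` a symmetric matrix and `σ_s` an upper unitriangular matrix. -/
@[ext]
structure U4 (K : Type*) where
  /-- the Levi coordinate -/
  s : K
  /-- the central coordinate -/
  a : K
  /-- the middle coordinate -/
  b : K
  /-- the top coordinate -/
  c : K

namespace U4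

variable {K : Type*} [Field K]

instance : Mul (U4 K) :=
  ⟨fun g h => ⟨g.s + h.s, g.a + h.a + 2 * g.s * h.b + g.s ^ 2 * h.c, g.b + h.b + g.s * h.c, g.c + h.c⟩⟩

instance : One (U4 K) := ⟨⟨0, 0, 0, 0⟩⟩

instance : Inv (U4 K) :=
  ⟨fun g => ⟨-g.s, -g.a + 2 * g.s * g.b - g.s ^ 2 * g.c, -g.b + g.s * g.c, -g.c⟩⟩

@[simp] theorem mul_s (g h : U4 K) : (g * h).s = g.s + h.s := rfl
@[simp] theorem mul_a (g h : U4 K) :
    (g * h).a = g.a + h.a + 2 * g.s * h.b + g.s ^ 2 * h.c := rfl
@[simp] theorem mul_b (g h : U4 K) : (g * h).b = g.b + h.b + g.s * h.c := rfl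
@[simp] theorem mul_c (g h : U4 K) : (g * h).c = g.c + h.c := rfl
@[simp] theorem one_s : (1 : U4 K).s = 0 := rfl
@[simp] theorem one_a : (1 : U4 K).a = 0 := rfl
@[simp] theorem one_b : (1 : U4 K).b = 0 := rfl
@[simp] theorem one_c : (1 : U4 K).c = 0 := rfl
@[simp] theorem inv_s (g : U4 K) : g⁻¹.s = -g.s := rfl
@[simp] theorem inv_a (g : U4 K) : g⁻¹.a = -g.a + 2 * g.s * g.b - g.s ^ 2 * g.c := rfl
@[simp] theorem inv_b (g : U4 K) : g⁻¹.b = -g.b + g.s * g.c := rfl
@[simp] theorem inv_c (g : U4 K) : g⁻¹.c = -g.c := rfl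

instance : Group (U4 K) where
  mul_assoc x y z := by ext <;> simp <;> ring
  one_mul x := by ext <;> simp
  mul_one x := by ext <;> simp
  inv_mul_cancel x := by ext <;> simp <;> ring

/-- The coordinates as an equivalence. -/
def equivProd : U4 K ≃ K × K × K × K where
  toFun g := (g.s, g.a, g.b, g.c)
  invFun q := ⟨q.1, q.2.1, q.2.2.1, q.2.2.2⟩
  left_inv _ := rfl
  right_inv _ := rfl

instance [Finite K] : Finite (U4 K) := Finite.of_equiv _ equivProd.symm

theorem natCard [Finite K] : Nat.card (U4 K) = Nat.card K ^ 4 := by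
  rw [Nat.card_congr equivProd]
  simp only [Nat.card_prod]
  ring

/-- An element of the radical. -/
def vec (v : K × K × K) : U4 K := ⟨0, v.1, v.2.1, v.2.2⟩

/-- An element of the complement. -/
def sig (s : K) : U4 K := ⟨s, 0, 0, 0⟩

@[simp] theorem vec_s (v : K × K × K) : (vec v).s = 0 := rfl
@[simp] theorem vec_a (v : K × K × K) : (vec v).a = v.1 := rfl
@[simp] theorem vec_b (v : K × K × K) : (vec v).b = v.2.1 := rfl
@[simp] theorem vec_c (v : K × K × K) : (vec v).c = v.2.2 := rfl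
@[simp] theorem sig_s (s : K) : (sig s).s = s := rfl
@[simp] theorem sig_a (s : K) : (sig s).a = 0 := rfl
@[simp] theorem sig_b (s : K) : (sig s).b = 0 := rfl
@[simp] theorem sig_c (s : K) : (sig s).c = 0 := rfl

theorem conj_vec (g : U4 K) (a b c : K) :
    g * vec (a, b, c) * g⁻¹ = vec (a + 2 * g.s * b + g.s ^ 2 * c, b + g.s * c, c) := by
  ext <;> simp <;> ring

theorem comm_iff (g h : U4 K) : g * h = h * g ↔
    2 * g.s * h.b + g.s ^ 2 * h.c = 2 * h.s * g.b + h.s ^ 2 * g.c ∧ g.s * h.c = h.s * g.c := by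
  constructor
  · intro e
    have e1 := congrArg U4.a e
    have e2 := congrArg U4.b e
    simp only [mul_a, mul_b] at e1 e2
    exact ⟨by linear_combination e1, by linear_combination e2⟩
  · rintro ⟨e1, e2⟩
    ext
    · simp [add_comm]
    · simp only [mul_a]; linear_combination e1
    · simp only [mul_b]; linear_combination e2
    · simp [add_comm]

/-- The abelian radical. -/
def radA (K : Type*) [Field K] : Subgroup (U4 K) where
  carrier := {g | g.s = 0}
  one_mem' := rfl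
  mul_mem' {g h} hg hh := by
    show g.s + h.s = 0
    rw [show g.s = 0 from hg, show h.s = 0 from hh, add_zero]
  inv_mem' {g} hg := by
    show -g.s = 0
    rw [show g.s = 0 from hg, neg_zero]

theorem mem_radA {g : U4 K} : g ∈ radA K ↔ g.s = 0 := Iff.rfl

theorem eq_vec {g : U4 K} (hg : g.s = 0) : g = vec (g.a, g.b, g.c) := by
  ext <;> simp [hg]

/-- Scaling of the radical. -/
def scaleIso (l : Kˣ) : U4 K ≃* U4 K where
  toFun g := ⟨g.s, l * g.a, l * g.b, l * g.c⟩
  invFun g := ⟨g.s, l⁻¹ * g.a, l⁻¹ * g.b, l⁻¹ * g.c⟩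
  left_inv g := by ext <;> simp
  right_inv g := by ext <;> simp
  map_mul' g h := by ext <;> simp <;> ring

theorem mem_center {g : U4 K} : g ∈ Subgroup.center (U4 K) ↔ g.s = 0 ∧ g.c = 0 ∧ 2 * g.b = 0 := by
  rw [Subgroup.mem_center_iff]
  constructor
  · intro h
    have h1 := (comm_iff (sig 1) g).1 (h _)
    have h2 := (comm_iff (vec (0, 0, 1)) g).1 (h _)
    simp at h1 h2
    obtain ⟨h1, h1c⟩ := h1
    refine ⟨h2.2.symm, h1c, ?_⟩
    linear_combination h1 - h1c
  · rintro ⟨h1, h2, h3⟩ x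
    rw [comm_iff]
    simp only [h1, h2]
    exact ⟨by linear_combination x.s * h3, by ring⟩

/-- The centraliser of a noncentral element is abelian. -/
theorem comm_of_comm {g h k : U4 K} (hg : g ∉ Subgroup.center (U4 K)) (h1 : g * h = h * g)
    (h2 : g * k = k * g) : h * k = k * h := by
  rw [comm_iff] at h1 h2 ⊢
  rw [mem_center] at hg
  obtain ⟨e1, e1'⟩ := h1
  obtain ⟨e2, e2'⟩ := h2
  by_cases hs : g.s = 0
  · have key : ∀ h : U4 K, g.s * h.c = h.s * g.c →
        2 * g.s * h.b + g.s ^ 2 * h.c = 2 * h.s * g.b + h.s ^ 2 * g.c → h.s = 0 := by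
      intro h f' f
      rw [hs] at f f'
      by_contra hne
      have hc : g.c = 0 := by
        have : h.s * g.c = 0 := by linear_combination -f'
        exact (mul_eq_zero.1 this).resolve_left hne
      have : h.s * (2 * g.b) = 0 := by rw [hc] at f; linear_combination -f
      exact hg ⟨hs, hc, (mul_eq_zero.1 this).resolve_left hne⟩
    rw [key h e1' e1, key k e2' e2]
    constructor <;> ring
  · constructor
    · refine mul_left_cancel₀ hs ?_
      linear_combination (h.s) * e2 - (k.s) * e1 + (h.s * k.s) * (0 : K) + (h.s * h.s - h.s * g.s) * e2'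
        - (k.s * k.s - k.s * g.s) * e1'
    · refine mul_left_cancel₀ hs ?_
      linear_combination h.s * e2' - k.s * e1'

theorem comm_radA_iff {g h : U4 K} (hg : g.s = 0) (hgc : g ∉ Subgroup.center (U4 K)) :
    g * h = h * g ↔ h.s = 0 := by
  refine ⟨fun e => ?_, fun hh => by rw [comm_iff, hg, hh]; constructor <;> ring⟩
  rw [comm_iff, hg] at e
  rw [mem_center] at hgc
  by_contra hne
  have hc : g.c = 0 := by
    have : h.s * g.c = 0 := by linear_combination -e.2
    exact (mul_eq_zero.1 this).resolve_left hne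
  have : h.s * (2 * g.b) = 0 := by
    have := e.1
    rw [hc] at this
    linear_combination -this
  exact hgc ⟨hg, hc, (mul_eq_zero.1 this).resolve_left hne⟩

/-! ### Automorphisms preserving the abelian radical -/

/-- An automorphism semilinear on all layers. -/
def HasShape (α : U4 K ≃* U4 K) (φ₁ ω : K) (φ : K ≃+* K) (π o₁ o₂ : K → K) : Prop :=
  φ₁ ≠ 0 ∧ ω ≠ 0 ∧ (∀ g, (α g).s = φ₁ * φ g.s) ∧ ∀ a b c, α (vec (a, b, c)) =
    vec (φ₁ ^ 2 * ω * φ a + π b + o₁ c, φ₁ * ω * φ b + o₂ c, ω * φ c)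

theorem zero_of_shape {α : U4 K ≃* U4 K} {φ₁ ω : K} {φ : K ≃+* K} {π o₁ o₂ : K → K}
    (h : HasShape α φ₁ ω φ π o₁ o₂) : π 0 + o₁ 0 = 0 ∧ o₂ 0 = 0 := by
  have h0 := h.2.2.2 0 0 0
  rw [show (vec ((0 : K), (0 : K), (0 : K)) : U4 K) = 1 by ext <;> simp, map_one] at h0
  have ha := congrArg U4.a h0
  have hb := congrArg U4.b h0
  simp at ha hb
  exact ⟨ha.symm, hb.symm⟩

/-- Two additive maps with multiplicative product are semilinear. -/
theorem semilinear_of_mul [Finite K] (f w u : K → K) (hf : ∀ x y, f (x + y) = f x + f y)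
    (hfi : Function.Injective f) (hwi : Function.Injective w) (hw0 : w 0 = 0)
    (h : ∀ s c, u (s * c) = f s * w c) :
    ∃ (φ₁ ω : K) (φ : K ≃+* K), φ₁ ≠ 0 ∧ ω ≠ 0 ∧ (∀ x, f x = φ₁ * φ x) ∧ (∀ x, w x = ω * φ x) ∧
      ∀ x, u x = φ₁ * ω * φ x := by
  have hf0 : f 0 = 0 := by simpa using hf 0 0
  have hf1 : f 1 ≠ 0 := fun e => one_ne_zero (hfi (e.trans hf0.symm))
  have hw1 : w 1 ≠ 0 := fun e => one_ne_zero (hwi (e.trans hw0.symm))
  have hu1 : ∀ x, u x = f x * w 1 := fun x => by rw [← h, mul_one]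
  have hu2 : ∀ x, u x = f 1 * w x := fun x => by rw [← h, one_mul]
  let g : K →+* K :=
    { toFun := fun x => f x / f 1
      map_one' := div_self hf1
      map_zero' := by rw [hf0, zero_div]
      map_add' := fun x y => by rw [hf, add_div]
      map_mul' := fun x y => by
        have e := h x y
        rw [hu1] at e
        have e2 := (hu1 y).symm.trans (hu2 y)
        rw [div_mul_div_comm, div_eq_div_iff hf1 (mul_ne_zero hf1 hf1)]
        refine mul_right_cancel₀ hw1 ?_
        linear_combination f 1 ^ 2 * e - f 1 * f x * e2 }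
  refine ⟨f 1, w 1, RingEquiv.ofBijective g (Finite.injective_iff_bijective.1 g.injective), hf1, hw1,
    fun x => ?_, fun x => ?_, fun x => ?_⟩
  · show f x = f 1 * (f x / f 1)
    field_simp
  · show w x = w 1 * (f x / f 1)
    have := (hu2 x).symm.trans (hu1 x)
    field_simp
    linear_combination this
  · show u x = f 1 * w 1 * (f x / f 1)
    rw [hu1]
    field_simp

variable [Finite K] (α : U4 K ≃* U4 K) (hA : ∀ g, g.s = 0 → (α g).s = 0)
include hA

theorem map_radA_iff (g : U4 K) : (α g).s = 0 ↔ g.s = 0 := by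
  refine ⟨fun h => ?_, hA g⟩
  let f : {g : U4 K // g.s = 0} → {g : U4 K // g.s = 0} := fun x => ⟨α x, hA x x.2⟩
  obtain ⟨y, hy⟩ := (Finite.injective_iff_surjective.1 (fun x y e => Subtype.ext
    (α.injective (congrArg Subtype.val e))) : Function.Surjective f) ⟨α g, h⟩
  rw [← α.injective (congrArg Subtype.val hy)]
  exact y.2

theorem s_eq (g : U4 K) : (α g).s = (α (sig g.s)).s := by
  have e : g = vec (g.a, g.b, g.c) * sig g.s := by ext <;> simp
  conv_lhs => rw [e, map_mul, mul_s, hA _ rfl, zero_add]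

theorem f_props : (∀ x y, (α (sig (x + y))).s = (α (sig x)).s + (α (sig y)).s) ∧
    Function.Injective fun x => (α (sig x)).s := by
  refine ⟨fun x y => ?_, fun x y e => ?_⟩
  · rw [show sig (x + y) = sig x * sig y by ext <;> simp, map_mul, mul_s]
  · have : (α (sig x * (sig y)⁻¹)).s = 0 := by simp [e]
    rw [map_radA_iff α hA] at this
    simpa [add_neg_eq_zero] using this

theorem map_vec (v : K × K × K) : α (vec v) = vec ((α (vec v)).a, (α (vec v)).b, (α (vec v)).c) :=
  eq_vec (hA _ rfl)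

theorem map_sc_zero (h : ∀ g : U4 K, g.s = 0 → g.c = 0 → (α g).c = 0) (a b c : K) :
    (α (vec (a, b, c))).c = (α (vec (0, 0, c))).c := by
  rw [show (vec (a, b, c) : U4 K) = vec (a, b, 0) * vec (0, 0, c) by ext <;> simp, map_mul, mul_c,
    h _ rfl rfl, zero_add]

/-- The relations between the layers. -/
theorem layer_rel (h : ∀ g : U4 K, g.s = 0 → g.c = 0 → (α g).c = 0) (g : U4 K) (b c : K) :
    (α (vec (2 * g.s * b + g.s ^ 2 * c, g.s * c, 0))).a =
        2 * (α g).s * (α (vec (0, b, c))).b + (α g).s ^ 2 * (α (vec (0, 0, c))).c ∧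
      (α (vec (2 * g.s * b + g.s ^ 2 * c, g.s * c, 0))).b = (α g).s * (α (vec (0, 0, c))).c := by
  have e : α (g * vec (0, b, c) * g⁻¹) = α g * α (vec (0, b, c)) * (α g)⁻¹ := by
    rw [map_mul, map_mul, map_inv]
  rw [conj_vec, map_vec α hA (0, b, c), conj_vec, zero_add,
    show (vec (2 * g.s * b + g.s ^ 2 * c, b + g.s * c, c) : U4 K) =
      vec (2 * g.s * b + g.s ^ 2 * c, g.s * c, 0) * vec (0, b, c) by ext <;> simp [add_comm],
    map_mul, map_sc_zero α hA h 0 b c] at e
  have hs : (α (vec (2 * g.s * b + g.s ^ 2 * c, g.s * c, 0))).s = 0 := hA _ rfl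
  have ea := congrArg U4.a e
  have eb := congrArg U4.b e
  simp only [mul_a, mul_b, vec_a, vec_b, vec_s, hs] at ea eb
  exact ⟨by linear_combination ea, by linear_combination eb⟩

theorem hasShape_of_layers (h : ∀ g : U4 K, g.s = 0 → g.c = 0 → (α g).c = 0)
    (hz : ∀ a, (α (vec (a, 0, 0))).b = 0)
    (hπ : ∀ φ₁ ω : K, ∀ φ : K ≃+* K, (∀ x, (α (sig x)).s = φ₁ * φ x) →
      (∀ x, (α (vec (0, 0, x))).c = ω * φ x) → (∀ x, (α (vec (0, x, 0))).b = φ₁ * ω * φ x) →
      ∀ a, (α (vec (a, 0, 0))).a = φ₁ ^ 2 * ω * φ a) :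
    ∃ φ₁ ω φ π o₁ o₂, HasShape α φ₁ ω φ π o₁ o₂ := by
  obtain ⟨hfadd, hfi⟩ := f_props α hA
  have hu : ∀ s c : K, (α (vec (0, s * c, 0))).b = (α (sig s)).s * (α (vec (0, 0, c))).c := by
    intro s c
    rw [← (layer_rel α hA h (sig s) 0 c).2]
    simp only [sig_s]
    conv_rhs => rw [show (vec (2 * s * 0 + s ^ 2 * c, s * c, 0) : U4 K) =
      vec (2 * s * 0 + s ^ 2 * c, 0, 0) * vec (0, s * c, 0) by ext <;> simp,
      map_mul, mul_b, hz, zero_add, hA _ (rfl : (vec (2 * s * 0 + s ^ 2 * c, (0 : K), (0 : K))).s = 0)]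
    ring
  have hwi : Function.Injective fun c => (α (vec (0, 0, c))).c := by
    intro x y e
    have h2 : (α (vec (0, 0, x - y))).c = 0 := by
      have : (vec (0, 0, x - y) : U4 K) = vec (0, 0, x) * (vec (0, 0, y))⁻¹ := by
        ext <;> simp [sub_eq_add_neg]
      rw [this, map_mul, map_inv, mul_c, inv_c]
      simpa [add_neg_eq_zero] using e
    let f : {g : U4 K // g.s = 0 ∧ g.c = 0} → {g : U4 K // g.s = 0 ∧ g.c = 0} :=
      fun g => ⟨α g, hA g g.2.1, h g g.2.1 g.2.2⟩
    obtain ⟨z, hz'⟩ := (Finite.injective_iff_surjective.1 (fun x y e => Subtype.ext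
      (α.injective (congrArg Subtype.val e))) : Function.Surjective f) ⟨_, hA _ rfl, h2⟩
    have h3 := congrArg U4.c (α.injective (congrArg Subtype.val hz'))
    rw [z.2.2] at h3
    exact sub_eq_zero.1 h3.symm
  have hw0 : (α (vec (0, 0, 0))).c = 0 := h _ rfl rfl
  obtain ⟨φ₁, ω, φ, h1, h2, hf, hw, hu'⟩ :=
    semilinear_of_mul _ _ (fun x => (α (vec (0, x, 0))).b) hfadd hfi hwi hw0 hu
  refine ⟨φ₁, ω, φ, fun b => (α (vec (0, b, 0))).a, fun c => (α (vec (0, 0, c))).a,
    fun c => (α (vec (0, 0, c))).b, h1, h2, fun g => (s_eq α hA g).trans (hf _), fun a b c => ?_⟩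
  rw [show (vec (a, b, c) : U4 K) = vec (a, 0, 0) * vec (0, b, 0) * vec (0, 0, c) by ext <;> simp,
    map_mul, map_mul, map_vec α hA (a, 0, 0), map_vec α hA (0, b, 0), map_vec α hA (0, 0, c)]
  ext
  · simp
  · simp [hπ φ₁ ω φ hf hw hu']
  · simp [hz, hu']
  · simp [h _ (rfl : (vec (a, (0 : K), (0 : K))).s = 0) rfl,
      h _ (rfl : (vec ((0 : K), b, (0 : K))).s = 0) rfl, hw]

/-- Odd characteristic: every automorphism preserving the radical is semilinear on the layers. -/
theorem exists_shape_odd (h2 : (2 : K) ≠ 0) : ∃ φ₁ ω φ π o₁ o₂, HasShape α φ₁ ω φ π o₁ o₂ := by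
  have hcen : ∀ g : U4 K, g.s = 0 → g.c = 0 → g.b = 0 → (α g).b = 0 ∧ (α g).c = 0 := by
    intro g h1 h3 h4
    have hg : g ∈ Subgroup.center (U4 K) := mem_center.2 ⟨h1, h3, by rw [h4, mul_zero]⟩
    have : α g ∈ Subgroup.center (U4 K) := by
      rw [Subgroup.mem_center_iff] at hg ⊢
      intro x
      obtain ⟨y, rfl⟩ := α.surjective x
      rw [← map_mul, hg, map_mul]
    rw [mem_center] at this
    exact ⟨(mul_eq_zero.1 this.2.2).resolve_left h2, this.2.1⟩
  have h : ∀ g : U4 K, g.s = 0 → g.c = 0 → (α g).c = 0 := by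
    intro g h1 h3
    -- commutators with everything are central
    have key : α (sig 1 * g * (sig 1)⁻¹ * g⁻¹) = α (sig 1) * α g * (α (sig 1))⁻¹ * (α g)⁻¹ := by
      simp only [map_mul, map_inv]
    have hb : (sig 1 * g * (sig 1)⁻¹ * g⁻¹).b = 0 := by simp [h1, h3]
    have hc : (sig 1 * g * (sig 1)⁻¹ * g⁻¹).c = 0 := by simp
    have hs : (sig 1 * g * (sig 1)⁻¹ * g⁻¹).s = 0 := by simp
    have h5 := (hcen _ hs hc hb).1
    rw [key] at h5
    simp [hA g h1] at h5
    have hne : (α (sig 1)).s ≠ 0 := fun e => by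
      rw [map_radA_iff α hA] at e
      exact one_ne_zero e
    refine (mul_eq_zero.1 ?_).resolve_left hne
    linear_combination h5
  refine hasShape_of_layers α hA h (fun a => (hcen _ rfl rfl rfl).1) fun φ₁ ω φ hf hw hu a => ?_
  have e := (layer_rel α hA h (sig 1) (a / 2) 0).1
  simp only [sig_s, mul_one, one_pow, mul_zero, add_zero] at e
  rw [mul_div_cancel₀ _ h2] at e
  rw [e, hf, hu, hw, map_zero, map_one, map_div₀, map_ofNat]
  field_simp
  ring

/-- The axes of the centre in characteristic 2. -/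
theorem axes_two (h2 : (2 : K) = 0) :
    (∀ a b, (α (vec (a, b, 0))).c = 0) ∧
      ((∀ a, (α (vec (a, 0, 0))).b = 0) ∧ (∀ b, (α (vec (0, b, 0))).a = 0) ∨
        (∀ a, (α (vec (a, 0, 0))).a = 0) ∧ (∀ b, (α (vec (0, b, 0))).b = 0)) := by
  have hcen : ∀ a b, (α (vec (a, b, 0))).c = 0 := fun a b => by
    have hg : (vec (a, b, 0) : U4 K) ∈ Subgroup.center (U4 K) := mem_center.2 ⟨rfl, rfl, by rw [h2, zero_mul]⟩
    have : α (vec (a, b, 0)) ∈ Subgroup.center (U4 K) := by
      rw [Subgroup.mem_center_iff] at hg ⊢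
      intro x
      obtain ⟨y, rfl⟩ := α.surjective x
      rw [← map_mul, hg, map_mul]
    exact (mem_center.1 this).2.1
  refine ⟨hcen, ?_⟩
  -- elements with both coordinates nonzero are commutators
  have hfull : ∀ a b : K, a ≠ 0 → b ≠ 0 →
      (α (vec (a, b, 0))).a = 0 → (α (vec (a, b, 0))).b = 0 → False := by
    intro a b ha _ e1 e2
    have : α (vec (a, b, 0)) = 1 := by
      rw [map_vec α hA (a, b, 0), e1, e2, hcen]; ext <;> simp
    rw [map_eq_one_iff _ α.injective] at this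
    exact ha (congrArg U4.a this)
  have hboth : ∀ a b : K, a ≠ 0 → b ≠ 0 →
      (α (vec (a, b, 0))).a ≠ 0 ∧ (α (vec (a, b, 0))).b ≠ 0 := by
    intro a b ha hb
    have he : (vec (a, b, 0) : U4 K) =
        sig (a / b) * vec (0, 0, b * b / a) * (sig (a / b))⁻¹ * (vec (0, 0, b * b / a))⁻¹ := by
      ext <;> simp [h2] <;> field_simp
    set X := (α (sig (a / b))).s
    set Y := (α (vec (0, 0, b * b / a))).c
    have h3 : (α (vec (a, b, 0))).a = X ^ 2 * Y ∧ (α (vec (a, b, 0))).b = X * Y := by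
      rw [he, map_mul, map_mul, map_mul, map_inv, map_inv, map_vec α hA (0, 0, b * b / a)]
      constructor <;> simp [h2, X, Y] <;> ring_nf <;> simp [h2]
    by_contra h4
    have hXY : X * Y = 0 := by
      by_contra hne
      refine h4 ⟨?_, h3.2 ▸ hne⟩
      rw [h3.1, pow_two, mul_assoc]
      exact mul_ne_zero (left_ne_zero_of_mul hne) hne
    exact hfull a b ha hb (by rw [h3.1, pow_two, mul_assoc, hXY, mul_zero]) (h3.2.trans hXY)
  -- each point of an axis goes to an axis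
  have hsurj : ∀ a b : K, a ≠ 0 → b ≠ 0 → ∃ a' b', a' ≠ 0 ∧ b' ≠ 0 ∧ α (vec (a', b', 0)) = vec (a, b, 0) := by
    intro a b ha hb
    let f : {q : K × K // q.1 ≠ 0 ∧ q.2 ≠ 0} → {q : K × K // q.1 ≠ 0 ∧ q.2 ≠ 0} := fun q =>
      ⟨((α (vec (q.1.1, q.1.2, 0))).a, (α (vec (q.1.1, q.1.2, 0))).b), hboth _ _ q.2.1 q.2.2⟩
    have hfi : Function.Injective f := fun x y e => by
      have e1 := congrArg (fun q => (q : {q : K × K // q.1 ≠ 0 ∧ q.2 ≠ 0}).1.1) e
      have e2 := congrArg (fun q => (q : {q : K × K // q.1 ≠ 0 ∧ q.2 ≠ 0}).1.2) e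
      simp only [f] at e1 e2
      have : α (vec (x.1.1, x.1.2, 0)) = α (vec (y.1.1, y.1.2, 0)) := by
        rw [map_vec α hA (x.1.1, x.1.2, 0), map_vec α hA (y.1.1, y.1.2, 0), e1, e2, hcen, hcen]
      have := α.injective this
      exact Subtype.ext (Prod.ext (congrArg U4.a this) (congrArg U4.b this))
    obtain ⟨q, hq⟩ := (Finite.injective_iff_surjective.1 hfi) ⟨(a, b), ha, hb⟩
    refine ⟨q.1.1, q.1.2, q.2.1, q.2.2, ?_⟩
    rw [map_vec α hA (q.1.1, q.1.2, 0), hcen]
    have := congrArg Subtype.val hq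
    simp only [f, Prod.mk.injEq] at this
    rw [this.1, this.2]
  have haxis : ∀ a b : K, (a = 0 ∨ b = 0) →
      (α (vec (a, b, 0))).a = 0 ∨ (α (vec (a, b, 0))).b = 0 := by
    intro a b hab
    by_contra hne
    push Not at hne
    obtain ⟨a', b', ha', hb', e⟩ := hsurj _ _ hne.1 hne.2
    have e' : vec (a', b', 0) = vec (a, b, (0 : K)) := α.injective (e.trans (by
      conv_rhs => rw [map_vec α hA (a, b, 0), hcen]))
    rcases hab with rfl | rfl
    exacts [ha' (congrArg U4.a e'), hb' (congrArg U4.b e')]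
  -- a line inside two axes lies in one
  have hline : ∀ (v : K → K × K × K), (∀ x y, vec (v (x + y)) = vec (v x) * vec (v y)) →
      (∀ x, (v x).1 = 0 ∨ (v x).2.1 = 0) → (∀ x, (v x).2.2 = 0) →
      (∀ x, (α (vec (v x))).a = 0) ∨ (∀ x, (α (vec (v x))).b = 0) := by
    intro v hv h0 hc
    by_contra hne
    push Not at hne
    obtain ⟨⟨x, hx⟩, y, hy⟩ := hne
    have key : ∀ x, (α (vec (v x))).a = 0 ∨ (α (vec (v x))).b = 0 := fun x => by
      have := haxis (v x).1 (v x).2.1 (h0 x)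
      rwa [show ((v x).1, (v x).2.1, (0 : K)) = v x from Prod.ext rfl (Prod.ext rfl (hc x).symm)] at this
    have hx' := (key x).resolve_left hx
    have hy' := (key y).resolve_right hy
    have := key (x + y)
    rw [hv, map_mul, mul_a, mul_b, hA _ (rfl : (vec (v x)).s = 0), hx', hy'] at this
    simp [hx, hy] at this
  rcases hline (fun x => (x, 0, 0)) (fun x y => by ext <;> simp) (fun x => Or.inr rfl) (fun _ => rfl)
    with ha | ha <;>
  rcases hline (fun x => (0, x, 0)) (fun x y => by ext <;> simp) (fun x => Or.inl rfl) (fun _ => rfl)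
    with hb | hb
  · exfalso
    obtain ⟨a', b', -, -, e⟩ := hsurj 1 1 one_ne_zero one_ne_zero
    have e1 := congrArg U4.a e
    rw [show (vec (a', b', 0) : U4 K) = vec (a', 0, 0) * vec (0, b', 0) by ext <;> simp, map_mul,
      mul_a, ha, hb, hA _ (rfl : (vec (a', (0 : K), (0 : K))).s = 0)] at e1
    simp at e1
  · exact Or.inr ⟨ha, hb⟩
  · exact Or.inl ⟨ha, hb⟩
  · exfalso
    obtain ⟨a', b', -, -, e⟩ := hsurj 1 1 one_ne_zero one_ne_zero
    have e1 := congrArg U4.b e
    rw [show (vec (a', b', 0) : U4 K) = vec (a', 0, 0) * vec (0, b', 0) by ext <;> simp, map_mul,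
      mul_b, ha, hb, hA _ (rfl : (vec (a', (0 : K), (0 : K))).s = 0)] at e1
    simp at e1

theorem exists_shape_two (h2 : (2 : K) = 0) (hz : ∀ a, (α (vec (a, 0, 0))).b = 0)
    (hπ : ∀ b, (α (vec (0, b, 0))).a = 0) :
    ∃ φ₁ ω φ o₁ o₂, HasShape α φ₁ ω φ (fun _ => 0) o₁ o₂ := by
  have hc := (axes_two α hA h2).1
  have h : ∀ g : U4 K, g.s = 0 → g.c = 0 → (α g).c = 0 := fun g h1 h3 => by
    rw [eq_vec h1, h3]; exact hc _ _
  obtain ⟨φ₁, ω, φ, π, o₁, o₂, h1, h4, h5, h6⟩ := hasShape_of_layers α hA h hz fun φ₁ ω φ hf hw hu a => by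
    have e := (layer_rel α hA h (sig 1) 0 a).1
    simp only [sig_s, h2, mul_zero, zero_mul, zero_add, one_pow, one_mul] at e
    rw [show (vec (a, a, 0) : U4 K) = vec (a, 0, 0) * vec (0, a, 0) by ext <;> simp, map_mul, mul_a,
      hπ, hA _ (rfl : (vec (a, (0 : K), (0 : K))).s = 0), hf, hw, map_one] at e
    simp at e
    linear_combination e
  refine ⟨φ₁, ω, φ, fun c => o₁ c - o₁ 0, o₂, h1, h4, h5, fun a b c => ?_⟩
  have hπ' : π b + o₁ 0 = 0 := by
    have := congrArg U4.a (h6 0 b 0)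
    rw [hπ] at this
    simpa using this.symm
  rw [h6]
  ext
  · rfl
  · simp; linear_combination hπ'
  · rfl
  · rfl

end U4

end Cfsg.Agent.Fusion.SpFour
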