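import Cfsg.Agent.Lib.Fusion.SpFour.AMod

/-!
A radical subgroup `c = κ s` in odd characteristic gives a torus in `Aut_F(S)`.
-/

set_option autoImplicit false
set_option linter.unusedSectionVars false

namespace Cfsg.Agent.Fusion.SpFour

open Cfsg Cfsg.FusionSystem

universe u

variable {Ω : Type u} [Group Ω] {S : Subgroup Ω} {F : FusionSystem S} {p : ℕ}
variable {K : Type*} [Field K] (e : U4 K ≃* S) (κ : K)

/-- The subgroup `c = κ s` of `S`. -/
abbrev radM : Subgroup Ω := img e (subM κ)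

/-- A point of `radM`. -/
def lift (v : K × K) : radM e κ :=
  ⟨el e ⟨v.2, 0, v.1 + κ * v.2 ^ 2 / 2, κ * v.2⟩, (el_mem_img e).2 rfl⟩

/-- The coordinates of a point of `radM`. -/
def coM (x : radM e κ) : U4 K := co e (img_le e _ x.2)

theorem el_coM (x : radM e κ) : el e (coM e κ x) = x := el_co e _

theorem coM_mem (x : radM e κ) : (coM e κ x).c = κ * (coM e κ x).s :=
  mem_subM.1 ((el_mem_img e).1 (by rw [el_coM]; exact x.2))

theorem coM_mul (x y : radM e κ) : coM e κ (x * y) = coM e κ x * coM e κ y := by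
  rw [← el_inj e, el_mul, el_coM, el_coM, el_coM, Subgroup.coe_mul]

theorem coM_el {g : U4 K} {x : radM e κ} (h : (x : Ω) = el e g) : coM e κ x = g := by
  rw [← el_inj e, el_coM, h]

/-- The plane coordinates `(b - κ s² / 2, s)`. -/
def qM (x : radM e κ) : K × K :=
  ((coM e κ x).b - κ * (coM e κ x).s ^ 2 / 2, (coM e κ x).s)

variable (h2 : (2 : K) ≠ 0)
include h2

theorem qM_mul (x y : radM e κ) : qM e κ (x * y) = qM e κ x + qM e κ y := by
  rw [qM, qM, qM, coM_mul]
  refine Prod.ext ?_ rfl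
  simp only [U4.mul_b, U4.mul_s, Prod.fst_add, coM_mem]
  field_simp
  ring

omit h2 in
theorem qM_lift (v : K × K) : qM e κ (lift e κ v) = v := by
  rw [qM, coM_el e κ (g := ⟨v.2, 0, v.1 + κ * v.2 ^ 2 / 2, κ * v.2⟩) rfl]
  refine Prod.ext ?_ rfl
  simp

theorem qM_inv (x : radM e κ) : qM e κ x⁻¹ = -qM e κ x := by
  refine eq_neg_of_add_eq_zero_left ?_
  rw [← qM_mul e κ h2, inv_mul_cancel, qM, coM_el e κ (g := 1) (el_one e).symm]
  simp

/-- The kernel of the coordinates is the centre. -/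
theorem qM_eq_zero {x : radM e κ} : qM e κ x = 0 ↔ (x : Ω) ∈ centralizerIn S S := by
  rw [← el_coM e κ x, el_mem_zc, U4.mem_center, qM, Prod.ext_iff, coM_mem]
  constructor
  · rintro ⟨h1, h3⟩
    simp only [Prod.fst_zero, Prod.snd_zero] at h1 h3
    refine ⟨h3, by rw [h3, mul_zero], ?_⟩
    rw [h3] at h1
    simp only [zero_pow two_ne_zero, mul_zero, zero_div, sub_zero] at h1
    rw [h1, mul_zero]
  · rintro ⟨h1, -, h3⟩
    simp [h1, (mul_eq_zero.1 h3).resolve_left h2]

/-- The alternating form. -/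
theorem commutator_eq (x y : radM e κ) :
    ((x * y * x⁻¹ * y⁻¹ : radM e κ) : Ω) = el e (U4.vec (2 * ((qM e κ x).2 * (qM e κ y).1 -
      (qM e κ y).2 * (qM e κ x).1), 0, 0)) := by
  simp only [Subgroup.coe_mul, InvMemClass.coe_inv]
  rw [← el_coM e κ x, ← el_coM e κ y, ← el_inv, ← el_inv, ← el_mul, ← el_mul, ← el_mul, el_inj]
  ext
  · simp
  · simp [qM, coM_mem]
    field_simp
    ring
  · simp [coM_mem]
    ring
  · simp

omit h2

/-- The automorphisms fixing the centre of `S` pointwise. -/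
def fixZ (F : FusionSystem S) (R : Subgroup Ω) : Subgroup (F.autGroup R) where
  carrier := {a | ∀ x : R, (x : Ω) ∈ centralizerIn S S → (a : MulAut R) x = x}
  one_mem' _ _ := rfl
  mul_mem' {a b} ha hb x hx := by rw [Subgroup.coe_mul, MulAut.mul_apply, hb x hx, ha x hx]
  inv_mem' {a} ha x hx := by
    rw [Subgroup.coe_inv]
    conv_lhs => rw [← ha x hx]
    rw [MulAut.inv_apply_self]

theorem fixZ_normal {R : Subgroup Ω}
    (hinv : ∀ a ∈ F.autGroup R, ∀ z : R, (z : Ω) ∈ centralizerIn S S →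
      ((a z : R) : Ω) ∈ centralizerIn S S) : (fixZ F R).Normal := by
  refine ⟨fun k hk g x hx => ?_⟩
  have h1 := hinv _ (g⁻¹).2 x hx
  rw [Subgroup.coe_mul, Subgroup.coe_mul, Subgroup.coe_inv, MulAut.mul_apply, MulAut.mul_apply,
    hk _ (by rwa [Subgroup.coe_inv] at h1), MulAut.apply_inv_self]

variable {e κ}

theorem qM_congr (h2 : (2 : K) ≠ 0) (a : fixZ F (radM e κ)) {x y : radM e κ}
    (h : qM e κ x = qM e κ y) :
    qM e κ ((a : F.autGroup (radM e κ)).1 x) = qM e κ ((a : F.autGroup (radM e κ)).1 y) := by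
  have h1 : qM e κ (x⁻¹ * y) = 0 := by rw [qM_mul e κ h2, qM_inv e κ h2, h, neg_add_cancel]
  have h3 := a.2 (x⁻¹ * y) ((qM_eq_zero e κ h2).1 h1)
  have h4 := congrArg (qM e κ) h3
  rw [map_mul, map_inv, qM_mul e κ h2, qM_inv e κ h2, h1, neg_add_eq_zero] at h4
  exact h4

/-- The action on the plane. -/
noncomputable def repM (F : FusionSystem S) (e : U4 K ≃* S) (κ : K) (h2 : (2 : K) ≠ 0) :
    fixZ F (radM e κ) →* AddMonoid.End (K × K) where
  toFun a := AddMonoidHom.mk' (fun v => qM e κ ((a : F.autGroup (radM e κ)).1 (lift e κ v)))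
    fun v w => by
      rw [← qM_mul e κ h2, ← map_mul]
      refine qM_congr h2 a ?_
      rw [qM_mul e κ h2, qM_lift, qM_lift, qM_lift]
  map_one' := by ext v : 1; exact qM_lift e κ v
  map_mul' a b := by
    ext v : 1
    show qM e κ (((a * b : fixZ F _) : F.autGroup (radM e κ)).1 (lift e κ v)) = qM e κ
      ((a : F.autGroup (radM e κ)).1 (lift e κ (qM e κ ((b : F.autGroup (radM e κ)).1 (lift e κ v)))))
    refine (qM_congr h2 a ?_).trans rfl
    rw [qM_lift]
    rfl

theorem repM_apply (h2 : (2 : K) ≠ 0) (a : fixZ F (radM e κ)) (x : radM e κ) :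
    repM F e κ h2 a (qM e κ x) = qM e κ ((a : F.autGroup (radM e κ)).1 x) :=
  qM_congr h2 a (qM_lift e κ _)

/-- The alternating form is preserved. -/
theorem repM_form (h2 : (2 : K) ≠ 0) (a : fixZ F (radM e κ)) (v w : K × K) :
    (repM F e κ h2 a v).2 * (repM F e κ h2 a w).1 - (repM F e κ h2 a w).2 * (repM F e κ h2 a v).1 =
      v.2 * w.1 - w.2 * v.1 := by
  have h1 := commutator_eq e κ h2 (lift e κ v) (lift e κ w)
  have hz : ((lift e κ v * lift e κ w * (lift e κ v)⁻¹ * (lift e κ w)⁻¹ : radM e κ) : Ω) ∈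
      centralizerIn S S := by
    rw [h1, el_mem_zc, U4.mem_center]
    simp
  have h3 := congrArg Subtype.val (a.2 _ hz)
  rw [map_mul, map_mul, map_mul, map_inv, map_inv, commutator_eq e κ h2, h1, el_inj] at h3
  have h4 := congrArg U4.a h3
  simp only [U4.vec_a, qM_lift] at h4
  exact mul_left_cancel₀ h2 h4

/-- The action is linear. -/
theorem repM_smul (h2 : (2 : K) ≠ 0) (a : fixZ F (radM e κ)) (l : K) (v : K × K) :
    repM F e κ h2 a (l • v) = l • repM F e κ h2 a v := by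
  have hs : ∀ u, ∃ w, repM F e κ h2 a w = u := fun u => ⟨repM F e κ h2 a⁻¹ u, by
    show (repM F e κ h2 a * repM F e κ h2 a⁻¹) u = u
    rw [← map_mul, mul_inv_cancel, map_one]; rfl⟩
  obtain ⟨w₁, hw₁⟩ := hs (1, 0)
  obtain ⟨w₂, hw₂⟩ := hs (0, 1)
  have e1 := repM_form h2 a (l • v) w₁
  have e2 := repM_form h2 a (l • v) w₂
  have f1 := repM_form h2 a v w₁
  have f2 := repM_form h2 a v w₂
  rw [hw₁] at e1 f1
  rw [hw₂] at e2 f2
  simp only [Prod.smul_fst, Prod.smul_snd, smul_eq_mul, mul_one, zero_mul, sub_zero, mul_zero,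
    one_mul, zero_sub] at e1 e2 f1 f2
  refine Prod.ext ?_ ?_
  · rw [Prod.smul_fst, smul_eq_mul]
    linear_combination -e2 + l * f2
  · rw [Prod.smul_snd, smul_eq_mul]
    linear_combination e1 - l * f1

variable (e κ) [Finite S] [Fact p.Prime]

/-- A radical `c = κ s` gives a torus in `Aut_F(S)`. -/
theorem exists_torus [Fintype K] [CharP K p] (hS : IsPGroup p S) (hF : F.IsSaturated p) (h2 : (2 : K) ≠ 0)
    (hn : F.IsFullyNormalized (radM e κ)) (hc : F.IsCentric (radM e κ))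
    (hr : F.IsRadical p (radM e κ)) {t : K} (ht : t ≠ 0) :
    ∃ α ∈ F.autGroup S, (∀ g : U4 K, g.s = 0 → (pull e α g).s = 0) ∧
      (∀ a, pull e α (U4.vec (a, 0, 0)) = U4.vec (a, 0, 0)) ∧
      ∀ g : U4 K, (pull e α g).s = t⁻¹ * g.s ∧
        (pull e α g).c = t ^ 2 * g.c + κ * (t⁻¹ - t ^ 2) * g.s := by
  classical
  have hRS := hn.1
  have := finite_of_le (Ω := Ω) hRS
  have := finite_mulAut (Ω := Ω) hRS
  have hab : ¬ ∀ x ∈ radM e κ, ∀ y ∈ radM e κ, x * y = y * x := fun h => by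
    have h1 := (commute_el e).1 (h _ ((el_mem_img e).2 (mem_subM.2 (mul_one κ).symm :
      (⟨1, 0, 0, κ⟩ : U4 K) ∈ subM κ)) _ ((el_mem_img e).2 (mem_subM.2 (mul_zero κ).symm :
      (U4.vec (0, 1, 0) : U4 K) ∈ subM κ)))
    rw [U4.comm_iff] at h1
    simp [h2] at h1
  have hinv : ∀ a ∈ F.autGroup (radM e κ), ∀ z : radM e κ, (z : Ω) ∈ centralizerIn S S →
      ((a z : radM e κ) : Ω) ∈ centralizerIn S S :=
    fun a _ z hz => zc_invariant_of_nonabelian e hRS hab a z hz
  have hGn := fixZ_normal (F := F) hinv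
  set V := repM F e κ h2 with hV
  have hSN : S ≤ Subgroup.normalizer ((radM e κ : Subgroup Ω) : Set Ω) :=
    le_normalizer_img e (subM_normal κ)
  -- conjugations
  have hcmem : ∀ g : U4 K, ∃ c : fixZ F (radM e κ), ∀ x : radM e κ,
      (((c : F.autGroup (radM e κ)).1 x : radM e κ) : Ω) = el e g * x * (el e g)⁻¹ := fun g =>
    ⟨⟨⟨conjAut (hSN (el_mem e g)), autInducedBy_le_autGroup F hRS
      (conjAut_mem_autInducedBy (el_mem e g) _)⟩, fun x hx => Subtype.ext (by
        show el e g * (x : Ω) * (el e g)⁻¹ = x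
        rw [(mem_centralizerIn.1 hx).2 _ (el_mem e g), mul_inv_cancel_right])⟩, fun x => rfl⟩
  choose cj hcj using hcmem
  have hcjv : ∀ g v, V (cj g) v = (v.1 + (g.s * κ - g.c) * v.2, v.2) := by
    intro g v
    show qM e κ _ = _
    rw [qM, coM_el e κ (g := g * ⟨v.2, 0, v.1 + κ * v.2 ^ 2 / 2, κ * v.2⟩ * g⁻¹) (by
      rw [hcj, el_mul, el_mul, el_inv]; rfl)]
    refine Prod.ext ?_ ?_ <;> simp
    ring
  have hcjmul : ∀ g h, cj (g * h) = cj g * cj h := fun g h => Subtype.ext (Subtype.ext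
    (MulEquiv.ext fun x => Subtype.ext (by
      show (((cj (g * h) : F.autGroup (radM e κ)).1 x : radM e κ) : Ω) =
        (((cj g : F.autGroup (radM e κ)).1 ((cj h : F.autGroup (radM e κ)).1 x) : radM e κ) : Ω)
      rw [hcj, hcj, hcj, el_mul]
      group)))
  -- the elementary unipotent elements
  let σ : K → fixZ F (radM e κ) := fun s => cj (U4.vec (0, 0, -s))
  have hu : ∀ s b c, V (σ s) (b, c) = (b + s * c, c) := fun s b c => by
    rw [hcjv]; simp
  -- `p`-elements preserving the axis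
  have hpe : ∀ (a : fixZ F (radM e κ)) (k : ℕ), a ^ p ^ k = 1 → (∀ b, (V a (b, 0)).2 = 0) →
      ∃ μ, V a = V (σ μ) := by
    intro a k hk hax
    have hl : ∀ b, V a (b, 0) = ((V a (1, 0)).1 * b, 0) := fun b => by
      rw [show ((b, 0) : K × K) = b • ((1 : K), (0 : K)) by simp, repM_smul h2]
      refine Prod.ext (mul_comm _ _) ?_
      show b * (V a (1, 0)).2 = 0
      rw [hax, mul_zero]
    set l := (V a (1, 0)).1
    have hpow : ∀ m : ℕ, V (a ^ m) (1, 0) = (l ^ m, 0) := by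
      intro m
      induction m with
      | zero => rw [pow_zero, pow_zero, map_one]; rfl
      | succ m ih =>
        rw [pow_succ', map_mul]
        show V a (V (a ^ m) (1, 0)) = _
        rw [ih, hl, pow_succ']
    have hl1 : l = 1 := by
      have := hpow (p ^ k)
      rw [hk, map_one] at this
      have h3 : (1 : K) = l ^ p ^ k := congrArg Prod.fst this
      refine sub_eq_zero.1 (eq_zero_of_pow_eq_zero (n := p ^ k) ?_)
      rw [sub_pow_char_pow, ← h3, one_pow, sub_self]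
    obtain ⟨⟨μ, ν⟩, hμν⟩ : ∃ w, V a (0, 1) = w := ⟨_, rfl⟩
    have hν := repM_form h2 a (1, 0) (0, 1)
    rw [← hV, hl 1, hμν, hl1] at hν
    simp at hν
    refine ⟨μ, DFunLike.ext _ _ fun v => ?_⟩
    obtain ⟨b, c⟩ := v
    have e0 : V a (b, c) = V a (b, 0) + c • V a (0, 1) := by
      rw [← repM_smul h2, ← map_add]; simp
    rw [e0, hl, hl1, hμν, hu, hν]
    simp [mul_comm]
  have hcjp : ∀ g, ∃ k, cj g ^ p ^ k = 1 := fun g => by
    obtain ⟨k, hk⟩ := hS (e g)
    refine ⟨k, ?_⟩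
    have hk' : g ^ p ^ k = 1 := e.injective (by rw [map_pow, hk, map_one])
    have h1 : cj 1 = 1 := mul_eq_left.1 (show cj 1 * cj 1 = cj 1 by rw [← hcjmul, one_mul])
    have h3 : ∀ m : ℕ, cj g ^ m = cj (g ^ m) := by
      intro m
      induction m with
      | zero => rw [pow_zero, pow_zero, h1]
      | succ m ih => rw [pow_succ, pow_succ, hcjmul, ih]
    rw [h3, hk', h1]
  have hconjp : ∀ (a : fixZ F (radM e κ)) (g : U4 K), ∃ k, (a * cj g * a⁻¹) ^ p ^ k = 1 :=
    fun a g => by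
      obtain ⟨k, hk⟩ := hcjp g
      exact ⟨k, by rw [conj_pow, hk, mul_one, mul_inv_cancel]⟩
  -- the unipotent subgroup
  let Y' : Subgroup (F.autGroup (radM e κ)) :=
    { carrier := {a | ∃ h : a ∈ fixZ F (radM e κ), ∃ μ, V ⟨a, h⟩ = V (σ μ)}
      one_mem' := ⟨one_mem _, 0, by
        ext v : 1
        show V 1 v = _
        rw [map_one, show v = (v.1, v.2) from rfl, hu]
        simp⟩
      mul_mem' := by
        rintro a b ⟨ha, μ, hμ⟩ ⟨hb, ν, hν⟩
        refine ⟨mul_mem ha hb, μ + ν, ?_⟩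
        ext v : 1
        show V (⟨a, ha⟩ * ⟨b, hb⟩) v = _
        rw [map_mul, hμ, hν]
        show V (σ μ) (V (σ ν) (v.1, v.2)) = V (σ (μ + ν)) (v.1, v.2)
        rw [hu, hu, hu]
        simp [add_mul, add_assoc, add_comm (ν * v.2)]
      inv_mem' := by
        rintro a ⟨ha, μ, hμ⟩
        refine ⟨inv_mem ha, -μ, ?_⟩
        ext v : 1
        apply Plane.map_zpowers_inj V (⟨a, ha⟩ : fixZ F (radM e κ))
        show (V ⟨a, ha⟩ * V (⟨a, ha⟩⁻¹)) v = _
        rw [← map_mul, mul_inv_cancel, map_one, hμ, show v = (v.1, v.2) from rfl, hu, hu]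
        simp }
  have hY'p : IsPGroup p Y' := by
    obtain ⟨n, hn'⟩ := IsPGroup.iff_card.1 (hS.to_le hRS)
    rintro ⟨a, ha, μ, hμ⟩
    refine ⟨1 + n, Subtype.ext (Subtype.ext (MulEquiv.ext fun x => ?_))⟩
    show ((a : MulAut (radM e κ)) ^ p ^ (1 + n)) x = x
    have hap : V ((⟨a, ha⟩ : fixZ F (radM e κ)) ^ p) = 1 := by
      rw [map_pow, hμ, ← map_pow]
      have hm : ∀ m : ℕ, ∀ v : K × K, V (σ μ ^ m) v = (v.1 + m * μ * v.2, v.2) := by
        intro m
        induction m with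
        | zero => intro v; rw [pow_zero, map_one]; simp
        | succ m ih =>
          intro v
          rw [pow_succ', map_mul]
          show V (σ μ) (V (σ μ ^ m) v) = _
          rw [ih, hu]
          refine Prod.ext ?_ rfl
          simp; ring
      ext v : 1
      rw [hm]
      simp [CharP.cast_eq_zero K p]
    set b := (a : MulAut (radM e κ)) ^ p with hb
    have hb1 : ∀ y, b y = y * (y⁻¹ * b y) ∧ b (y⁻¹ * b y) = y⁻¹ * b y := by
      intro y
      refine ⟨(mul_inv_cancel_left y _).symm, ?_⟩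
      refine ((⟨a, ha⟩ : fixZ F (radM e κ)) ^ p).2 _ ((qM_eq_zero e κ h2).1 ?_)
      rw [qM_mul e κ h2, qM_inv e κ h2, neg_add_eq_zero]
      have h5 := repM_apply h2 ((⟨a, ha⟩ : fixZ F (radM e κ)) ^ p) y
      rw [← hV, hap] at h5
      exact h5
    rw [pow_add, pow_one, pow_mul, ← hb, aut_pow_apply_of_fixed b (hb1 x).1 (hb1 x).2, ← hn',
      pow_card_eq_one', mul_one]
  have hmem : ∀ (a : fixZ F (radM e κ)) (k : ℕ), a ^ p ^ k = 1 → (∀ b, (V a (b, 0)).2 = 0) →
      (a : F.autGroup (radM e κ)) ∈ Y' := fun a k hk hax => ⟨a.2, hpe a k hk hax⟩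
  have hcjY : ∀ g, (cj g : F.autGroup (radM e κ)) ∈ Y' := fun g => by
    obtain ⟨k, hk⟩ := hcjp g
    exact hmem _ k hk fun b => by rw [hcjv]
  -- some image of the axis is not the axis
  obtain ⟨g₁, hg₁⟩ : ∃ g₁, ∀ b, b ≠ 0 → (V g₁ (b, 0)).2 ≠ 0 := by
    by_contra hne
    push Not at hne
    have hax : ∀ g b, (V g (b, 0)).2 = 0 := fun g b => by
      refine Plane.axis_invariant V σ hu (fun g s h => ?_) hne g b
      obtain ⟨k, hk⟩ := hconjp g (U4.vec (0, 0, -s))
      exact hpe _ k hk h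
    have hK : Y'.Normal := by
      refine ⟨fun k hk a => ?_⟩
      obtain ⟨hkZ, -⟩ := id hk
      obtain ⟨j, hj⟩ := hY'p ⟨k, hk⟩
      have hm : a * k * a⁻¹ ∈ fixZ F (radM e κ) := hGn.conj_mem _ hkZ a
      refine hmem ⟨_, hm⟩ j (Subtype.ext ?_) (hax _)
      show (a * k * a⁻¹) ^ p ^ j = 1
      rw [conj_pow, show k ^ p ^ j = 1 from congrArg Subtype.val hj, mul_one, mul_inv_cancel]
    have hRtop : S ≤ radM e κ := le_of_autInducedBy_le hS le_rfl Subgroup.le_normalizer hc hr Y' hY'p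
      fun g hg hgN hm => by
        obtain ⟨k, rfl⟩ := exists_el e hg
        have : (⟨conjAut hgN, hm⟩ : F.autGroup (radM e κ)) = (cj k : F.autGroup (radM e κ)) :=
          Subtype.ext (MulEquiv.ext fun x => Subtype.ext (hcj k x).symm)
        rw [this]
        exact hcjY k
    have := mem_subM.1 ((el_mem_img e).1 (hRtop (el_mem e (U4.vec (0, 0, 1)))))
    simp at this
  -- the diagonal element
  obtain ⟨m, -, hmv⟩ := Plane.exists_lower V σ hu (fun g s l v => repM_smul h2 _ l v) hg₁ (-t⁻¹)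
  obtain ⟨k, -, hkv⟩ := Plane.exists_lower V σ hu (fun g s l v => repM_smul h2 _ l v) hg₁ (1 : K)
  set d := σ t * m * σ t * (σ (-1) * k * σ (-1)) with hd
  have hdv : ∀ b c, V d (b, c) = (t * b, t⁻¹ * c) := fun b c => by
    simp only [hd, map_mul]
    show V (σ t) (V m (V (σ t) (V (σ (-1)) (V k (V (σ (-1)) (b, c)))))) = _
    rw [hu, hkv, hu, hu, hmv, hu]
    refine Prod.ext ?_ ?_ <;> · field_simp; ring
  obtain ⟨-, Y, hY⟩ := isFullyAutomized_of_fullyNormalized hS hF hn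
  have hYY' : Y' = (Y : Subgroup (F.autGroup (radM e κ))) := by
    refine Y.is_maximal' hY'p fun a ha => ?_
    rw [hY, Subgroup.mem_subgroupOf] at ha
    obtain ⟨g, hg, hgx⟩ := mem_autInducedBy_iff.1 ha
    obtain ⟨j, rfl⟩ := exists_el e hg
    rw [show a = (cj j : F.autGroup (radM e κ)) from
      Subtype.ext (MulEquiv.ext fun x => Subtype.ext ((hgx x).trans (hcj j x).symm))]
    exact hcjY j
  obtain ⟨α, hα, hext⟩ := exists_extend_top hSN (isReceptive_of_fullyNormalized hS hF hn)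
    (d : F.autGroup (radM e κ)).2 fun c hc => by
      obtain ⟨g, hg, hgx⟩ := mem_autInducedBy_iff.1 hc
      obtain ⟨j, rfl⟩ := exists_el e hg
      have hcc : c = (cj j : F.autGroup (radM e κ)).1 :=
        MulEquiv.ext fun x => Subtype.ext ((hgx x).trans (hcj j x).symm)
      subst hcc
      obtain ⟨i, hi⟩ := hconjp d j
      have hax : ∀ b, (V (d * cj j * d⁻¹) (b, 0)).2 = 0 := fun b => by
        rw [map_mul, map_mul]
        show (V d (V (cj j) (V d⁻¹ (b, 0)))).2 = 0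
        have h5 : V d⁻¹ (b, 0) = (t⁻¹ * b, 0) := by
          apply Plane.map_zpowers_inj V d
          show (V d * V d⁻¹) (b, 0) = _
          rw [← map_mul, mul_inv_cancel, map_one, hdv, mul_inv_cancel_left₀ ht, mul_zero]
          rfl
        rw [h5, hcjv, hdv]
        simp
      have h6 := hmem _ i hi hax
      rw [hYY', hY, Subgroup.mem_subgroupOf] at h6
      exact h6
  have hval : ∀ g, g ∈ subM κ → ∃ g' : U4 K, pull e α g = g' ∧ g' ∈ subM κ ∧
      (g'.b - κ * g'.s ^ 2 / 2, g'.s) = (t * (g.b - κ * g.s ^ 2 / 2), t⁻¹ * g.s) := by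
    intro g hg
    refine ⟨coM e κ ((d : F.autGroup (radM e κ)).1 ⟨el e g, (el_mem_img e).2 hg⟩), ?_, ?_, ?_⟩
    · rw [← el_inj e, el_pull, el_coM]
      exact hext ⟨el e g, (el_mem_img e).2 hg⟩ (el_mem e g)
    · exact mem_subM.2 (coM_mem e κ _)
    · have h5 := repM_apply h2 d ⟨el e g, (el_mem_img e).2 hg⟩
      have h6 : qM e κ ⟨el e g, (el_mem_img e).2 hg⟩ = (g.b - κ * g.s ^ 2 / 2, g.s) := by
        rw [qM, coM_el e κ (g := g) rfl]
      rw [h6, ← hV, hdv] at h5
      exact h5.symm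
  have hZfix : ∀ a, pull e α (U4.vec (a, 0, 0)) = U4.vec (a, 0, 0) := by
    intro a
    rw [← el_inj e, el_pull]
    have hm : el e (U4.vec (a, 0, 0)) ∈ radM e κ := (el_mem_img e).2 (mem_subM.2 (mul_zero κ).symm)
    refine (hext ⟨_, hm⟩ (el_mem e _)).trans (congrArg Subtype.val (d.2 ⟨_, hm⟩ ?_))
    rw [el_mem_zc, U4.mem_center]
    simp
  -- the abelian radical is invariant
  have hW : ∀ b, ∃ a, pull e α (U4.vec (0, b, 0)) = U4.vec (a, t * b, 0) := by
    intro b
    obtain ⟨g', h1, h3, h4⟩ := hval (U4.vec (0, b, 0)) (mem_subM.2 (mul_zero κ).symm)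
    simp [Prod.ext_iff] at h4
    refine ⟨g'.a, h1.trans ?_⟩
    rw [mem_subM] at h3
    rw [h4.2] at h3
    ext
    · exact h4.2
    · rfl
    · simpa [h4.2] using h4.1
    · simpa using h3
  have hA : ∀ g : U4 K, g.s = 0 → (pull e α g).s = 0 := by
    intro g hg
    have hcomm : g * U4.vec (0, 1, 0) = U4.vec (0, 1, 0) * g := by
      rw [U4.comm_iff, hg]; simp
    obtain ⟨a, ha⟩ := hW 1
    have h := congrArg (pull e α) hcomm
    rw [map_mul, map_mul, ha, U4.comm_iff] at h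
    have h' := h.1
    simp only [U4.vec_b, U4.vec_c, U4.vec_s, mul_one] at h'
    have : (pull e α g).s * (2 * t) = 0 := by linear_combination h'
    exact (mul_eq_zero.1 this).resolve_right (mul_ne_zero h2 ht)
  obtain ⟨φ₁, ω, φ, π, o₁, o₂, hs⟩ := U4.exists_shape_odd (pull e α) hA h2
  obtain ⟨-, hω, hs1, hs2⟩ := hs
  have hφs : ∀ s, φ₁ * φ s = t⁻¹ * s := fun s => by
    obtain ⟨g', h1, -, h4⟩ := hval ⟨s, 0, 0, κ * s⟩ (mem_subM.2 rfl)
    have h5 := congrArg Prod.snd h4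
    rw [← h1, hs1] at h5
    exact h5
  have hφ1 : φ₁ = t⁻¹ := by simpa using hφs 1
  have hφ : ∀ x, φ x = x := fun x => by
    have := hφs x
    rw [hφ1] at this
    exact mul_left_cancel₀ (inv_ne_zero ht) this
  have hωt : ω = t ^ 2 := by
    obtain ⟨a, ha⟩ := hW 1
    have hb := congrArg U4.b ((hs2 0 1 0).symm.trans ha)
    have ho : o₂ 0 = 0 := (U4.zero_of_shape ⟨by rw [hφ1]; exact inv_ne_zero ht, hω, hs1, hs2⟩).2
    simp [ho, hφ1] at hb
    field_simp at hb
    linear_combination hb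
  refine ⟨α, hα, hA, hZfix, fun g => ⟨(hs1 g).trans (hφs _), ?_⟩⟩
  obtain ⟨g', h1, h3, h4⟩ := hval ⟨g.s, 0, 0, κ * g.s⟩ (mem_subM.2 rfl)
  rw [mem_subM, show g'.s = t⁻¹ * g.s from congrArg Prod.snd h4, ← h1] at h3
  have hsplit : g = U4.vec (g.a, g.b, g.c - κ * g.s) * (⟨g.s, 0, 0, κ * g.s⟩ : U4 K) := by
    ext <;> simp
  conv_lhs => rw [hsplit, map_mul, U4.mul_c, h3, hs2, U4.vec_c, hωt]
  simp only [hφ]
  ring

variable {e}

/-- An automorphism of `S` in the system that is unipotent on the top layer is trivial there. -/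
theorem c_eq_of_unipotent [CharP K p] (hS : IsPGroup p S) (hF : F.IsSaturated p) {α : MulAut S}
    (hα : α ∈ F.autGroup S) (hs : ∀ g, (pull e α g).s = g.s)
    (hA : ∀ g : U4 K, g.s = 0 → (pull e α g).c = g.c) (g : U4 K) : (pull e α g).c = g.c := by
  have := finite_mulAut (Ω := Ω) (le_refl S)
  set D := fun g => (pull e α g).c - g.c with hD
  have hDmul : ∀ g h, D (g * h) = D g + D h := fun g h => by
    simp only [hD, map_mul, U4.mul_c]; ring
  have hD1 : D 1 = 0 := by simp [hD]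
  have hDinv : ∀ g, D g⁻¹ = -D g := fun g => eq_neg_of_add_eq_zero_left (by
    rw [← hDmul, inv_mul_cancel, hD1])
  have hDα : ∀ g, D (pull e α g) = D g := fun g => by
    have h0 : D (g⁻¹ * pull e α g) = 0 := sub_eq_zero.2 (hA _ (by simp [hs]))
    rw [hDmul, hDinv, neg_add_eq_zero] at h0
    exact h0.symm
  have hpow : ∀ (m : ℕ) g, (pull e (α ^ m) g).c = g.c + m * D g := by
    intro m
    induction m with
    | zero => intro g; simp [pull]
    | succ m ih =>
      intro g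
      have he : pull e (α ^ (m + 1)) g = pull e (α ^ m) (pull e α g) := by
        simp [pull, pow_succ, MulAut.mul_apply]
      rw [he, ih, hDα]
      simp only [hD]
      push_cast
      ring
  obtain ⟨-, Y, hY⟩ := isFullyAutomized_self (F := F) hS hF
  rw [autInducedBy_self] at hY
  have hYn : (Y : Subgroup (F.autGroup S)).Normal := by
    rw [hY]; exact inn_subgroupOf_normal S _
  set a : F.autGroup S := ⟨α, hα⟩
  obtain ⟨i, r, hr, hir⟩ := Nat.exists_eq_pow_mul_and_not_dvd (orderOf_pos a).ne' p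
    (Fact.out : p.Prime).ne_one
  have hp : IsPGroup p (Subgroup.zpowers (a ^ r)) := by
    rintro ⟨_, j, rfl⟩
    refine ⟨i, Subtype.ext ?_⟩
    show ((a ^ r) ^ j) ^ p ^ i = 1
    rw [← zpow_natCast ((a ^ r) ^ j), ← zpow_mul, mul_comm, zpow_mul, zpow_natCast, ← pow_mul,
      mul_comm r, ← hir, pow_orderOf_eq_one, one_zpow]
  have hsup : IsPGroup p ↥(Subgroup.zpowers (a ^ r) ⊔ (Y : Subgroup (F.autGroup S))) :=
    hp.to_sup_of_normal_right Y.isPGroup'
  have hmem : a ^ r ∈ (Y : Subgroup (F.autGroup S)) := by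
    rw [← Y.is_maximal' hsup le_sup_right]
    exact Subgroup.mem_sup_left (Subgroup.mem_zpowers _)
  rw [hY, Subgroup.mem_subgroupOf] at hmem
  obtain ⟨x, hx⟩ := hmem
  have h1 : (pull e (α ^ r) g).c = g.c := by
    have h2 : α ^ r = MulAut.conj x := hx.symm
    rw [h2]
    show (e.symm (x * e g * x⁻¹)).c = g.c
    rw [map_mul, map_mul, map_inv, MulEquiv.symm_apply_apply]
    simp
  rw [hpow, add_eq_left] at h1
  rcases mul_eq_zero.1 h1 with h2 | h2
  · exact absurd ((CharP.cast_eq_zero_iff K p r).1 h2) hr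
  · exact sub_eq_zero.1 h2

end Cfsg.Agent.Fusion.SpFour
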