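import Cfsg.Agent.Lib.Fusion.SpFour.Module

/-!
The module of the abelian radical in characteristic 2: no such module for `q > 4`, and a standard
form for `q ≤ 4`.
-/

set_option autoImplicit false
set_option linter.unusedSectionVars false

namespace Cfsg.Agent.Fusion.SpFour.Module

variable {G : Type*} [Group G] {K : Type*} [Field K] {p : ℕ}

/-- The shear `(a, b, c) ↦ (a + ε c, b + δ c, c)`. -/
def shear (δ ε : K →+ K) : AddMonoid.End (K × K × K) :=
  AddMonoidHom.mk' (fun v => (v.1 + ε v.2.2, v.2.1 + δ v.2.2, v.2.2)) fun v w => by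
    simp only [Prod.fst_add, Prod.snd_add, map_add, Prod.mk_add_mk]
    exact Prod.ext (by abel) (Prod.ext (by abel) rfl)

theorem shear_apply (δ ε : K →+ K) (v : K × K × K) :
    shear δ ε v = (v.1 + ε v.2.2, v.2.1 + δ v.2.2, v.2.2) := rfl

theorem shear_shear [CharP K 2] (δ ε : K →+ K) (v : K × K × K) :
    shear δ ε (shear δ ε v) = v := by
  simp [shear_apply, add_assoc, CharTwo.add_self_eq_zero]

/-- The representation in sheared coordinates. -/
def conjRep [CharP K 2] (ρ : G →* AddMonoid.End (K × K × K)) (δ ε : K →+ K) :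
    G →* AddMonoid.End (K × K × K) where
  toFun g := shear δ ε * ρ g * shear δ ε
  map_one' := by
    refine DFunLike.ext _ _ fun v => ?_
    show shear δ ε (ρ 1 (shear δ ε v)) = v
    rw [map_one]
    exact shear_shear δ ε v
  map_mul' g h := by
    refine DFunLike.ext _ _ fun v => ?_
    show shear δ ε (ρ (g * h) (shear δ ε v)) =
      shear δ ε (ρ g (shear δ ε (shear δ ε (ρ h (shear δ ε v)))))
    rw [shear_shear, apply_mul]

section

variable [CharP K 2] {ρ : G →* AddMonoid.End (K × K × K)} {σ : K → G}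

theorem conjRep_apply (δ ε : K →+ K) (g : G) (v : K × K × K) :
    conjRep ρ δ ε g v = shear δ ε (ρ g (shear δ ε v)) := rfl

theorem conjRep_add (δ ε δ' ε' : K →+ K) (g : G) (v : K × K × K) :
    conjRep (conjRep ρ δ ε) δ' ε' g v = conjRep ρ (δ + δ') (ε + ε') g v := by
  simp only [conjRep_apply]
  have e : ∀ v, shear δ ε (shear δ' ε' v) = shear (δ + δ') (ε + ε') v := fun v => by
    simp [shear_apply, add_assoc, add_comm, add_left_comm]
  have e' : ∀ v, shear δ' ε' (shear δ ε v) = shear (δ + δ') (ε + ε') v := fun v => by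
    simp [shear_apply, add_assoc, add_comm, add_left_comm]
  rw [e, e']

theorem conjRep_inj (hρ : Function.Injective ρ) (δ ε : K →+ K) :
    Function.Injective (conjRep ρ δ ε) := fun g h e => hρ (DFunLike.ext _ _ fun v => by
  have h1 := DFunLike.congr_fun e (shear δ ε v)
  rw [conjRep_apply, conjRep_apply, shear_shear] at h1
  exact (Function.LeftInverse.injective (shear_shear δ ε)) h1)

theorem Hyp.conjRep (H : Hyp p ρ σ) (δ ε : K →+ K) :
    Hyp p (Module.conjRep ρ δ ε) σ where
  inj := conjRep_inj H.inj δ ε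
  add := H.add
  form s v := by
    rw [conjRep_apply, H.form]
    simp [upper, shear_apply, CharTwo.two_eq_zero]
    constructor <;> ring_nf <;> simp [CharTwo.two_eq_zero]
  sylow := H.sylow

/-- The shapes in characteristic 2 fixing `(1, 0, 0)`. -/
def Shapes (ρ : G →* AddMonoid.End (K × K × K)) (σ : K → G) : Prop :=
  ∀ h ∈ Subgroup.normalizer (Set.range σ), ∃ (φ₁ ω : K) (φ : K ≃+* K) (o₁ o₂ : K → K),
    φ₁ ^ 2 * ω = 1 ∧ o₁ 0 = 0 ∧ o₂ 0 = 0 ∧ φ₁ ≠ 0 ∧ ω ≠ 0 ∧ ∀ a b c,
      ρ h (a, b, c) = (φ a + o₁ c, φ₁ * ω * φ b + o₂ c, ω * φ c)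

theorem Shapes.conjRep (hN : Shapes ρ σ) (δ ε : K →+ K) : Shapes (Module.conjRep ρ δ ε) σ := by
  intro h hh
  obtain ⟨φ₁, ω, φ, o₁, o₂, h1, h2, h3, h4, h5, hs⟩ := hN h hh
  refine ⟨φ₁, ω, φ, fun c => φ (ε c) + o₁ c + ε (ω * φ c),
    fun c => φ₁ * ω * φ (δ c) + o₂ c + δ (ω * φ c), h1, by simp [h2], by simp [h3], h4, h5,
    fun a b c => ?_⟩
  rw [conjRep_apply, shear_apply, hs, shear_apply]
  refine Prod.ext ?_ (Prod.ext ?_ rfl) <;> simp [map_add] <;> ring

theorem axis_shape (hN : Shapes ρ σ) {h : G} (hh : h ∈ Subgroup.normalizer (Set.range σ)) :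
    ∃ φ : K ≃+* K, ∀ a, ρ h (a, 0, 0) = (φ a, 0, 0) := by
  obtain ⟨φ₁, ω, φ, o₁, o₂, -, h2, h3, -, -, hs⟩ := hN h hh
  exact ⟨φ, fun a => by rw [hs]; simp [h2, h3]⟩

variable [Finite G] [Fintype K]

theorem ringEquiv_sq_eq {φ : K ≃+* K} (hK : Fintype.card K ≤ 4) (x : K) : φ (φ x) = x := by
  classical
  by_contra hne
  have h1 : x ≠ 0 := fun h => hne (by simp [h])
  have h2 : x ≠ 1 := fun h => hne (by simp [h])
  have h3 : φ x ≠ x := fun h => hne (by rw [h, h])
  have h4 : φ (φ x) ≠ φ x := fun h => h3 (φ.injective h)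
  have h5 : φ x ≠ 0 := (map_ne_zero φ).2 h1
  have h6 : φ x ≠ 1 := fun h => h2 (φ.injective (h.trans φ.map_one.symm))
  have h7 : φ (φ x) ≠ 0 := (map_ne_zero φ).2 h5
  have h8 : φ (φ x) ≠ 1 := fun h => h6 (φ.injective (h.trans φ.map_one.symm))
  have hc : ({0, 1, x, φ x, φ (φ x)} : Finset K).card = 5 := by
    rw [Finset.card_insert_of_notMem, Finset.card_insert_of_notMem, Finset.card_insert_of_notMem,
      Finset.card_insert_of_notMem, Finset.card_singleton] <;>
      simp [Ne.symm h1, Ne.symm h2, Ne.symm h3, Ne.symm h4, Ne.symm hne, Ne.symm h5, Ne.symm h6,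
        Ne.symm h7, Ne.symm h8]
  have := hc ▸ Finset.card_le_univ ({0, 1, x, φ x, φ (φ x)} : Finset K)
  omega

/-- The elements acting semilinearly on the plane. -/
def semiGroup (H : Hyp p ρ σ) [Fact p.Prime] [CharP K p]
    (hZa : ∀ g a, (ρ g (a, 0, 0)).2 = 0) : Subgroup G where
  carrier := {g | ∀ (l : K) v, planeAct ρ hZa g (l • v) = axisAct ρ g l • planeAct ρ hZa g v}
  one_mem' := fun l v => by
    have : axisAct ρ 1 l = l := by show (ρ 1 (l, 0, 0)).1 = l; rw [map_one]; rfl
    rw [this, map_one]; rfl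
  mul_mem' {g h} hg hh l v := by
    rw [map_mul]
    show planeAct ρ hZa g (planeAct ρ hZa h (l • v)) = _
    rw [hh, hg, axisAct_mul H hZa]
    rfl
  inv_mem' {g} hg l v := by
    apply Plane.map_zpowers_inj (planeAct ρ hZa) g
    show (planeAct ρ hZa g * planeAct ρ hZa g⁻¹) (l • v) = _
    rw [← map_mul, mul_inv_cancel, map_one, hg, ← axisAct_mul H hZa, mul_inv_cancel]
    show l • v = (ρ 1 (l, 0, 0)).1 • (planeAct ρ hZa g * planeAct ρ hZa g⁻¹) v
    rw [← map_mul, mul_inv_cancel, map_one, map_one]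
    rfl

variable (H : Hyp 2 ρ σ)
include H

/-- After a shear the normaliser is semilinear. -/
theorem exists_shear_semilinear [Fact (Nat.Prime 2)] (hN : Shapes ρ σ)
    (hZa : ∀ g a, (ρ g (a, 0, 0)).2 = 0) :
    ∃ δ : K →+ K, ∃ hZa' : ∀ g a, (conjRep ρ δ 0 g (a, 0, 0)).2 = 0,
      ∀ h ∈ Subgroup.normalizer (Set.range σ), ∀ (l : K) v,
        planeAct (conjRep ρ δ 0) hZa' h (l • v) =
          axisAct (conjRep ρ δ 0) h l • planeAct (conjRep ρ δ 0) hZa' h v := by
  classical
  cases nonempty_fintype G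
  set N := Subgroup.normalizer (Set.range σ) with hNdef
  obtain ⟨P, hP⟩ := H.sylow
  have hPN : (P : Subgroup G) ≤ N := fun x hx => by
    obtain ⟨s, rfl⟩ := hP.le hx
    exact H.σ_mem_normalizer s
  have hn : ((P : Subgroup G).subgroupOf N).Normal := by
    refine ⟨fun x hx g => ?_⟩
    have hx' : (x : G) ∈ Set.range σ := hP ▸ hx
    show (g : G) * x * (g : G)⁻¹ ∈ ((P : Subgroup G) : Set G)
    rw [hP]
    exact (Subgroup.mem_set_normalizer_iff.1 g.2 (x : G)).1 hx'
  have hcop : Nat.Coprime (Nat.card ((P : Subgroup G).subgroupOf N))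
      ((P : Subgroup G).subgroupOf N).index := by
    rw [← Sylow.coe_subtype P hPN]
    exact Sylow.card_coprime_index _
  obtain ⟨H₀, hH₀⟩ := Subgroup.exists_right_complement'_of_coprime hcop
  have hodd : Odd (Nat.card H₀) := by
    rw [← hH₀.symm.index_eq_card, ← Sylow.coe_subtype P hPN, Nat.odd_iff]
    have := (Sylow.subtype P hPN).not_dvd_index
    omega
  let jj : K →+ K × K × K := AddMonoidHom.mk' (fun c => (0, 0, c)) (fun c d => by simp)
  let d : H₀ → K →+ K := fun k => AddMonoidHom.mk'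
    (fun c => (ρ ((k : N) : G) (jj (ρ ((k : N) : G)⁻¹ (jj c)).2.2)).2.1) fun c c' => by
      simp only [map_add, Prod.snd_add, Prod.fst_add]
  let δ : K →+ K := ∑ k, d k
  have hZa' : ∀ g a, (conjRep ρ δ 0 g (a, 0, 0)).2 = 0 := fun g a => by
    have e := hZa g a
    rw [conjRep_apply, show shear δ 0 ((a : K), (0 : K), (0 : K)) = (a, 0, 0) by simp [shear_apply],
      shear_apply]
    refine Prod.ext ?_ ?_ <;> simp [e]
  refine ⟨δ, hZa', ?_⟩
  have H' := H.conjRep δ 0
  set S₀ := semiGroup H' hZa'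
  have hPS : ((P : Subgroup G).subgroupOf N) ≤ S₀.subgroupOf N := by
    intro x hx
    obtain ⟨s, hs⟩ := hP.le hx
    show (x : G) ∈ S₀
    rw [show (x : G) = σ s from hs.symm]
    intro l v
    obtain ⟨b, c⟩ := v
    rw [axisAct_σ H' hZa', Prod.smul_mk, planeAct_σ H' hZa', planeAct_σ H' hZa', Prod.smul_mk]
    simp only [smul_eq_mul]
    refine Prod.ext ?_ rfl
    ring
  have hHS : H₀ ≤ S₀.subgroupOf N := by
    intro x hx
    show (x : G) ∈ S₀
    set h := ((x : N) : G)
    obtain ⟨φ₁, ω, φ, o₁, o₂, h1, h2, h3, h4, h5, hs⟩ := hN h x.2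
    have hb : ∀ v, (ρ h v).2.1 = φ₁ * ω * φ v.2.1 + o₂ v.2.2 := fun v => by
      rw [show v = (v.1, v.2.1, v.2.2) from rfl, hs]
    have hc : ∀ v, (ρ h v).2.2 = ω * φ v.2.2 := fun v => by
      rw [show v = (v.1, v.2.1, v.2.2) from rfl, hs]
    have key : ∀ y, δ (ω * φ y) = φ₁ * ω * φ (δ y) + o₂ y := by
      intro y
      have hterm : ∀ k : H₀, d (⟨x, hx⟩ * k) (ω * φ y) = φ₁ * ω * φ (d k y) + o₂ y := by
        intro k
        obtain ⟨ψ₁, ν, ψ, q₁, q₂, -, -, -, -, -, hk⟩ := hN _ (k : N).2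
        obtain ⟨ψ₁', ν', ψ', q₁', q₂', -, -, -, -, -, hk'⟩ := hN _ (inv_mem (k : N).2)
        have e1 : (ρ h⁻¹ (jj (ω * φ y))).2.2 = y := by
          have e2 := hc (ρ h⁻¹ (jj (ω * φ y)))
          rw [cancel'] at e2
          exact φ.injective (mul_left_cancel₀ h5 e2.symm)
        show (ρ (h * ((k : N) : G)) (jj (ρ (h * ((k : N) : G))⁻¹ (jj (ω * φ y))).2.2)).2.1 = _
        rw [apply_mul, hb, mul_inv_rev, apply_mul]
        have e3 : ∀ v, (ρ ((k : N) : G)⁻¹ v).2.2 = ν' * ψ' v.2.2 := fun v => by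
          rw [show v = (v.1, v.2.1, v.2.2) from rfl, hk']
        have e4 : (ρ ((k : N) : G)⁻¹ (ρ h⁻¹ (jj (ω * φ y)))).2.2 =
            (ρ ((k : N) : G)⁻¹ (jj y)).2.2 := by rw [e3, e3, e1]; rfl
        rw [e4]
        refine congrArg₂ (· + ·) rfl ?_
        refine congrArg o₂ ?_
        have e5 := congrArg (fun v => v.2.2) (cancel' ρ ((k : N) : G) (jj y))
        set w := ρ ((k : N) : G)⁻¹ (jj y)
        have e6 : ∀ v, (ρ ((k : N) : G) v).2.2 = ν * ψ v.2.2 := fun v => by
          rw [show v = (v.1, v.2.1, v.2.2) from rfl, hk]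
        rw [e6] at e5 ⊢
        exact e5
      have e : δ (ω * φ y) = ∑ k, d (⟨x, hx⟩ * k) (ω * φ y) := by
        rw [AddMonoidHom.finsetSum_apply]
        exact (Fintype.sum_equiv (Equiv.mulLeft (⟨x, hx⟩ : H₀)) _ _ fun _ => rfl).symm
      rw [e, Finset.sum_congr rfl fun k _ => hterm k, Finset.sum_add_distrib, Finset.sum_const,
        Finset.card_univ, ← Nat.card_eq_fintype_card, ← Finset.mul_sum, ← map_sum,
        AddMonoidHom.finsetSum_apply]
      congr 1
      obtain ⟨m, hm⟩ := hodd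
      rw [hm, add_smul, mul_smul, two_smul, CharTwo.add_self_eq_zero, zero_add, one_smul]
    intro l v
    obtain ⟨b, c⟩ := v
    have hval : ∀ a b c, conjRep ρ δ 0 h (a, b, c) = (φ a + o₁ c, φ₁ * ω * φ b, ω * φ c) := by
      intro a b c
      rw [conjRep_apply, shear_apply, hs, shear_apply]
      simp [key, map_add]
      ring_nf
      simp [CharTwo.two_eq_zero]
    have hl : axisAct (conjRep ρ δ 0) h l = φ l := by
      show (conjRep ρ δ 0 h (l, 0, 0)).1 = _
      rw [hval, h2, add_zero]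
    rw [hl, planeAct_apply, planeAct_apply, Prod.smul_mk, hval, hval, Prod.smul_mk]
    simp only [smul_eq_mul, map_mul]
    refine Prod.ext ?_ ?_ <;> ring
  intro h hh
  have : (⟨h, hh⟩ : N) ∈ ((P : Subgroup G).subgroupOf N) ⊔ H₀ := by
    rw [hH₀.sup_eq_top]; trivial
  exact (sup_le hPS hHS) this

/-- No such module for `q ≥ 8`. -/
theorem false_two [Fact (Nat.Prime 2)] {n : ℕ} (hK : Fintype.card K = 2 ^ n) (hn : 3 ≤ n)
    (hN : Shapes ρ σ) {g₀ : G} (hg₀ : g₀ ∉ Subgroup.normalizer (Set.range σ)) : False := by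
  classical
  have h2 : (2 : K) = 0 := CharTwo.two_eq_zero
  have hZa : ∀ g a, (ρ g (a, 0, 0)).2 = 0 := fun g a =>
    za_invariant H hK (deg_one H h2) (by omega) (fun h hh => axis_shape hN hh) g a
  obtain ⟨δ, hZa', hsemi⟩ := exists_shear_semilinear H hN hZa
  have H' := H.conjRep δ 0
  obtain ⟨t, ht, ht3⟩ : ∃ t : K, t ≠ 0 ∧ t ^ 3 ≠ 1 := by
    obtain ⟨t, ht⟩ := IsCyclic.exists_ofOrder_eq_natCard (α := Kˣ)
    refine ⟨t, t.ne_zero, fun h => ?_⟩
    have h3 : t ^ 3 = 1 := Units.ext (by simpa using h)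
    have h4 := Nat.le_of_dvd (by norm_num) (orderOf_dvd_of_pow_eq_one h3)
    rw [ht, Nat.card_eq_fintype_card, Fintype.card_units, hK] at h4
    have : 2 ^ 3 ≤ 2 ^ n := Nat.pow_le_pow_right (by norm_num) hn
    omega
  refine false_of_lin H' hZa' (fun g s l v => ?_) (fun h hh => ?_) hg₀ ht ht3
  · rw [semilinear H' hZa' hK (by omega) hsemi, axisAct_conj H' hZa']
  · obtain ⟨φ₁, ω, φ, o₁, o₂, h1, h2', h3, h4, h5, hs⟩ := hN.conjRep δ 0 h hh
    exact ⟨φ₁, ω, φ, fun _ => 0, o₁, o₂, h4, h5, fun a b c => by rw [hs, h1]; simp⟩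

/-! ### At most four elements -/

variable [Fact (Nat.Prime 2)]

/-- For at most four elements the first axis is fixed. -/
theorem za_fixed (hN : Shapes ρ σ) (hfix : ∀ g, ρ g (1, 0, 0) = (1, 0, 0))
    (hK : Fintype.card K ≤ 4) (g : G) (a : K) : ρ g (a, 0, 0) = (a, 0, 0) := by
  classical
  have hNfix : ∀ h ∈ Subgroup.normalizer (Set.range σ), ∀ a, ρ h (a, 0, 0) = (a, 0, 0) := by
    intro h hh a
    obtain ⟨φ, hφ⟩ := axis_shape hN hh
    let M : Subgroup G :=
      { carrier := {g | ρ g (a, 0, 0) = (a, 0, 0)}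
        one_mem' := by simp
        mul_mem' := fun {x y} hx hy => by
          show ρ (x * y) (a, 0, 0) = _
          rw [apply_mul, hy, hx]
        inv_mem' := fun {x} hx => by
          show ρ x⁻¹ (a, 0, 0) = _
          conv_lhs => rw [← hx]
          rw [cancel] }
    have h2 : h ^ 2 ∈ M := by
      show ρ (h ^ 2) (a, 0, 0) = _
      rw [pow_two, apply_mul, hφ, hφ, ringEquiv_sq_eq hK]
    obtain ⟨i, r, hr, hir⟩ := Nat.exists_eq_pow_mul_and_not_dvd (orderOf_pos h).ne' 2 (by norm_num)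
    obtain ⟨b, hb⟩ := H.eq_σ_of_pow (pow_mem hh r) (k := i) (by
      rw [← pow_mul, mul_comm, ← hir, pow_orderOf_eq_one])
    have h3 : h ^ r ∈ M := by
      show ρ (h ^ r) (a, 0, 0) = _
      rw [hb, H.form]; simp [upper]
    obtain ⟨m, hm⟩ : ∃ m, r = 2 * m + 1 := Nat.odd_iff.2 (by omega)
    have : h ^ r * ((h ^ 2) ^ m)⁻¹ = h := by
      rw [hm, ← pow_mul, pow_succ']
      group
    show h ∈ M
    rw [← this]
    exact mul_mem h3 (inv_mem (pow_mem h2 m))
  obtain ⟨n, hp, hn⟩ := FiniteField.card K 2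
  by_cases h1 : (n : ℕ) = 1
  · have ha : a = 0 ∨ a = 1 := by
      by_contra hne
      push Not at hne
      have hc : ({0, 1, a} : Finset K).card = 3 := by
        rw [Finset.card_insert_of_notMem, Finset.card_insert_of_notMem, Finset.card_singleton] <;>
          simp [Ne.symm hne.1, Ne.symm hne.2]
      have := hc ▸ Finset.card_le_univ ({0, 1, a} : Finset K)
      rw [hn, h1] at this
      norm_num at this
    rcases ha with rfl | rfl
    · exact map_zero (ρ g)
    · exact hfix g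
  refine fixed_of_ti σ H.σ_inj H.add _ H.σ_mem_normalizer (fun g a h => H.conj_eq_σ h)
    (fun g hg a b h => H.eq_zero_of_conj hg h) (fun g w => ρ g w) (apply_mul ρ)
    (fun w => by rw [map_one]; rfl) (fun g v w => map_add (ρ g) v w) (a, 0, 0)
    (fun h hh => hNfix h hh a) (fun v => ?_) g
  refine sum_field_eq_zero hn ?_ (k := 1) ?_ (by have := n.pos; omega)
  · intro w
    refine Prod.ext ?_ (Prod.ext ?_ ?_) <;> simp [nsmul_eq_mul, CharTwo.two_eq_zero]
  · exact (deg_one H CharTwo.two_eq_zero).comp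
      (AddMonoidHom.eval (M := K × K × K) (N := K × K × K) v)

/-- After a shear, `(a, b, c) ↦ (a, c, b)` belongs to the group, and the plane action is linear. -/
theorem exists_std (hN : Shapes ρ σ) (hfix : ∀ g, ρ g (1, 0, 0) = (1, 0, 0))
    (hK : Fintype.card K ≤ 4) {g₀ : G} (hg₀ : g₀ ∉ Subgroup.normalizer (Set.range σ)) :
    ∃ (δ ε : K →+ K) (w : G), (∀ a b c, conjRep ρ δ ε w (a, b, c) = (a, c, b)) ∧
      ∀ g (l : K) a b c, (conjRep ρ δ ε g (a, l * b, l * c)).2 =
        l • (conjRep ρ δ ε g (a, b, c)).2 := by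
  classical
  have h2 : (2 : K) = 0 := CharTwo.two_eq_zero
  have hZafix := za_fixed H hN hfix hK
  have hZa : ∀ g a, (ρ g (a, 0, 0)).2 = 0 := fun g a => by rw [hZafix]; rfl
  obtain ⟨δ₀, hZ₀, hsemi⟩ := exists_shear_semilinear H hN hZa
  have hZ : ∀ (δ ε : K →+ K) g a, conjRep ρ δ ε g (a, 0, 0) = (a, 0, 0) := fun δ ε g a => by
    rw [conjRep_apply, show shear δ ε ((a : K), (0 : K), (0 : K)) = (a, 0, 0) by simp [shear_apply],
      hZafix]
    simp [shear_apply]
  have hZ' : ∀ (δ ε : K →+ K) g a, (conjRep ρ δ ε g (a, 0, 0)).2 = 0 := fun δ ε g a => by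
    rw [hZ]; rfl
  have hax : ∀ (δ ε : K →+ K) g l, axisAct (conjRep ρ δ ε) g l = l := fun δ ε g l => by
    show (conjRep ρ δ ε g (l, 0, 0)).1 = l
    rw [hZ]
  -- linearity
  obtain ⟨δ, hlin⟩ : ∃ δ : K →+ K, ∀ g (l : K) v,
      planeAct (conjRep ρ δ 0) (hZ' δ 0) g (l • v) =
        l • planeAct (conjRep ρ δ 0) (hZ' δ 0) g v := by
    by_cases hK2 : Fintype.card K = 2
    · refine ⟨δ₀, fun g l v => ?_⟩
      have : l = 0 ∨ l = 1 := by
        by_contra hne
        push Not at hne
        have hc : ({0, 1, l} : Finset K).card = 3 := by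
          rw [Finset.card_insert_of_notMem, Finset.card_insert_of_notMem, Finset.card_singleton] <;>
            simp [Ne.symm hne.1, Ne.symm hne.2]
        have := hc ▸ Finset.card_le_univ ({0, 1, l} : Finset K)
        omega
      rcases this with rfl | rfl
      · rw [zero_smul, zero_smul, map_zero]
      · rw [one_smul, one_smul]
    obtain ⟨n, hp, hn⟩ := FiniteField.card K 2
    have hn2 : (n : ℕ) = 2 := by
      rcases Nat.lt_or_ge (n : ℕ) 2 with h | h
      · exfalso
        refine hK2 ?_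
        rw [hn, show (n : ℕ) = 1 by have := n.pos; omega, pow_one]
      · by_contra hne
        have : 2 ^ 3 ≤ 2 ^ (n : ℕ) := Nat.pow_le_pow_right (by norm_num) (by omega)
        omega
    have hK4 : Fintype.card K = 4 := by rw [hn, hn2]; norm_num
    have hcube : ∀ c : K, c ≠ 0 → c ^ 3 = 1 := fun c hc => by
      simpa [hK4] using FiniteField.pow_card_sub_one_eq_one c hc
    obtain ⟨θ, hθ0, hθ1⟩ : ∃ θ : K, θ ≠ 0 ∧ θ ≠ 1 := by
      obtain ⟨θ, hθ⟩ := Finset.exists_mem_notMem_of_card_lt_card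
        (s := ({0, 1} : Finset K)) (t := Finset.univ) (by
          rw [Finset.card_univ, hK4]
          exact lt_of_le_of_lt Finset.card_le_two (by norm_num))
      exact ⟨θ, fun h => hθ.2 (by simp [h]), fun h => hθ.2 (by simp [h])⟩
    have hθ2 : θ ^ 2 + θ + 1 = 0 := by
      refine (mul_eq_zero.1 (show (θ - 1) * (θ ^ 2 + θ + 1) = 0 by
        linear_combination hcube θ hθ0)).resolve_left (sub_ne_zero.2 hθ1)
    have H₀ := H.conjRep δ₀ 0
    set V := planeAct (conjRep ρ δ₀ 0) hZ₀ with hV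
    let T₀ : AddMonoid.End (K × K) :=
      AddMonoidHom.mk' (fun v => θ • v) (fun v w => smul_add θ v w)
    let up : K →+ AddMonoid.End (K × K) := AddMonoidHom.mk' (fun β => AddMonoidHom.mk'
      (fun v => (β * v.2 ^ 2, (0 : K))) fun v w => by simp [add_sq, h2, mul_add])
      fun β β' => by
        refine DFunLike.ext _ _ fun v => ?_
        show ((β + β') * v.2 ^ 2, (0 : K)) = (β * v.2 ^ 2, (0 : K)) + (β' * v.2 ^ 2, (0 : K))
        simp [add_mul]
    let act : G → AddMonoid.End (K × K) → AddMonoid.End (K × K) := fun g Ψ => V g * Ψ * V g⁻¹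
    obtain ⟨T, hT, hTw⟩ := exists_fixed_of_ti σ H.σ_inj H.add _ H.σ_mem_normalizer
      (fun g a h => H.conj_eq_σ h) (fun g hg a b h => H.eq_zero_of_conj hg h) act
      (fun g h Ψ => by simp only [act, map_mul, mul_inv_rev]; noncomm_ring)
      (fun Ψ => by simp [act]) (fun g Ψ Ψ' => by simp [act, mul_add, add_mul]) T₀
      (fun h hh => by
        refine DFunLike.ext _ _ fun v => ?_
        show V h (θ • V h⁻¹ v) = θ • v
        rw [hV, hsemi h hh, hax, ← hV]
        congr 1
        show (V h * V h⁻¹) v = v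
        rw [← map_mul, mul_inv_cancel, map_one]; rfl)
      up.range (fun Ψ => by
        let m : K →+ K := AddMonoidHom.mk' (fun x => (Ψ (x, 0)).2) fun x y => by
          rw [← Prod.snd_add, ← map_add]; simp
        set F : K → K := fun c => ∑ s : K, s * m (s * c) with hF
        refine ⟨F 1, DFunLike.ext _ _ fun v => ?_⟩
        obtain ⟨b, c⟩ := v
        show (F 1 * c ^ 2, (0 : K)) = (∑ s, act (σ s) Ψ) (b, c)
        rw [show (∑ s, act (σ s) Ψ) (b, c) = ∑ s, act (σ s) Ψ (b, c) from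
          map_sum (AddMonoidHom.eval (M := K × K) (N := K × K) (b, c)) _ _]
        have hsum0 : ∀ f : K →+ K, ∑ s, f s = 0 := fun f => by
          have : (∑ s : K, s) = 0 := by
            refine sum_field_eq_zero hn (fun w => by simp [nsmul_eq_mul, h2]) (k := 1)
              (deg_addHom (AddMonoidHom.id K)) (by omega)
          rw [← map_sum, this, map_zero]
        have hconst : ∀ x : K, ∑ _s : K, x = 0 := fun x => by
          rw [Finset.sum_const, Finset.card_univ, hK4]
          simp [nsmul_eq_mul, show (4 : K) = 0 by linear_combination 2 * h2]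
        have hterm : ∀ s, act (σ s) Ψ (b, c) = ((Ψ (b, c)).1 + (Ψ (s * c, 0)).1 +
            s * (Ψ (b, c)).2 + s * m (s * c), (Ψ (b, c)).2 + m (s * c)) := by
          intro s
          show V (σ s) (Ψ (V (σ s)⁻¹ (b, c))) = _
          rw [← H.σ_neg, hV, CharTwo.neg_eq, planeAct_σ H₀ hZ₀ s b c,
            show ((b + s * c, c) : K × K) = (b, c) + (s * c, 0) by simp, map_add,
            show Ψ (b, c) + Ψ (s * c, 0) = ((Ψ (b, c)).1 + (Ψ (s * c, 0)).1,
              (Ψ (b, c)).2 + (Ψ (s * c, 0)).2) from rfl, planeAct_σ H₀ hZ₀]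
          refine Prod.ext ?_ rfl
          simp [m]; ring
        refine Prod.ext ?_ ?_
        · rw [Prod.fst_sum, Finset.sum_congr rfl fun s _ => congrArg Prod.fst (hterm s)]
          simp only [Finset.sum_add_distrib]
          rw [hconst,
            show (∑ s : K, (Ψ (s * c, 0)).1) = 0 from hsum0 (AddMonoidHom.mk'
              (fun s => (Ψ (s * c, 0)).1) fun s s' => by
                rw [← Prod.fst_add, ← map_add]; simp [add_mul]),
            show (∑ s : K, s * (Ψ (b, c)).2) = 0 from hsum0 (AddMonoidHom.mulRight _),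
            zero_add, zero_add, zero_add]
          show F 1 * c ^ 2 = F c
          rcases eq_or_ne c 0 with rfl | hc
          · simp [hF, m, show ((0 : K), (0 : K)) = (0 : K × K) from rfl]
          · have e : F c = c⁻¹ * F 1 := by
              simp only [hF, mul_one, Finset.mul_sum]
              refine Fintype.sum_equiv (Equiv.mulRight₀ c hc) _ _ fun s => ?_
              simp only [Equiv.mulRight₀_apply]
              field_simp
            rw [e, mul_comm]
            congr 1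
            refine (inv_eq_of_mul_eq_one_left ?_).symm
            rw [← pow_succ, hcube c hc]
        · rw [Prod.snd_sum, Finset.sum_congr rfl fun s _ => congrArg Prod.snd (hterm s)]
          simp only [Finset.sum_add_distrib]
          rw [hconst, show (∑ s : K, m (s * c)) = 0 from hsum0 (m.comp (AddMonoidHom.mulRight c)),
            add_zero])
    obtain ⟨β, hβ⟩ := hTw
    have hT' : ∀ v, T v = θ • v + (β * v.2 ^ 2, 0) := fun v => by
      have := DFunLike.congr_fun hβ v
      rw [show T = (T - T₀) + T₀ by abel]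
      show (T - T₀) v + θ • v = _
      rw [← this, add_comm]
      rfl
    let δ₁ : K →+ K := AddMonoidHom.mk' (fun c => β * c ^ 2) fun c c' => by
      simp [add_sq, h2, mul_add]
    refine ⟨δ₀ + δ₁, fun g l v => ?_⟩
    set W := planeAct (conjRep ρ (δ₀ + δ₁) 0) (hZ' (δ₀ + δ₁) 0)
    have hW : ∀ g (b c : K), W g (b, c) = ((V g (b + δ₁ c, c)).1 + δ₁ (V g (b + δ₁ c, c)).2,
        (V g (b + δ₁ c, c)).2) := fun g b c => by
      show (conjRep ρ (δ₀ + δ₁) 0 g (0, b, c)).2 = _
      conv_lhs => rw [show (0 : K →+ K) = 0 + 0 by simp, ← conjRep_add, conjRep_apply, shear_apply,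
        shear_apply]
      simp [hV, planeAct_apply]
    have hTV : ∀ v, V g (T v) = T (V g v) := fun v => by
      have := DFunLike.congr_fun (hT g) (V g v)
      show V g (T v) = _
      rw [← this]
      show _ = V g (T (V g⁻¹ (V g v)))
      congr 2
      show v = (V g⁻¹ * V g) v
      rw [← map_mul, inv_mul_cancel, map_one]; rfl
    have hWθ : ∀ v, W g (θ • v) = θ • W g v := by
      rintro ⟨b, c⟩
      rw [Prod.smul_mk, hW, hW]
      have e : ((θ • b + δ₁ (θ • c), θ • c) : K × K) = T (b + δ₁ c, c) := by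
        rw [hT']
        refine Prod.ext ?_ (by simp)
        simp [δ₁]
        linear_combination (β * c ^ 2) * hθ2 - (β * c ^ 2) * (θ + 1) * h2
      rw [e, hTV, hT']
      obtain ⟨x, y⟩ := V g (b + δ₁ c, c)
      simp [δ₁]
      linear_combination (β * y ^ 2) * hθ2 - (θ * β * y ^ 2) * h2
    have : l = 0 ∨ l = 1 ∨ l = θ ∨ l = θ + 1 := by
      by_contra hne
      push Not at hne
      have hne' : θ + 1 ≠ 0 := fun h => hθ1 (by linear_combination h - h2)
      have hne'' : θ + 1 ≠ θ := fun h => one_ne_zero (α := K) (by linear_combination h)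
      have hne''' : θ + 1 ≠ 1 := fun h => hθ0 (by linear_combination h)
      have hc : ({0, 1, θ, θ + 1, l} : Finset K).card = 5 := by
        rw [Finset.card_insert_of_notMem, Finset.card_insert_of_notMem, Finset.card_insert_of_notMem,
          Finset.card_insert_of_notMem, Finset.card_singleton] <;>
          simp [Ne.symm hne.1, Ne.symm hne.2.1, Ne.symm hne.2.2.1, Ne.symm hne.2.2.2, Ne.symm hθ0,
            Ne.symm hθ1, Ne.symm hne', Ne.symm hne'', Ne.symm hne''']
      have := hc ▸ Finset.card_le_univ ({0, 1, θ, θ + 1, l} : Finset K)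
      omega
    rcases this with rfl | rfl | rfl | rfl
    · rw [zero_smul, zero_smul, map_zero]
    · rw [one_smul, one_smul]
    · exact hWθ v
    · rw [add_smul, one_smul, map_add, hWθ, add_smul, one_smul]
  have H₁ := H.conjRep δ 0
  set V := planeAct (conjRep ρ δ 0) (hZ' δ 0) with hV
  have hWiff : ∀ g a b, (conjRep ρ δ 0 g (a, b, 0)).2.2 = (V g (b, 0)).2 := fun g a b => by
    rw [show ((a, b, (0 : K)) : K × K × K) = (a, 0, 0) + (0, b, 0) by simp, map_add, Prod.snd_add,
      hZ' δ 0, zero_add]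
    rfl
  have hmem : ∀ g, (∀ b, (V g (b, 0)).2 = 0) → g ∈ Subgroup.normalizer (Set.range σ) := fun g h =>
    H₁.mem_normalizer_of_invariant (fun a b => by rw [hWiff, h]) fun a => by rw [h2, zero_mul]
  have hu := planeAct_σ H₁ (hZ' δ 0)
  obtain ⟨g₁, hg₁⟩ : ∃ g₁, ∀ b, b ≠ 0 → (V g₁ (b, 0)).2 ≠ 0 := by
    by_contra hne
    push Not at hne
    refine hg₀ (hmem g₀ fun b => Plane.axis_invariant V σ hu (fun g s h => ?_) hne g₀ b)
    obtain ⟨b', hb'⟩ := H₁.conj_eq_σ (hmem _ h)
    exact ⟨b', by rw [hb']⟩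
  obtain ⟨m, -, hm⟩ := Plane.exists_lower V σ hu (fun g s l v => hlin _ l v) hg₁ (1 : K)
  obtain ⟨w, hw⟩ : ∃ w, w = σ 1 * m * σ 1 := ⟨_, rfl⟩
  have hwV : ∀ b c, V w (b, c) = (c, b) := fun b c => by
    simp only [hw, map_mul]
    show V (σ 1) (V m (V (σ 1) (b, c))) = _
    rw [hV, hu, ← hV, hm, hV, hu]
    refine Prod.ext ?_ ?_
    · simp only [one_mul]; linear_combination (b + c) * h2
    · simp only [one_mul]; linear_combination c * h2
  let lam : K × K →+ K := AddMonoidHom.mk' (fun v => (conjRep ρ δ 0 w (0, v)).1) fun v v' => by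
    rw [← Prod.fst_add, ← map_add]; simp
  have hwval : ∀ a b c, conjRep ρ δ 0 w (a, b, c) = (a + lam (b, c), c, b) := fun a b c => by
    rw [show ((a, b, c) : K × K × K) = (a, 0, 0) + (0, b, c) by simp, map_add, hZ]
    have e : (conjRep ρ δ 0 w (0, b, c)).2 = (c, b) := hwV b c
    refine Prod.ext rfl ?_
    rw [Prod.snd_add, e]
    simp
  -- `w` is an involution
  have hw2 : w * w = 1 := by
    have hmemN : w * w ∈ Subgroup.normalizer (Set.range σ) := hmem _ fun b => by
      rw [map_mul]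
      show (V w (V w (b, 0))).2 = 0
      rw [hwV, hwV]
    have hsq : (w * w) ^ 2 ^ 1 = 1 := by
      refine H₁.inj (DFunLike.ext _ _ fun v => ?_)
      obtain ⟨a, b, c⟩ := v
      rw [pow_one, pow_two, map_one, apply_mul, apply_mul, apply_mul, hwval, hwval, hwval, hwval]
      show _ = (a, b, c)
      refine Prod.ext ?_ rfl
      linear_combination (lam (b, c) + lam (c, b)) * h2
    obtain ⟨s, hs⟩ := H₁.eq_σ_of_pow hmemN hsq
    have h3 := congrArg (fun g => (conjRep ρ δ 0 g ((0 : K), (0 : K), (1 : K))).2) hs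
    simp only [apply_mul, hwval, H₁.form, upper] at h3
    have : s = 0 := by simpa using (congrArg Prod.fst h3).symm
    rw [hs, this, H₁.σ_zero]
  let ε : K →+ K := lam.comp (AddMonoidHom.inl K K)
  refine ⟨δ, ε, w, fun a b c => ?_, fun g l a b c => ?_⟩
  · have hsym : lam (0, c) = ε c := by
      have h3 := congrArg (fun g => (conjRep ρ δ 0 g ((0 : K), c, (0 : K))).1) hw2
      simp only [apply_mul, hwval, map_one] at h3
      show lam (0, c) = lam (c, 0)
      have h4 : (0 : K) + lam (c, 0) + lam (0, c) = 0 := h3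
      linear_combination h4 - lam (c, 0) * h2
    rw [show δ = δ + 0 by simp, show ε = 0 + ε by simp, ← conjRep_add, conjRep_apply, shear_apply,
      hwval, shear_apply]
    have e : lam (b + (0 : K →+ K) c, c) = ε b + ε c := by
      rw [show ((b + (0 : K →+ K) c, c) : K × K) = (b, 0) + (0, c) by simp, map_add, hsym]
      rfl
    rw [e]
    refine Prod.ext ?_ (Prod.ext ?_ ?_)
    · simp only [zero_add]
      have : ε (b + (0 : K →+ K) c) = ε b := by simp
      rw [this]
      linear_combination (ε b + ε c) * h2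
    · simp
    · simp
  · have e : ∀ (a b c : K), (conjRep ρ δ ε g (a, b, c)).2 = (V g (b, c)) := fun a b c => by
      rw [show δ = δ + 0 by simp, show ε = 0 + ε by simp, ← conjRep_add, conjRep_apply, shear_apply]
      show ((conjRep ρ δ 0 g (a + ε c, b + 0, c)).2.1 + 0, (conjRep ρ δ 0 g (a + ε c, b + 0, c)).2.2) = _
      rw [add_zero, add_zero]
      rw [show ((a + ε c, b, c) : K × K × K) = (a + ε c, 0, 0) + (0, b, c) by simp, map_add,
        Prod.snd_add, hZ' δ 0, zero_add]
      rfl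
    rw [e, e, ← hlin]
    rfl

/-- The group is generated by the root group and `(a, b, c) ↦ (a, c, b)`. -/
theorem mem_closure_std (hN : Shapes ρ σ) (hZ : ∀ g a, ρ g (a, 0, 0) = (a, 0, 0))
    (hlin : ∀ g (l : K) a b c, (ρ g (a, l * b, l * c)).2 = l • (ρ g (a, b, c)).2)
    (hK : Fintype.card K ≤ 4) {w : G} (hw : ∀ a b c, ρ w (a, b, c) = (a, c, b)) (g : G) :
    g ∈ Subgroup.closure (insert w (Set.range σ)) := by
  classical
  have h2 : (2 : K) = 0 := CharTwo.two_eq_zero
  have hu3 : ∀ x : K, x ≠ 0 → x ^ 3 = 1 := fun x hx => by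
    obtain ⟨n, hp, hn⟩ := FiniteField.card K 2
    have h7 : (n : ℕ) = 1 ∨ (n : ℕ) = 2 := by
      have h8 := n.pos
      by_contra hne
      have : 2 ^ 3 ≤ 2 ^ (n : ℕ) := Nat.pow_le_pow_right (by norm_num) (by omega)
      omega
    have h9 := FiniteField.pow_card_sub_one_eq_one x hx
    rcases h7 with h7 | h7 <;> rw [hn, h7] at h9 <;> norm_num at h9
    · rw [h9, one_pow]
    · exact h9
  set C := Subgroup.closure (insert w (Set.range σ))
  have hwC : w ∈ C := Subgroup.subset_closure (Set.mem_insert _ _)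
  have hσC : ∀ s, σ s ∈ C := fun s => Subgroup.subset_closure (Set.mem_insert_of_mem _ ⟨s, rfl⟩)
  have hNC : ∀ h ∈ Subgroup.normalizer (Set.range σ), h ∈ C := by
    intro h hh
    obtain ⟨φ₁, ω, φ, o₁, o₂, h1, h2', h3, h4, h5, hs⟩ := hN h hh
    have hφ : ∀ a, φ a = a := fun a => by
      have := congrArg Prod.fst ((hs a 0 0).symm.trans (hZ h a))
      simpa [h2'] using this
    -- a diagonal element
    set t := φ₁ * ω with ht
    have ht0 : t ≠ 0 := mul_ne_zero h4 h5
    set d := σ t * (w * σ t⁻¹ * w) * σ t * (σ 1 * (w * σ 1 * w) * σ 1)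
    have hd : ∀ a b c, (ρ d (a, b, c)).2 = (t * b, t⁻¹ * c) := fun a b c => by
      simp only [d, apply_mul, H.form, hw, upper]
      refine Prod.ext ?_ ?_
      · field_simp
        ring_nf
        linear_combination (2 * b + b * t + 3 * c + 3 * c * t) * h2
      · field_simp
        ring_nf
        linear_combination (c + 2 * c * t + b + b * t) * h2
    have hdN : d ∈ Subgroup.normalizer (Set.range σ) :=
      H.mem_normalizer_of_invariant (fun a b => by rw [hd]; simp) fun a => by rw [h2, zero_mul]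
    have hdC : d ∈ C := mul_mem (mul_mem (mul_mem (hσC _) (mul_mem (mul_mem hwC (hσC _)) hwC)) (hσC _))
      (mul_mem (mul_mem (hσC _) (mul_mem (mul_mem hwC (hσC _)) hwC)) (hσC _))
    have hω : ω * t = 1 := by
      rw [ht]
      linear_combination (φ₁ ^ 2 * ω + 1) * h1 * φ₁ ^ 0 - ω ^ 2 * φ₁ * hu3 φ₁ h4
    have ho : ∀ c, o₂ c = c * o₂ 1 := fun c => by
      have e1 := hlin h c 0 0 1
      rw [hs, hs] at e1
      simpa using congrArg Prod.fst e1
    set k := d * σ (t⁻¹ * o₂ 1) with hk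
    have hkv : ∀ a b c, (ρ k (a, b, c)).2 = (t * b + o₂ 1 * c, t⁻¹ * c) := fun a b c => by
      rw [hk, apply_mul, H.form, upper, hd]
      refine Prod.ext ?_ rfl
      simp only []
      field_simp
    have hkN : k ∈ Subgroup.normalizer (Set.range σ) := mul_mem hdN (H.σ_mem_normalizer _)
    obtain ⟨u, hu⟩ : ∃ u, u = k⁻¹ * h := ⟨_, rfl⟩
    have huv : ∀ v, (ρ u v).2 = v.2 := by
      intro v
      obtain ⟨a, b, c⟩ := v
      have e1 : (ρ k (ρ u (a, b, c))).2 = (ρ h (a, b, c)).2 := by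
        rw [hu, ← apply_mul, mul_inv_cancel_left]
      obtain ⟨⟨x, y, z⟩, hxyz⟩ : ∃ q, ρ u (a, b, c) = q := ⟨_, rfl⟩
      rw [hxyz] at e1 ⊢
      rw [hkv, hs, hφ, hφ, hφ] at e1
      simp only [Prod.mk.injEq] at e1
      obtain ⟨e2, e3⟩ := e1
      have hz : z = c := mul_left_cancel₀ (inv_ne_zero ht0) (by
        rw [e3, eq_inv_of_mul_eq_one_left hω])
      subst hz
      rw [ho z] at e2
      exact Prod.ext (mul_left_cancel₀ ht0 (by linear_combination e2)) rfl
    have hu2 : u ^ 2 ^ 1 = 1 := by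
      refine H.inj (DFunLike.ext _ _ fun v => ?_)
      rw [pow_one, pow_two, map_one, apply_mul]
      show ρ u (ρ u v) = v
      have e1 : ∀ v, ρ u v = v + (((ρ u v).1 - v.1, 0, 0)) := fun v => by
        refine Prod.ext (by simp) ?_
        simp [huv]
      rw [e1 v, map_add, hZ, e1 v]
      refine Prod.ext ?_ ?_
      · simp only [Prod.fst_add, add_sub_cancel]
        linear_combination ((ρ u v).1 - v.1) * h2
      · show v.2 + (0 : K × K) + (0 : K × K) = v.2
        rw [add_zero, add_zero]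
    obtain ⟨s, hs'⟩ := H.eq_σ_of_pow (hu ▸ mul_mem (inv_mem hkN) hh) hu2
    have hs0 : s = 0 := by
      have h8 := congrArg Prod.fst (huv ((0 : K), (0 : K), (1 : K)))
      rw [hs', H.form] at h8
      simpa [upper] using h8
    have : u = 1 := by rw [hs', hs0, H.σ_zero]
    rw [show h = k from (inv_mul_eq_one.1 (hu ▸ this)).symm]
    exact mul_mem hdC (hσC _)
  by_cases hg : g ∈ Subgroup.normalizer (Set.range σ)
  · exact hNC g hg
  obtain ⟨x, y, hxy⟩ : ∃ x y, (ρ g ((0 : K), (1 : K), (0 : K))).2 = (x, y) := ⟨_, _, rfl⟩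
  have hgv : ∀ a b, (ρ g (a, b, 0)).2 = (b * x, b * y) := fun a b => by
    have e1 := hlin g b 0 1 0
    rw [hxy, mul_one, mul_zero] at e1
    rw [show ((a, b, (0 : K)) : K × K × K) = (a, 0, 0) + (0, b, 0) by simp, map_add, Prod.snd_add,
      hZ, e1]
    simp
  have hy : y ≠ 0 := fun hy => hg (H.mem_normalizer_of_invariant (fun a b => by
    rw [hgv, hy, mul_zero]) fun a => by rw [h2, zero_mul])
  have hg' : w * σ (x / y) * g ∈ Subgroup.normalizer (Set.range σ) := by
    refine H.mem_normalizer_of_invariant (fun a b => ?_) fun a => by rw [h2, zero_mul]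
    have e1 := hgv a b
    obtain ⟨⟨X, Y, Z⟩, hX⟩ : ∃ q, ρ g (a, b, 0) = q := ⟨_, rfl⟩
    rw [hX] at e1
    rw [apply_mul, apply_mul, hX, H.form, upper, hw]
    simp only [Prod.mk.injEq] at e1
    obtain ⟨rfl, rfl⟩ := e1
    field_simp
    linear_combination (b * x) * h2
  rw [show g = (w * σ (x / y))⁻¹ * (w * σ (x / y) * g) by group]
  exact mul_mem (inv_mem (mul_mem hwC (hσC _))) (hNC _ hg')

end

end Cfsg.Agent.Fusion.SpFour.Module
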