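import Cfsg.Agent.Lib.Fusion.SpFour.OddA
import Cfsg.Agent.Lib.Fusion.SpFour.MMod
import Cfsg.Agent.Lib.Transfer.Alperin
import Cfsg.Agent.Lib.Coprime.Generation
import Cfsg.Agent.Lib.ZStar.Main

/-!
The field of nine elements: a radical `c = κ s` makes the abelian radical non-radical, by the
Z*-theorem.
-/

set_option autoImplicit false
set_option linter.unusedSectionVars false

namespace Cfsg.Agent.Fusion.SpFour

open Cfsg Cfsg.FusionSystem

universe u

namespace Module

variable {G : Type u} [Group G] [Finite G] {K : Type*} [Field K] [Fintype K] {p : ℕ} [Fact p.Prime]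
  [CharP K p] {ρ : G →* AddMonoid.End (K × K × K)} {σ : K → G}

/-- A unipotent shape has `p`-power order. -/
theorem pow_eq_one_of_unipotent (H : Hyp p ρ σ) (hp2 : p ≠ 2) {h : G} {π o₁ o₂ : K → K}
    (hπ : π 0 + o₁ 0 = 0) (ho : o₂ 0 = 0)
    (hs : ∀ a b c, ρ h (a, b, c) = (a + π b + o₁ c, b + o₂ c, c)) : h ^ p ^ 2 = 1 := by
  have hp := (Fact.out : p.Prime)
  refine H.inj ?_
  rw [map_pow, map_one]
  refine DFunLike.ext _ _ fun v => ?_
  show (ρ h ^ p ^ 2) v = v
  set d := ρ h v - v with hd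
  set d' := ρ h d - d with hd'
  obtain ⟨a, b, c⟩ := v
  have hdv : d = (π b + o₁ c, o₂ c, 0) := by
    rw [hd, hs]; simp [add_assoc]
  have hd'v : d' = (π (o₂ c) + o₁ 0, 0, 0) := by
    rw [hd', hdv, hs, ho]; simp [add_assoc]; rfl
  have hfix : ρ h d' = d' := by
    rw [hd'v, hs, ho]; simp [add_assoc, hπ]
  have key : ∀ m : ℕ, (ρ h ^ m) (a, b, c) = (a, b, c) + m • d + m.choose 2 • d' := by
    intro m
    induction m with
    | zero => simp
    | succ m ih =>
      rw [pow_succ']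
      show ρ h ((ρ h ^ m) (a, b, c)) = _
      rw [ih, map_add, map_add, map_nsmul, map_nsmul, hfix,
        show ρ h (a, b, c) = (a, b, c) + d by simp [hd], show ρ h d = d + d' by simp [hd'],
        Nat.choose_succ_succ', Nat.choose_one_right, add_smul, add_smul, one_smul, smul_add]
      abel
  rw [key]
  have hpd : ∀ (m : ℕ) (w : K × K × K), p ∣ m → m • w = 0 := fun m w hm => by
    have hc : (m : K) = 0 := (CharP.cast_eq_zero_iff K p m).2 hm
    refine Prod.ext ?_ (Prod.ext ?_ ?_) <;> simp [nsmul_eq_mul, hc]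
  rw [hpd _ d (dvd_pow_self p two_ne_zero), hpd _ d' (hp.dvd_choose_pow two_ne_zero ?_),
    add_zero, add_zero]
  intro h2'
  nlinarith [hp.two_le]

/-- With a torus element of order eight the Sylow subgroup is normal for nine elements. -/
theorem false_of_nine (H : Hyp p ρ σ) (h9 : Fintype.card K = 9)
    (hN : ∀ h ∈ Subgroup.normalizer (Set.range σ), ∃ φ₁ ω φ π o₁ o₂,
      Shape (ρ h) φ₁ ω φ π o₁ o₂ ∧ φ₁ ^ 2 * ω = 1 ∧ π 0 + o₁ 0 = 0 ∧ o₂ 0 = 0)
    {τ₀ : G} (hτ : τ₀ ∈ Subgroup.normalizer (Set.range σ)) {t : K} (ht : IsPrimitiveRoot t 8)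
    (hτ₀ : ∀ v, (ρ τ₀ v).2.2 = t ^ 2 * v.2.2)
    {g₀ : G} (hg₀ : g₀ ∉ Subgroup.normalizer (Set.range σ)) : False := by
  classical
  set N := Subgroup.normalizer (Set.range σ) with hNdef
  -- the characteristic
  obtain ⟨n, hp, hK⟩ := FiniteField.card K p
  have hp3 : p = 3 ∧ (n : ℕ) = 2 := by
    have e : p ^ (n : ℕ) = 3 ^ 2 := by rw [← hK, h9]; norm_num
    have h3 : p ∣ 3 := hp.dvd_of_dvd_pow (e ▸ dvd_pow_self p n.ne_zero)
    obtain rfl := (Nat.prime_dvd_prime_iff_eq hp Nat.prime_three).1 h3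
    exact ⟨rfl, Nat.pow_right_injective (le_refl 2 |>.trans (by norm_num)) e⟩
  obtain ⟨rfl, -⟩ := hp3
  have h30 : (3 : K) = 0 := by exact_mod_cast CharP.cast_eq_zero K 3
  have h2 : (2 : K) ≠ 0 := fun h => one_ne_zero (α := K) (by linear_combination h30 - h)
  have hu8 : ∀ x : K, x ≠ 0 → x ^ 8 = 1 := fun x hx => by
    simpa [h9] using FiniteField.pow_card_sub_one_eq_one x hx
  -- automorphisms of the field
  have hprime : ∀ y : K, y ^ 3 = y → ∀ φ : K ≃+* K, φ y = y := by
    intro y hy φ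
    have : y * ((y - 1) * (y + 1)) = 0 := by linear_combination hy
    rcases mul_eq_zero.1 this with h | h
    · rw [h, map_zero]
    rcases mul_eq_zero.1 h with h | h
    · rw [sub_eq_zero.1 h, map_one]
    · rw [eq_neg_of_add_eq_zero_left h, map_neg, map_one]
  have hfrob : ∀ a b : K, (a + b) ^ 3 = a ^ 3 + b ^ 3 := fun a b => by
    linear_combination (a ^ 2 * b + a * b ^ 2) * h30
  have hx9 : ∀ x : K, x ^ 9 = x := fun x => by
    simpa [h9] using FiniteField.pow_card x
  have hφ : ∀ φ : K ≃+* K, (∀ x, φ x = x) ∨ ∀ x, φ x = x ^ 3 := by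
    intro φ
    have hgen : ∀ x : K, x ≠ 0 → ∃ i, t ^ i = x := fun x hx =>
      (ht.eq_pow_of_pow_eq_one (hu8 x hx)).imp fun _ h => h.2
    have h1 : (φ t - t) * (φ t - t ^ 3) = 0 := by
      have e1 := hprime (t + t ^ 3) (by
        rw [hfrob, ← pow_mul]; norm_num; rw [hx9, add_comm]) φ
      have e2 := hprime (t ^ 4) (by
        rw [← pow_mul]; norm_num
        calc t ^ 12 = t ^ 4 * t ^ 8 := by ring
          _ = t ^ 4 := by rw [hu8 t (ht.ne_zero (by norm_num)), mul_one]) φ
      rw [map_add, map_pow] at e1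
      rw [map_pow] at e2
      linear_combination φ t * e1 - e2
    rcases mul_eq_zero.1 h1 with h | h
    · left
      intro x
      rcases eq_or_ne x 0 with rfl | hx
      · exact map_zero φ
      obtain ⟨i, rfl⟩ := hgen x hx
      rw [map_pow, sub_eq_zero.1 h]
    · right
      intro x
      rcases eq_or_ne x 0 with rfl | hx
      · simp
      obtain ⟨i, rfl⟩ := hgen x hx
      rw [map_pow, sub_eq_zero.1 h, ← pow_mul, ← pow_mul, mul_comm]
  -- the action on the Sylow subgroup
  have hconj : ∀ h ∈ N, ∃ φ₁ ω φ π o₁ o₂, Shape (ρ h) φ₁ ω φ π o₁ o₂ ∧ φ₁ ^ 2 * ω = 1 ∧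
      π 0 + o₁ 0 = 0 ∧ o₂ 0 = 0 ∧ ∀ s, h * σ s * h⁻¹ = σ (φ₁ * φ s) := by
    intro h hh
    obtain ⟨φ₁, ω, φ, π, o₁, o₂, hs, hφω, h0, h0'⟩ := hN h hh
    refine ⟨φ₁, ω, φ, π, o₁, o₂, hs, hφω, h0, h0', fun s => ?_⟩
    obtain ⟨u, hu⟩ := (Subgroup.mem_set_normalizer_iff.1 hh (σ s)).1 ⟨s, rfl⟩
    have e := congrArg (fun g => (ρ g (ρ h (0, 0, 1))).2.1) hu
    simp only [apply_conj, cancel, H.form] at e
    rw [upper, hs.2.2] at e
    rw [hs.2.2] at e
    simp [upper] at e
    have : u = φ₁ * φ s := mul_right_cancel₀ hs.2.1 (by linear_combination e)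
    rw [← hu, this]
  have hpow : ∀ (h : G) (f : K → K), (∀ s, h * σ s * h⁻¹ = σ (f s)) →
      ∀ (m : ℕ) s, h ^ m * σ s * (h ^ m)⁻¹ = σ (f^[m] s) := by
    intro h f hf m
    induction m with
    | zero => intro s; simp
    | succ m ih =>
      intro s
      rw [Function.iterate_succ_apply', ← hf, ← ih, pow_succ']
      group
  have hker : ∀ h ∈ N, (∀ s, h * σ s * h⁻¹ = σ s) → ∃ b, h = σ b := by
    intro h hh hc
    obtain ⟨φ₁, ω, φ, π, o₁, o₂, hs, hφω, h0, h0', hf⟩ := hconj h hh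
    have hid : ∀ s, φ₁ * φ s = s := fun s => H.σ_inj ((hf s).symm.trans (hc s))
    have h1 : φ₁ = 1 := by simpa using hid 1
    have hφid : ∀ s, φ s = s := fun s => by simpa [h1] using hid s
    have hω : ω = 1 := by simpa [h1] using hφω
    refine H.eq_σ_of_pow hh (k := 2) (pow_eq_one_of_unipotent H (by norm_num) h0 h0' fun a b c => ?_)
    rw [hs.2.2, h1, hω, hφid, hφid, hφid]
    simp
  have hσ9 : ∀ b, σ b ^ 9 = 1 := fun b => by
    have key : ∀ m : ℕ, σ b ^ m = σ (m * b) := by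
      intro m
      induction m with
      | zero => simp [H.σ_zero]
      | succ m ih => rw [pow_succ, ih, ← H.add]; push_cast; ring_nf
    rw [key, show ((9 : ℕ) : K) = 0 from (CharP.cast_eq_zero_iff K 3 9).2 (by norm_num), zero_mul,
      H.σ_zero]
  -- the torus element of order eight
  obtain ⟨μ, ω₀, φ₀, π₀, q₁, q₂, hs₀, hμω, -, hq₀, hf₀⟩ := hconj τ₀ hτ
  have hωt : ω₀ = t ^ 2 ∧ ∀ x, φ₀ x = x := by
    have e : ∀ c, ω₀ * φ₀ c = t ^ 2 * c := fun c => by
      have := hτ₀ (0, 0, c)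
      rwa [hs₀.2.2] at this
    have e1 : ω₀ = t ^ 2 := by simpa using e 1
    refine ⟨e1, fun x => mul_left_cancel₀ hs₀.2.1 (by rw [e, e1])⟩
  have hμ8 : IsPrimitiveRoot μ 8 := by
    have h0 : μ ≠ 0 := hs₀.1
    have h4 : μ ^ 4 ≠ 1 := fun h => by
      refine ht.pow_ne_one_of_pos_of_lt (l := 4) (by norm_num) (by norm_num) ?_
      rw [hωt.1] at hμω
      linear_combination (μ ^ 2 * t ^ 2 + 1) * hμω - t ^ 4 * h
    refine (IsPrimitiveRoot.iff_def μ 8).2 ⟨hu8 μ h0, fun l hl => ?_⟩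
    have h1 : orderOf μ ∣ 2 ^ 3 := orderOf_dvd_of_pow_eq_one (hu8 μ h0)
    obtain ⟨i, hi, hio⟩ := (Nat.dvd_prime_pow Nat.prime_two).1 h1
    have h5 : orderOf μ = 8 := by
      rcases Nat.lt_or_ge i 3 with h | h
      · exfalso
        refine h4 (orderOf_dvd_iff_pow_eq_one.1 ?_)
        rw [hio]
        exact Nat.pow_dvd_pow 2 (show i ≤ 2 by omega)
      · rw [hio, show i = 3 by omega]; norm_num
    exact h5 ▸ orderOf_dvd_of_pow_eq_one hl
  have hiter : ∀ (c : K) (m : ℕ) s, (fun s => c * s)^[m] s = c ^ m * s := by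
    intro c m
    induction m with
    | zero => simp
    | succ m ih => intro s; rw [Function.iterate_succ_apply', ih, pow_succ', mul_assoc]
  have hf₀' : ∀ s, τ₀ * σ s * τ₀⁻¹ = σ (μ * s) := fun s => by rw [hf₀, hωt.2]
  set τ := τ₀ ^ 9 with hτdef
  have hτN : τ ∈ N := pow_mem hτ _
  have hfτ : ∀ (m : ℕ) s, τ ^ m * σ s * (τ ^ m)⁻¹ = σ (μ ^ m * s) := by
    intro m s
    rw [hτdef, ← pow_mul, hpow τ₀ _ hf₀', hiter, pow_mul, hx9]
  have hτ8 : τ ^ 8 = 1 := by
    obtain ⟨b, hb⟩ := hker (τ₀ ^ 8) (pow_mem hτ _) fun s => by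
      rw [hpow τ₀ _ hf₀', hiter, hμ8.pow_eq_one, one_mul]
    rw [hτdef, ← pow_mul, show 9 * 8 = 8 * 9 by norm_num, pow_mul, hb, hσ9]
  set i := τ ^ 4 with hidef
  have hμ4 : μ ^ 4 = -1 := by
    have h1 : (μ ^ 4 - 1) * (μ ^ 4 + 1) = 0 := by linear_combination hμ8.pow_eq_one
    exact eq_neg_of_add_eq_zero_left ((mul_eq_zero.1 h1).resolve_left
      (sub_ne_zero.2 (hμ8.pow_ne_one_of_pos_of_lt (by norm_num) (by norm_num))))
  have hiN : i ∈ N := pow_mem hτN _
  have hfi : ∀ s, i * σ s * i⁻¹ = σ (-s) := fun s => by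
    rw [hidef, hfτ, hμ4, neg_one_mul]
  have hi1 : i ≠ 1 := fun h => by
    have h1 := hfi 1
    rw [h] at h1
    have := H.σ_inj (by simpa using h1 : σ (1 : K) = σ (-1))
    exact h2 (by linear_combination this)
  have hi2 : i * i = 1 := by rw [hidef, ← pow_add]; exact hτ8
  -- shapes
  obtain ⟨μ', ω', φ', π', r₁, r₂, hs', hφω', h0', hr₂, hf'⟩ := hconj τ hτN
  have hμ' : μ' = μ ∧ ∀ x, φ' x = x := by
    have e : ∀ s, μ' * φ' s = μ * s := fun s => H.σ_inj (by
      rw [← hf', show μ * s = μ ^ 1 * s by rw [pow_one], ← hfτ, pow_one])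
    have e1 : μ' = μ := by simpa using e 1
    exact ⟨e1, fun x => mul_left_cancel₀ hs'.1 (by rw [e, e1])⟩
  obtain ⟨rfl, hφ'⟩ := hμ'
  have hfixτ : ∀ v, ρ τ v = v ↔ v.2 = 0 := by
    intro v
    obtain ⟨a, b, c⟩ := v
    rw [hs'.2.2, hφ', hφ', hφ', hφω']
    constructor
    · intro h
      simp only [Prod.mk.injEq] at h
      have hne1 : ω' ≠ 1 := fun hω => hμ8.pow_ne_one_of_pos_of_lt (l := 2) (by norm_num)
        (by norm_num) (by rw [hω, mul_one] at hφω'; exact hφω')
      have hc : c = 0 := (mul_eq_zero.1 (show (ω' - 1) * c = 0 by linear_combination h.2.2)).resolve_left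
        (sub_ne_zero.2 hne1)
      subst hc
      have hne2 : μ' * ω' ≠ 1 := fun hμω => hμ8.pow_ne_one_of_pos_of_lt (l := 1) (by norm_num)
        (by norm_num) (by linear_combination hφω' - μ' * hμω)
      have hb : b = 0 := (mul_eq_zero.1 (show (μ' * ω' - 1) * b = 0 by
        linear_combination h.2.1 - hr₂)).resolve_left (sub_ne_zero.2 hne2)
      subst hb
      rfl
    · intro h
      simp only [Prod.mk_eq_zero] at h
      obtain ⟨rfl, rfl⟩ := h
      simp [hr₂, add_assoc, h0']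
  obtain ⟨e₁, ωi, φi, πi, i₁, i₂, hsi, hφωi, h0i, hi₂, hfi'⟩ := hconj i hiN
  have hishape : ∀ a b c, ρ i (a, b, c) = (a + πi b + i₁ c, -b + i₂ c, c) := by
    have e : ∀ s, e₁ * φi s = -s := fun s => H.σ_inj (by rw [← hfi', hfi])
    have e1 : e₁ = -1 := by simpa using e 1
    have e2 : ωi = 1 := by simpa [e1] using hφωi
    intro a b c
    have e3 : ∀ s, φi s = s := fun s => by
      have := e s
      rw [e1] at this
      linear_combination -this
    rw [hsi.2.2, e1, e2, e3, e3, e3]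
    simp
  have hnormN : ∀ g (k : ℕ), g * τ * g⁻¹ = τ ^ k → g ∈ N := by
    intro g k hk
    have hgi : g * i * g⁻¹ = i := by
      have e : g * i * g⁻¹ = (τ ^ k) ^ 4 := by rw [← hk, hidef, conj_pow]
      rcases Nat.even_or_odd k with ⟨l, hl⟩ | ⟨l, hl⟩
      · exfalso
        refine hi1 ?_
        rw [← pow_mul, hl, show (l + l) * 4 = 8 * l by ring, pow_mul, hτ8, one_pow] at e
        simpa using e
      · rw [e, ← pow_mul, hl, show (2 * l + 1) * 4 = 8 * l + 4 by ring, pow_add, pow_mul, hτ8,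
          one_pow, one_mul]
    have hZa : ∀ a, (ρ g (a, 0, 0)).2 = 0 := fun a => by
      refine (hfixτ _).1 ?_
      have h5 : ∀ (m : ℕ) w, ρ τ w = w → ρ (τ ^ m) w = w := by
        intro m w hw
        induction m with
        | zero => rw [pow_zero, map_one]; rfl
        | succ m ih => rw [pow_succ, apply_mul, hw, ih]
      -- `g` moves fixed vectors of a generator to fixed vectors of `τ`
      obtain ⟨j, hj⟩ : ∃ j : ℕ, τ = g * τ ^ j * g⁻¹ := by
        have hord : orderOf (g * τ * g⁻¹) = orderOf τ := by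
          simpa using (MulAut.conj g).orderOf_eq τ
        have hmem : τ ∈ Subgroup.zpowers (g * τ * g⁻¹) := by
          have hle : Subgroup.zpowers (g * τ * g⁻¹) ≤ Subgroup.zpowers τ :=
            Subgroup.zpowers_le.2 (hk ▸ pow_mem (Subgroup.mem_zpowers τ) k)
          rw [Subgroup.eq_of_le_of_card_ge hle (by rw [Nat.card_zpowers, Nat.card_zpowers, hord])]
          exact Subgroup.mem_zpowers τ
        obtain ⟨j, hj⟩ := mem_powers_iff_mem_zpowers.2 hmem
        exact ⟨j, by rw [← conj_pow]; exact hj.symm⟩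
      conv_lhs => rw [hj]
      rw [apply_conj, cancel, h5 j _ ((hfixτ _).2 rfl)]
    refine H.mem_normalizer_of_invariant (fun a b => ?_) fun a => by rw [hZa]; simp
    -- `W` is the image of `i - 1` plus the first axis
    set w : K × K × K := (0, -b / 2, 0)
    have e : ((a, b, (0 : K)) : K × K × K) = (a - (πi (-b / 2) + i₁ 0), 0, 0) + (ρ i w - w) := by
      rw [hishape, hi₂]
      refine Prod.ext ?_ (Prod.ext ?_ ?_)
      · simp [w]
      · simp [w]; field_simp; ring
      · simp [w]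
    have h6 : (ρ i (ρ g w)).2.2 = (ρ g w).2.2 := by
      obtain ⟨x, y, z⟩ := ρ g w
      rw [hishape]
    rw [e, map_add, map_sub, show ρ g (ρ i w) = ρ i (ρ g w) by
      conv_rhs => rw [← hgi]
      rw [apply_conj, cancel], Prod.snd_add, Prod.snd_sub, hZa, Prod.snd_add, Prod.snd_sub, h6]
    simp
  -- a Sylow 2-subgroup
  have hzp : IsPGroup 2 (Subgroup.zpowers τ) := by
    rintro ⟨_, m, rfl⟩
    refine ⟨3, Subtype.ext ?_⟩
    show (τ ^ m) ^ 2 ^ 3 = 1
    rw [← zpow_natCast (τ ^ m), ← zpow_mul, mul_comm, zpow_mul, zpow_natCast,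
      show 2 ^ 3 = 8 by norm_num, hτ8, one_zpow]
  obtain ⟨T, hT⟩ := hzp.exists_le_sylow
  have hτT : τ ∈ T := hT (Subgroup.mem_zpowers τ)
  have hTker : ∀ h ∈ T, h ∈ N → (∀ s, h * σ s * h⁻¹ = σ s) → h = 1 := by
    intro h hT' hh hc
    obtain ⟨b, rfl⟩ := hker h hh hc
    obtain ⟨k, hk⟩ := T.isPGroup' ⟨_, hT'⟩
    have h1 : σ b ^ 2 ^ k = 1 := congrArg Subtype.val hk
    have h3 : orderOf (σ b) ∣ 1 := by
      have hco : Nat.Coprime (2 ^ k) 9 := Nat.Coprime.pow_left k (by norm_num)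
      rw [← hco.gcd_eq_one]
      exact Nat.dvd_gcd (orderOf_dvd_of_pow_eq_one h1) (orderOf_dvd_of_pow_eq_one (hσ9 b))
    exact orderOf_eq_one_iff.1 (Nat.dvd_one.1 h3)
  have hTeq : ∀ h ∈ T, h ∈ N → ∀ k ∈ T, k ∈ N → (∀ s, h * σ s * h⁻¹ = k * σ s * k⁻¹) → h = k := by
    intro h h1 h2 k k1 k2 hc
    refine (inv_mul_eq_one.1 (hTker (k⁻¹ * h) (mul_mem (inv_mem k1) h1)
      (mul_mem (inv_mem k2) h2) fun s => ?_)).symm
    calc k⁻¹ * h * σ s * (k⁻¹ * h)⁻¹ = k⁻¹ * (h * σ s * h⁻¹) * k := by group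
      _ = _ := by rw [hc]; group
  have hTN : (T : Subgroup G) ≤ N := by
    by_contra hne
    obtain ⟨y, ⟨hyT, hyn⟩, hy⟩ := SetLike.exists_of_lt
      (Cfsg.Agent.Transfer.lt_inf_normalizer_of_lt T.isPGroup' (show (T : Subgroup G) ⊓ N < T from
        lt_of_le_of_ne inf_le_left fun h => hne (h ▸ inf_le_right)))
    have hyN : y ∉ N := fun h => hy ⟨hyT, h⟩
    obtain ⟨hhT, hhN⟩ := (Subgroup.mem_normalizer_iff.1 hyn τ).1 ⟨hτT, hτN⟩
    obtain ⟨ν, ω, φ, π, o₁, o₂, hs, -, -, -, hf⟩ := hconj _ hhN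
    rcases hφ φ with hid | hcube
    · obtain ⟨k, -, hk⟩ := hμ8.eq_pow_of_pow_eq_one (hu8 ν hs.1)
      refine hyN (hnormN y k (hTeq _ hhT hhN _ (pow_mem hτT k) (pow_mem hτN k) fun s => ?_))
      rw [hf, hid, hfτ, hk]
    · have h4 : (y * τ * y⁻¹) ^ 4 = 1 := by
        refine hTker _ (pow_mem hhT 4) (pow_mem hhN 4) fun s => ?_
        rw [hpow _ _ hf]
        refine congrArg σ ?_
        show ν * φ (ν * φ (ν * φ (ν * φ s))) = s
        rw [hcube, hcube, hcube, hcube]
        have e : ν * (ν * (ν * (ν * s ^ 3) ^ 3) ^ 3) ^ 3 = (ν ^ 8) ^ 5 * ((s ^ 9) ^ 9) := by ring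
        rw [e, hu8 ν hs.1, hx9, hx9, one_pow, one_mul]
      rw [conj_pow] at h4
      refine hi1 ?_
      simpa [← hidef] using h4
  have hcomm : ∀ h ∈ T, h * i * h⁻¹ = i := by
    intro h hh
    refine hTeq _ (mul_mem (mul_mem hh (pow_mem hτT 4)) (inv_mem hh))
      (mul_mem (mul_mem (hTN hh) hiN) (inv_mem (hTN hh))) _ (pow_mem hτT 4) hiN fun s => ?_
    obtain ⟨ν, ω, φ, π, o₁, o₂, hs, -, -, -, hf⟩ := hconj h (hTN hh)
    obtain ⟨w, hw⟩ := (Subgroup.mem_set_normalizer_iff.1 (inv_mem (hTN hh)) (σ s)).1 ⟨s, rfl⟩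
    have hw' : h * σ w * h⁻¹ = σ s := by rw [hw]; group
    have hs' : σ s = σ (ν * φ w) := hw'.symm.trans (hf w)
    calc h * i * h⁻¹ * σ s * (h * i * h⁻¹)⁻¹ = h * (i * (h⁻¹ * σ s * h) * i⁻¹) * h⁻¹ := by group
      _ = h * (i * σ w * i⁻¹) * h⁻¹ := by rw [hw, inv_inv]
      _ = σ (ν * φ (-w)) := by rw [hfi, hf]
      _ = σ (-(ν * φ w)) := by rw [map_neg, mul_neg]
      _ = i * σ s * i⁻¹ := by rw [H.σ_inj hs', hfi]
  -- the count of fixed vectors
  let Fix : G → Set (K × K × K) := fun g => {v | ρ g v = v}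
  have hiFix : 81 ≤ (Fix i).ncard := by
    let f : K × K → K × K × K := fun q => (q.1 - (πi 0 + i₁ q.2), -i₂ q.2, q.2)
    have hfinj : Function.Injective f := fun q r h => by
      simp only [f, Prod.mk.injEq] at h
      obtain ⟨h1, -, h3⟩ := h
      rw [h3] at h1
      exact Prod.ext (sub_left_injective h1) h3
    have hsub : Set.range f ⊆ Fix i := by
      rintro _ ⟨q, rfl⟩
      obtain ⟨a, c⟩ := q
      -- `-(w + i w)` for `w = (a, 0, c)`
      show ρ i (f (a, c)) = f (a, c)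
      have e : f (a, c) = -(((a, 0, c) : K × K × K) + ρ i (a, 0, c)) := by
        rw [hishape]
        refine Prod.ext ?_ (Prod.ext ?_ ?_)
        · simp [f]
          linear_combination a * h30
        · simp [f]
        · simp [f]
          linear_combination c * h30
      rw [e, map_neg, map_add, ← apply_mul, hi2, map_one, add_comm]
      rfl
    have := Set.ncard_le_ncard hsub (Set.toFinite _)
    rw [Set.ncard_range_of_injective hfinj, Nat.card_prod, Nat.card_eq_fintype_card, h9] at this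
    exact this
  have hisol : ∀ g : G, g * i * g⁻¹ ∈ T → g * i * g⁻¹ = i := by
    intro g hg
    set j := g * i * g⁻¹ with hj
    have hjN := hTN hg
    have hj2 : j * j = 1 := by
      rw [hj, show g * i * g⁻¹ * (g * i * g⁻¹) = g * (i * i) * g⁻¹ by group, hi2, mul_one,
        mul_inv_cancel]
    obtain ⟨ν, ω, φ, π, o₁, o₂, hs, hφω, h0, h0', hf⟩ := hconj j hjN
    have hjj : ∀ s, ν * φ (ν * φ s) = s := fun s => H.σ_inj (by
      rw [← hf, ← hf, show j * (j * σ s * j⁻¹) * j⁻¹ = (j * j) * σ s * (j * j)⁻¹ by group, hj2]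
      simp)
    rcases hφ φ with hid | hcube
    · have h1 : (ν - 1) * (ν + 1) = 0 := by
        have := hjj 1
        simp only [hid, mul_one] at this
        linear_combination this
      rcases mul_eq_zero.1 h1 with h | h
      · exfalso
        have : j = 1 := hTker j hg hjN fun s => by rw [hf, hid, sub_eq_zero.1 h, one_mul]
        rw [hj, conj_eq_one_iff] at this
        exact hi1 this
      · refine hTeq j hg hjN i (pow_mem hτT 4) hiN fun s => ?_
        rw [hf, hid, hfi, eq_neg_of_add_eq_zero_left h, neg_one_mul]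
    · exfalso
      -- each layer has a nonzero anti-fixed point
      have hlayer : ∀ (c : K), c ≠ 0 → (∀ x, c * φ (c * φ x) = x) → ∃ x, x ≠ 0 ∧ c * φ x = -x := by
        intro c hc hcc
        obtain ⟨y, hy⟩ : ∃ y, c * φ y ≠ y := by
          by_contra hall
          push Not at hall
          have e1 : c = 1 := by simpa using hall 1
          have := hall t
          rw [e1, one_mul, hcube] at this
          refine ht.pow_ne_one_of_pos_of_lt (l := 2) (by norm_num) (by norm_num)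
            (mul_left_cancel₀ (ht.ne_zero (by norm_num)) ?_)
          linear_combination this
        refine ⟨y - c * φ y, sub_ne_zero.2 (Ne.symm hy), ?_⟩
        rw [map_sub, mul_sub, hcc]
        ring
      have hν1 : ν * φ ν = 1 := by simpa using hjj 1
      have hφφ : ∀ x, φ (φ x) = x := fun x => by rw [hcube, hcube, ← pow_mul]; exact hx9 x
      have hω1 : ω * φ ω = 1 := by
        have e1 := congrArg φ hφω
        rw [map_mul, map_pow, map_one] at e1
        linear_combination (φ ν) ^ 2 * φ ω * hφω + e1 - (ω * φ ω) * (ν * φ ν + 1) * hν1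
      have hcc : ∀ c : K, c * φ c = 1 → ∀ x, c * φ (c * φ x) = x := fun c hc x => by
        rw [map_mul, hφφ, ← mul_assoc, hc, one_mul]
      obtain ⟨xa, hxa, hxa'⟩ := hlayer 1 one_ne_zero (hcc 1 (by simp))
      obtain ⟨xb, hxb, hxb'⟩ := hlayer (ν * ω) (mul_ne_zero hs.1 hs.2.1)
        (hcc _ (by rw [map_mul]; linear_combination ω * φ ω * hν1 + hω1))
      obtain ⟨xc, hxc, hxc'⟩ := hlayer ω hs.2.1 (hcc ω hω1)
      letI : Algebra (ZMod 3) K := ZMod.algebra K 3
      have hφnat : ∀ (z : ZMod 3) (x : K), φ (z • x) = z • φ x := fun z x => by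
        rw [← ZMod.natCast_zmod_val z, Nat.cast_smul_eq_nsmul, Nat.cast_smul_eq_nsmul, map_nsmul]
      let w : ZMod 3 × ZMod 3 × ZMod 3 → K × K × K := fun z => (z.1 • xa, z.2.1 • xb, z.2.2 • xc)
      let ψ : (K × K × K) → K × K × K := fun v => v - ρ j v
      have hψz : ∀ z, ψ (w z) = 0 → z = 0 := by
        intro z hz
        obtain ⟨za, zb, zc⟩ := z
        simp only [ψ, w, sub_eq_zero, hs.2.2, Prod.mk.injEq, hφω, one_mul, hφnat, mul_smul_comm] at hz
        rw [hxc', hxb', smul_neg, smul_neg] at hz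
        obtain ⟨e1, e2, e3⟩ := hz
        have hc0 : zc • xc = 0 := (mul_eq_zero.1 (show (2 : K) * (zc • xc) = 0 by
          linear_combination e3)).resolve_left h2
        rw [hc0, h0'] at e2
        have hb0 : zb • xb = 0 := (mul_eq_zero.1 (show (2 : K) * (zb • xb) = 0 by
          linear_combination e2)).resolve_left h2
        rw [hb0, hc0] at e1
        have hxa'' : φ xa = -xa := by rwa [one_mul] at hxa'
        rw [hxa'', smul_neg] at e1
        have ha0 : za • xa = 0 := (mul_eq_zero.1 (show (2 : K) * (za • xa) = 0 by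
          linear_combination e1 + h0)).resolve_left h2
        have key : ∀ (z : ZMod 3) (x : K), x ≠ 0 → z • x = 0 → z = 0 := fun z x hx h =>
          (smul_eq_zero.1 h).resolve_right hx
        rw [key za xa hxa ha0, key zb xb hxb hb0, key zc xc hxc hc0]
        rfl
      have hψinv : ∀ v, ρ j (ψ v) = -ψ v := fun v => by
        simp only [ψ]
        rw [map_sub, ← apply_mul, hj2, map_one]
        show ρ j v - v = _
        rw [neg_sub]
      let F : Fix j × (ZMod 3 × ZMod 3 × ZMod 3) → K × K × K := fun q => (q.1 : K × K × K) + ψ (w q.2)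
      have hF : Function.Injective F := by
        rintro ⟨⟨v, hv⟩, z⟩ ⟨⟨v', hv'⟩, z'⟩ he
        simp only [F] at he
        change ρ j v = v at hv
        change ρ j v' = v' at hv'
        have he2 := congrArg (ρ j) he
        rw [map_add, map_add, hv, hv', hψinv, hψinv] at he2
        have e1 : v = v' := by
          have e3 : (2 : K) • v = (2 : K) • v' := by
            rw [two_smul, two_smul]
            have := congrArg₂ (· + ·) he he2
            calc v + v = v + ψ (w z) + (v + -ψ (w z)) := by abel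
              _ = v' + ψ (w z') + (v' + -ψ (w z')) := this
              _ = v' + v' := by abel
          exact smul_right_injective _ h2 e3
        subst e1
        have e2 : ψ (w (z - z')) = 0 := by
          have : w (z - z') = w z - w z' := by simp [w, sub_smul]
          simp only [ψ, this, map_sub]
          have := add_left_cancel he
          simp only [ψ] at this
          calc w z - w z' - (ρ j (w z) - ρ j (w z')) = (w z - ρ j (w z)) - (w z' - ρ j (w z')) := by abel
            _ = 0 := by rw [this, sub_self]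
        exact Prod.ext (Subtype.ext rfl) (sub_eq_zero.1 (hψz _ e2))
      have hc1 := Nat.card_le_card_of_injective F hF
      rw [Nat.card_prod, Nat.card_prod, Nat.card_prod, Nat.card_prod, Nat.card_prod, Nat.card_zmod,
        Nat.card_coe_set_eq, Nat.card_eq_fintype_card, h9] at hc1
      have hc2 : (Fix i).ncard = (Fix j).ncard := by
        have : Fix j = ρ g '' Fix i := by
          ext v
          constructor
          · intro hv
            refine ⟨ρ g⁻¹ v, ?_, cancel' ρ g v⟩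
            have := congrArg (ρ g⁻¹) (show ρ j v = v from hv)
            rw [hj, apply_conj, cancel] at this
            exact this
          · rintro ⟨w, hw, rfl⟩
            show ρ j (ρ g w) = ρ g w
            rw [hj, apply_conj, cancel, show ρ i w = w from hw]
        rw [this, Set.ncard_image_of_injective _ (Plane.map_zpowers_inj ρ g)]
      rw [← hc2] at hc1
      omega
  -- Z*
  obtain ⟨O, hOn, hOodd, hO⟩ := ZStar.exists_normal_of_sylow ZStar.zStarThm
    (orderOf_eq_prime (by rw [pow_two, hi2]) hi1) (pow_mem hτT 4) hisol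
  have hσO : ∀ s, σ s ∈ O := fun s => by
    have h := hO (σ s)
    rw [hfi, ← H.σ_neg, ← H.add] at h
    have : -s + -s = s := by linear_combination -s * h30
    rwa [this] at h
  obtain ⟨P, hP⟩ := H.sylow
  have hPO : (P : Subgroup G) ≤ O := fun x hx => by
    obtain ⟨s, rfl⟩ := hP.le hx
    exact hσO s
  set P' := P.subtype hPO with hP'
  have hP'mem : ∀ x : O, x ∈ (P' : Subgroup O) ↔ ∃ s, (x : G) = σ s := fun x => by
    rw [hP', Sylow.coe_subtype, Subgroup.mem_subgroupOf, ← SetLike.mem_coe, hP]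
    exact ⟨fun ⟨s, hs⟩ => ⟨s, hs.symm⟩, fun ⟨s, hs⟩ => ⟨s, hs.symm⟩⟩
  have hON : ∀ h : O, (h : G) ∈ N → h ∈ (P' : Subgroup O) := by
    intro h hh
    obtain ⟨ν, ω, φ, π, o₁, o₂, hs, -, -, -, hf⟩ := hconj _ hh
    obtain ⟨b, hb⟩ := hker ((h : G) ^ 16) (pow_mem hh _) fun s => by
      rw [hpow _ _ hf]
      refine congrArg σ ?_
      have h2' : ∃ c : K, c ≠ 0 ∧ ∀ s, ν * φ (ν * φ s) = c * s := by
        rcases hφ φ with hid | hcube
        · exact ⟨ν * ν, mul_ne_zero hs.1 hs.1, fun s => by rw [hid, hid, mul_assoc]⟩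
        · refine ⟨ν * ν ^ 3, mul_ne_zero hs.1 (pow_ne_zero _ hs.1), fun s => ?_⟩
          rw [hcube, hcube, mul_pow, ← pow_mul, ← mul_assoc, hx9]
      obtain ⟨c, hc, hcs⟩ := h2'
      rw [show 16 = 2 * 8 by norm_num, Function.iterate_mul,
        show (fun s => ν * φ s)^[2] = fun s => c * s from funext hcs, hiter, hu8 c hc, one_mul]
    have hodd : Odd (orderOf h) := hOodd.of_dvd_nat (orderOf_dvd_natCard h)
    obtain ⟨m, hm⟩ := exists_pow_eq_self_of_coprime (x := h) (n := 16)
      (by rw [show (16 : ℕ) = 2 ^ 4 by norm_num]; exact Nat.Coprime.pow_left 4 (Nat.coprime_two_left.2 hodd))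
    rw [← hm]
    exact pow_mem ((hP'mem _).2 ⟨b, by rw [SubgroupClass.coe_pow, hb]⟩) m
  have hNC : Subgroup.normalizer ((P' : Subgroup O) : Set O) ≤ Subgroup.centralizer (P' : Set O) := by
    intro h hh
    have hhN : (h : G) ∈ N := H.mem_normalizer_of_maps fun a => by
      obtain ⟨b, hb⟩ := (hP'mem _).1
        ((Subgroup.mem_normalizer_iff.1 hh ⟨σ a, hσO a⟩).1 ((hP'mem _).2 ⟨a, rfl⟩))
      exact ⟨b, hb⟩
    obtain ⟨b, hb⟩ := (hP'mem h).1 (hON h hhN)
    refine Subgroup.mem_centralizer_iff.2 fun x hx => ?_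
    obtain ⟨a, ha⟩ := (hP'mem x).1 hx
    refine Subtype.ext ?_
    rw [Subgroup.coe_mul, Subgroup.coe_mul, ha, hb, ← H.add, ← H.add, add_comm]
  set C := (MonoidHom.transferSylow P' hNC).ker with hC
  have hcompl := MonoidHom.ker_transferSylow_isComplement' P' hNC
  have hPcard : Nat.card (P' : Subgroup O) = 9 := by
    have e : Nat.card (P' : Subgroup O) = Nat.card (Set.range fun s => (⟨σ s, hσO s⟩ : O)) :=
      Nat.card_congr (Equiv.setCongr (Set.ext fun x => (hP'mem x).trans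
        ⟨fun ⟨s, hs⟩ => ⟨s, Subtype.ext hs.symm⟩, fun ⟨s, hs⟩ => ⟨s, (congrArg Subtype.val hs).symm⟩⟩))
    rw [e, Nat.card_range_of_injective (fun a b hab => H.σ_inj (congrArg Subtype.val hab)),
      Nat.card_eq_fintype_card, h9]
  have hcop : (Nat.card (P' : Subgroup O)).Coprime (Nat.card C) := by
    have hidx : (P' : Subgroup O).index = Nat.card C := hcompl.index_eq_card
    have := P'.not_dvd_index
    rw [hidx] at this
    rw [hPcard, show (9 : ℕ) = 3 ^ 2 by norm_num]
    exact Nat.Coprime.pow_left 2 ((Nat.Prime.coprime_iff_not_dvd Nat.prime_three).2 this)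
  have hCP : ∀ x ∈ C, x ∈ (P' : Subgroup O) → x = 1 := fun x hx hx' =>
    (Subgroup.disjoint_def.1 hcompl.disjoint) hx hx'
  have hCbot : C = ⊥ := by
    have : IsMulCommutative (P' : Subgroup O) := ⟨⟨fun x y => by
      obtain ⟨a, ha⟩ := (hP'mem _).1 x.2
      obtain ⟨b, hb⟩ := (hP'mem _).1 y.2
      refine Subtype.ext (Subtype.ext ?_)
      show ((x : O) : G) * ((y : O) : G) = ((y : O) : G) * ((x : O) : G)
      rw [ha, hb, ← H.add, ← H.add, add_comm]⟩⟩
    have hncyc : ¬ IsCyclic (P' : Subgroup O) := by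
      intro hcyc
      obtain ⟨x, hx⟩ := IsCyclic.exists_ofOrder_eq_natCard (α := (P' : Subgroup O))
      obtain ⟨a, ha⟩ := (hP'mem _).1 x.2
      have h3 : x ^ 3 = 1 := Subtype.ext (Subtype.ext (by
        rw [SubgroupClass.coe_pow, SubgroupClass.coe_pow, ha, pow_succ, pow_two, ← H.add, ← H.add,
          show a + a + a = 0 by linear_combination a * h30, H.σ_zero]
        rfl))
      have := orderOf_dvd_of_pow_eq_one h3
      rw [hx, hPcard] at this
      norm_num at this
    refine ((Cfsg.Agent.Coprime.eq_of_forall_centralizer_le (A := (P' : Subgroup O)) (K := C) hncyc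
      Subgroup.le_normalizer_of_normal hcop bot_le fun a ha ha1 => ?_).symm)
    rintro x ⟨hxC, hxc⟩
    obtain ⟨s, hs⟩ := (hP'mem a).1 ha
    have hxN : (x : G) ∈ N := by
      by_contra hxN
      have he : (x : G) * σ s * (x : G)⁻¹ = σ s := by
        have := congrArg Subtype.val (Subgroup.mem_centralizer_singleton_iff.1 hxc)
        rw [Subgroup.coe_mul, Subgroup.coe_mul, hs] at this
        rw [this, mul_inv_cancel_right]
      refine ha1 (Subtype.ext ?_)
      rw [hs, H.eq_zero_of_conj hxN he, H.σ_zero]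
      rfl
    exact Subgroup.mem_bot.2 (hCP x hxC (hON x hxN))
  refine hg₀ (H.mem_normalizer_of_maps fun a => ?_)
  have htop : (P' : Subgroup O) = ⊤ := by
    have h := hcompl
    rw [← hC, hCbot, Subgroup.isComplement'_bot_left] at h
    exact h
  obtain ⟨b, hb⟩ := (hP'mem ⟨_, hOn.conj_mem _ (hσO a) g₀⟩).1 (htop ▸ Subgroup.mem_top _)
  exact ⟨b, hb⟩

end Module

end Cfsg.Agent.Fusion.SpFour
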