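import Cfsg.Agent.Lib.Fusion.SpFour.Nine

/-!
In odd characteristic a system over the Sylow subgroup of `Sp₄(K)` with nontrivial core is constrained.
-/

set_option autoImplicit false
set_option linter.unusedSectionVars false

namespace Cfsg.Agent.Fusion.SpFour

open Cfsg Cfsg.FusionSystem

universe u

variable {Ω : Type u} [Group Ω] {S : Subgroup Ω} {F : FusionSystem S} {p : ℕ}
variable {K : Type*} [Field K]

/-- An automorphism of `S` preserving the abelian radical restricts to it. -/
theorem exists_restrict [Finite S] (e : U4 K ≃* S) {α : MulAut S} (hα : α ∈ F.autGroup S)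
    (hA : ∀ g : U4 K, g.s = 0 → (pull e α g).s = 0) :
    ∃ a : F.autGroup (img e (U4.radA K)),
      ∀ v, U4.vec (actA e (a : MulAut (img e (U4.radA K))) v) = pull e α (U4.vec v) := by
  have hle := img_le e (U4.radA K)
  have hφ := restrict_mem (hom_of_mem_autGroup le_rfl hα).1 hle
  set φ : img e (U4.radA K) →* Ω :=
    (S.subtype.comp α.toMonoidHom).comp (Subgroup.inclusion hle) with hφdef
  have hval : ∀ g, (hg : el e g ∈ img e (U4.radA K)) →
      φ ⟨el e g, hg⟩ = el e (pull e α g) := fun g hg => (el_pull e α g).symm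
  have hr : φ.range = img e (U4.radA K) := by
    refine range_eq_of_le hφ hle (fun x => ?_) le_rfl
    obtain ⟨g, hg, hgx⟩ := exists_el_of_img e x.2
    obtain rfl : x = ⟨el e g, (el_mem_img e).2 hg⟩ := Subtype.ext hgx.symm
    rw [hval g]
    exact (el_mem_img e).2 (hA g hg)
  refine ⟨⟨toAut hφ hr, toAut_mem hφ hr⟩, fun v => ?_⟩
  rw [← el_inj e, ← coe_vecA, vecA_actA]
  exact hval (U4.vec v) _

/-- The abelian radical is invariant under every automorphism in odd characteristic. -/
theorem radA_invariant (h2 : (2 : K) ≠ 0) (β : U4 K ≃* U4 K) (g : U4 K) (hg : g.s = 0) :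
    (β g).s = 0 := by
  set w := β (U4.vec (0, 1, 0)) with hw
  have hwc : ∀ x : U4 K, w * x * w⁻¹ * x⁻¹ ∈ Subgroup.center (U4 K) := by
    intro x
    obtain ⟨y, rfl⟩ := β.surjective x
    rw [hw, ← map_inv, ← map_inv, ← map_mul, ← map_mul, ← map_mul]
    have hz : U4.vec ((0 : K), (1 : K), (0 : K)) * y * (U4.vec ((0 : K), (1 : K), (0 : K)))⁻¹ * y⁻¹
        ∈ Subgroup.center (U4 K) := by
      rw [U4.mem_center]
      simp
    rw [Subgroup.mem_center_iff] at hz ⊢
    intro z
    obtain ⟨z, rfl⟩ := β.surjective z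
    rw [← map_mul, hz, map_mul]
  have hws : w.s = 0 ∧ w.c = 0 := by
    have h1 := hwc (U4.sig 1)
    have h3 := hwc (U4.vec (0, 0, 1))
    rw [U4.mem_center] at h1 h3
    have k1 := (mul_eq_zero.1 h1.2.2).resolve_left h2
    have k3 := (mul_eq_zero.1 h3.2.2).resolve_left h2
    simp at k1 k3
    exact ⟨by linear_combination k3, by linear_combination -k1⟩
  have hwb : w.b ≠ 0 := fun h => by
    have hz : w ∈ Subgroup.center (U4 K) := U4.mem_center.2 ⟨hws.1, hws.2, by rw [h, mul_zero]⟩
    rw [Subgroup.mem_center_iff] at hz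
    have h1 : U4.sig (1 : K) * U4.vec (0, 1, 0) = U4.vec (0, 1, 0) * U4.sig 1 :=
      β.injective (by rw [map_mul, map_mul]; exact hz _)
    rw [U4.comm_iff] at h1
    simp [h2] at h1
  have hcomm : β g * w = w * β g := by
    rw [hw, ← map_mul, ← map_mul]
    refine congrArg β ?_
    rw [U4.comm_iff, hg]
    simp
  rw [U4.comm_iff, hws.1, hws.2] at hcomm
  have : (β g).s * (2 * w.b) = 0 := by linear_combination hcomm.1
  exact (mul_eq_zero.1 this).resolve_right (mul_ne_zero h2 hwb)

variable [Finite S] [Fact p.Prime] [Fintype K] [CharP K p]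

omit [Fintype K] in
theorem pull_mul (e : U4 K ≃* S) (α β : MulAut S) (g : U4 K) :
    pull e (α * β) g = pull e α (pull e β g) := by
  simp [pull, MulAut.mul_apply]

omit [Fintype K] in
theorem pull_inv (e : U4 K ≃* S) (α : MulAut S) (g : U4 K) :
    pull e α⁻¹ (pull e α g) = g := by
  rw [← pull_mul, inv_mul_cancel]; simp [pull]

/-- In odd characteristic a nontrivial core forces the system to be constrained. -/
theorem isConstrained_odd (e₀ : U4 K ≃* S) (hS : IsPGroup p S) (hF : F.IsSaturated p)
    (hcore : F.core ≠ ⊥) (h2 : (2 : K) ≠ 0) : F.IsConstrained p := by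
  classical
  by_contra hnc
  have hX := core_le_center e₀ hS hF hnc
  -- normalise a core element
  obtain ⟨e, hx⟩ : ∃ e : U4 K ≃* S, el e (U4.vec (1, 0, 0)) ∈ F.core := by
    obtain ⟨x, hx, hx1⟩ := F.core.bot_or_exists_ne_one.resolve_left hcore
    obtain ⟨g, rfl⟩ := exists_el e₀ ((isNormal_core F).1 hx)
    obtain ⟨h1, h3, h4⟩ := U4.mem_center.1 ((el_mem_zc e₀).1 (hX hx))
    have hb := (mul_eq_zero.1 h4).resolve_left h2
    have ha : g.a ≠ 0 := fun h => hx1 (by
      rw [show g = 1 from U4.ext h1 h hb h3, el_one])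
    refine ⟨(U4.scaleIso (Units.mk0 g.a ha)).trans e₀, ?_⟩
    have : U4.scaleIso (Units.mk0 g.a ha) (U4.vec (1, 0, 0)) = g := by
      ext <;> simp [U4.scaleIso, h1, h3, hb]
    show el e₀ (U4.scaleIso (Units.mk0 g.a ha) (U4.vec (1, 0, 0))) ∈ F.core
    rw [this]
    exact hx
  -- the fixed torus
  have htorus : ∀ κ, F.IsFullyNormalized (radM e κ) → F.IsCentric (radM e κ) →
      F.IsRadical p (radM e κ) → ∀ t : K, t ≠ 0 → ∃ α ∈ F.autGroup S,
        (∀ g : U4 K, g.s = 0 → (pull e α g).s = 0) ∧
        (∀ a, pull e α (U4.vec (a, 0, 0)) = U4.vec (a, 0, 0)) ∧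
        ∀ g : U4 K, (pull e α g).s = t⁻¹ * g.s ∧
          (pull e α g).c = t ^ 2 * g.c + κ * (t⁻¹ - t ^ 2) * g.s :=
    fun κ h1 h3 h4 t ht => exists_torus e κ hS hF h2 h1 h3 h4 ht
  by_cases hM : ∃ κ, F.IsFullyNormalized (radM e κ) ∧ F.IsCentric (radM e κ) ∧
      F.IsRadical p (radM e κ)
  · obtain ⟨κ, hn, hc, hr⟩ := hM
    -- the abelian radical is not radical
    have hA : F.IsFullyNormalized (img e (U4.radA K)) →
        ¬ F.IsRadical p (img e (U4.radA K)) := by
      intro hnA
      by_cases h9 : Fintype.card K = 9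
      swap
      · exact not_radical_radA e hS hF hX h2 h9 hx hnA
      intro hrA
      have := finite_of_le (Ω := Ω) hnA.1
      have := finite_mulAut (Ω := Ω) hnA.1
      have H := hyp_repA e hS hF hX hnA
      obtain ⟨g₀, hg₀⟩ := exists_notMem_normalizer e hS hF hX hnA hrA
      obtain ⟨t, ht⟩ : ∃ t : K, IsPrimitiveRoot t 8 := by
        obtain ⟨g, hg⟩ := IsCyclic.exists_ofOrder_eq_natCard (α := Kˣ)
        refine ⟨g, ?_⟩
        have h8 : orderOf g = 8 := by
          rw [hg, Nat.card_eq_fintype_card, Fintype.card_units, h9]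
        rw [← h8]
        exact IsPrimitiveRoot.coe_units_iff.2 (IsPrimitiveRoot.orderOf g)
      have ht0 := ht.ne_zero (by norm_num)
      obtain ⟨α, hα, hαA, hαZ, hαv⟩ := htorus κ hn hc hr t ht0
      obtain ⟨a, ha⟩ := exists_restrict e hα hαA
      have hag : a ∈ fixCore F (img e (U4.radA K)) := by
        intro x hxc
        have h5 : (x : Ω) ∈ centralizerIn S S := hX hxc
        rw [← vecA_coA e x, coe_vecA, el_mem_zc, U4.mem_center] at h5
        have hb : (coA e x).2 = 0 :=
          Prod.ext ((mul_eq_zero.1 h5.2.2).resolve_left h2) h5.2.1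
        rw [← vecA_coA e x, ← vecA_actA]
        refine congrArg (vecA e) ?_
        have e5 := ha (coA e x)
        rw [show coA e x = ((coA e x).1, 0, 0) from Prod.ext rfl hb, hαZ] at e5
        rw [show coA e x = ((coA e x).1, 0, 0) from Prod.ext rfl hb]
        have k1 := congrArg U4.a e5
        have k2 := congrArg U4.b e5
        have k3 := congrArg U4.c e5
        exact Prod.ext k1 (Prod.ext k2 k3)
      have hv : ∀ v, U4.vec (repA e F ⟨a, hag⟩ v) = pull e α (U4.vec v) := ha
      refine Module.false_of_nine H h9 (fun g hg => ?_) (τ₀ := ⟨a, hag⟩) ?_ ht (fun v => ?_) hg₀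
      · obtain ⟨β, -, hβA, hβv⟩ := exists_pull e hS hF hX hnA hg
        obtain ⟨φ₁, ω, φ, π, o₁, o₂, hs⟩ := U4.exists_shape_odd (pull e β) hβA h2
        obtain ⟨h0, h0'⟩ := U4.zero_of_shape hs
        have hval : ∀ a b c, repA e F g (a, b, c) =
            (φ₁ ^ 2 * ω * φ a + π b + o₁ c, φ₁ * ω * φ b + o₂ c, ω * φ c) := fun a b c => by
          have h := (hβv (a, b, c)).symm.trans (hs.2.2.2 a b c)
          exact Prod.ext (congrArg U4.a h) (Prod.ext (congrArg U4.b h) (congrArg U4.c h))
        refine ⟨φ₁, ω, φ, π, o₁, o₂, ⟨hs.1, hs.2.1, hval⟩, ?_, h0, h0'⟩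
        have hfix : repA e F g (1, 0, 0) = (1, 0, 0) := by
          rw [repA_apply]
          refine vecA_injective e ?_
          rw [vecA_actA]
          exact g.2 _ hx
        have := congrArg Prod.fst (hfix.symm.trans (hval 1 0 0))
        simp [add_assoc, h0] at this
        exact this.symm
      · refine H.mem_normalizer_of_invariant (fun x y => ?_) fun x => ?_
        · have := congrArg U4.c (hv (x, y, 0))
          rw [(hαv _).2] at this
          simpa using this
        · have := congrArg U4.b (hv (x, 0, 0))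
          rw [hαZ] at this
          simp at this
          rw [this, mul_zero]
      · have := congrArg U4.c (hv v)
        rw [(hαv _).2] at this
        simpa using this
    -- the subgroup `c = κ s` is unique
    have hneg : ∀ κ', F.IsFullyNormalized (radM e κ') → F.IsCentric (radM e κ') →
        F.IsRadical p (radM e κ') → ∃ α ∈ F.autGroup S,
        (∀ g : U4 K, g.s = 0 → (pull e α g).s = 0) ∧
        ∀ g : U4 K, (pull e α g).s = -g.s ∧ (pull e α g).c = g.c - 2 * κ' * g.s := by
      intro κ' h1 h3 h4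
      obtain ⟨α, hα, h5, -, h6⟩ := htorus κ' h1 h3 h4 (-1) (neg_ne_zero.2 one_ne_zero)
      refine ⟨α, hα, h5, fun g => ⟨?_, ?_⟩⟩
      · rw [(h6 g).1, inv_neg, inv_one, neg_one_mul]
      · rw [(h6 g).2, inv_neg, inv_one]; ring
    obtain ⟨α, hα, hαA, hαv⟩ := hneg κ hn hc hr
    have huniq : ∀ κ', F.IsFullyNormalized (radM e κ') → F.IsCentric (radM e κ') →
        F.IsRadical p (radM e κ') → κ' = κ := by
      intro κ' h1 h3 h4
      obtain ⟨α', hα', hα'A, hα'v⟩ := hneg κ' h1 h3 h4
      have := c_eq_of_unipotent (e := e) hS hF (mul_mem hα hα')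
        (fun g => by rw [pull_mul, (hαv _).1, (hα'v _).1, neg_neg])
        (fun g hg => by
          rw [pull_mul, (hαv _).2, (hα'v _).1, (hα'v _).2, hg]; ring) (U4.sig 1)
      rw [pull_mul, (hαv _).2, (hα'v _).1, (hα'v _).2] at this
      simp at this
      refine mul_left_cancel₀ h2 ?_
      linear_combination -this
    -- it is invariant under `Aut_F(S)`
    have hβM : ∀ β ∈ F.autGroup S, ∀ h : U4 K, h.c = κ * h.s →
        (pull e β h).c = κ * (pull e β h).s := by
      intro β hβ h hh
      obtain ⟨φ₁, ω, φ, π, o₁, o₂, hs1, hs2, hs3, hs4⟩ :=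
        U4.exists_shape_odd (pull e β) (fun g hg => radA_invariant h2 _ g hg) h2
      have hAc : ∀ g : U4 K, g.s = 0 → (pull e β g).c = ω * φ g.c := fun g hg => by
        rw [U4.eq_vec hg, hs4]; rfl
      have hmem : β * α * β⁻¹ * α ∈ F.autGroup S :=
        mul_mem (mul_mem (mul_mem hβ hα) (inv_mem hβ)) hα
      have hεs : ∀ g, (pull e (β * α * β⁻¹ * α) g).s = g.s := by
        intro g
        obtain ⟨y, hy⟩ := (pull e β).surjective (pull e α g)
        rw [pull_mul, pull_mul, pull_mul, ← hy, pull_inv, hs3, (hαv _).1, map_neg, mul_neg,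
          ← hs3, hy, (hαv _).1, neg_neg]
      have hεA : ∀ g : U4 K, g.s = 0 → (pull e (β * α * β⁻¹ * α) g).c = g.c := by
        intro g hg
        obtain ⟨y, hy⟩ := (pull e β).surjective (pull e α g)
        have hys : y.s = 0 := by
          have := hs3 y
          rw [hy, (hαv _).1, hg, neg_zero] at this
          exact (map_eq_zero φ).1 ((mul_eq_zero.1 this.symm).resolve_left hs1)
        have hyc := hAc y hys
        rw [hy, (hαv _).2, hg, mul_zero, sub_zero] at hyc
        rw [pull_mul, pull_mul, pull_mul, ← hy, pull_inv,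
          hAc _ (by rw [(hαv _).1, hys, neg_zero]), (hαv _).2, hys, mul_zero, sub_zero, ← hyc]
      obtain ⟨g, hg⟩ := (pull e α).surjective (pull e β h)
      have hε := c_eq_of_unipotent (e := e) hS hF hmem hεs hεA g
      rw [pull_mul, pull_mul, pull_mul, hg, pull_inv] at hε
      -- `α h = h⁻¹` modulo `c = 0` inside the radical
      obtain ⟨w, hw, hwA⟩ : ∃ w : U4 K, pull e α h = h⁻¹ * w ∧ w.s = 0 ∧ w.c = 0 :=
        ⟨h * pull e α h, by rw [inv_mul_cancel_left], by simp [(hαv _).1],
          by simp [(hαv _).2, hh]; ring⟩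
      rw [hw, map_mul, map_inv, U4.mul_c, U4.inv_c, hAc w hwA.1, hwA.2, map_zero, mul_zero,
        add_zero] at hε
      have e1 := (hαv g).1
      have e2 := (hαv g).2
      rw [hg] at e1 e2
      refine mul_left_cancel₀ h2 ?_
      linear_combination e2 - hε - 2 * κ * e1
    have hQn : F.IsNormal (radM e κ) := by
      refine isNormal_of_invariant hS hF hn.1 (fun β hβ => ?_) fun R hR hnR hgen => ?_
      · have := finite_of_le (Ω := Ω) hn.1
        refine Subgroup.eq_of_le_of_card_ge ?_
          (le_of_eq (Subgroup.card_map_of_injective β.injective).symm)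
        rintro _ ⟨x, hxm, rfl⟩
        obtain ⟨h, hh, hhx⟩ := exists_el_of_img e hxm
        show ((β x : S) : Ω) ∈ radM e κ
        have e1 : ((β x : S) : Ω) = el e (pull e β h) := by
          rw [el_pull]
          exact congrArg (fun z => ((β z : S) : Ω)) (Subtype.ext hhx.symm)
        rw [e1, el_mem_img, mem_subM]
        exact hβM β hβ h hh
      · obtain ⟨hcR, hrR⟩ := centric_radical_of_not_generated hS hF hnR hgen
        rcases radical_cases e hS hF hcore hnc hnR hcR hrR with h | h | ⟨h, -⟩ | ⟨-, κ', h⟩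
        · exact absurd h hR.ne
        · exact absurd (h ▸ hrR) (hA (h ▸ hnR))
        · exact absurd h h2
        · subst h
          obtain rfl := huniq κ' hnR hcR hrR
          have := finite_of_le (Ω := Ω) hnR.1
          refine ⟨le_rfl, fun a _ => ?_⟩
          rw [Subgroup.subgroupOf_self]
          exact Subgroup.map_top_of_surjective _ a.surjective
    exact hnc ⟨hF, _, hQn, hc⟩
  · push Not at hM
    -- only `S` and the abelian radical are left
    have hAS : ∀ β ∈ F.autGroup S, ((img e (U4.radA K)).subgroupOf S).map β.toMonoidHom =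
        (img e (U4.radA K)).subgroupOf S := by
      intro β _
      refine Subgroup.eq_of_le_of_card_ge ?_
        (le_of_eq (Subgroup.card_map_of_injective β.injective).symm)
      rintro _ ⟨x, hxm, rfl⟩
      obtain ⟨h, hh, hhx⟩ := exists_el_of_img e hxm
      show ((β x : S) : Ω) ∈ img e (U4.radA K)
      have e1 : ((β x : S) : Ω) = el e (pull e β h) := by
        rw [el_pull]
        exact congrArg (fun z => ((β z : S) : Ω)) (Subtype.ext hhx.symm)
      rw [e1, el_mem_img]
      exact radA_invariant h2 _ h hh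
    have hAn : F.IsNormal (img e (U4.radA K)) := by
      refine isNormal_of_invariant hS hF (img_le e _) hAS fun R hR hnR hgen => ?_
      obtain ⟨hcR, hrR⟩ := centric_radical_of_not_generated hS hF hnR hgen
      rcases radical_cases e hS hF hcore hnc hnR hcR hrR with h | h | ⟨h, -⟩ | ⟨-, κ', h⟩
      · exact absurd h hR.ne
      · subst h
        have := finite_of_le (Ω := Ω) hnR.1
        refine ⟨le_rfl, fun a _ => ?_⟩
        rw [Subgroup.subgroupOf_self]
        exact Subgroup.map_top_of_surjective _ a.surjective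
      · exact absurd h h2
      · subst h
        exact absurd hrR (hM κ' hnR hcR)
    refine hnc (ConstrainedExtensions.isConstrained_of_normal_core hF hAn fun x hxc => ?_)
    obtain ⟨g, rfl⟩ := exists_el e (mem_centralizerIn.1 hxc).1
    rw [el_mem_img, U4.mem_radA]
    have h1 := (commute_el e).1 ((mem_centralizerIn.1 hxc).2 _
      ((el_mem_img e).2 (rfl : (U4.vec ((0 : K), (0 : K), (1 : K))).s = 0)))
    rw [U4.comm_iff] at h1
    simpa using h1.2.symm

end Cfsg.Agent.Fusion.SpFour
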