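import Cfsg.Agent.Lib.Fusion.SpFour.AMod

/-!
In odd characteristic, outside the field of nine elements, the abelian radical is not radical when
the core is nontrivial and central.
-/

set_option autoImplicit false
set_option linter.unusedSectionVars false

namespace Cfsg.Agent.Fusion.SpFour

open Cfsg Cfsg.FusionSystem

universe u

variable {K : Type*} [Field K]

namespace U4

/-- The lowest off-diagonal entries are semilinear in odd characteristic. -/
theorem o₂_semilinear (h2 : (2 : K) ≠ 0) {α : U4 K ≃* U4 K} {φ₁ ω : K} {φ : K ≃+* K}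
    {π o₁ o₂ : K → K} (h : HasShape α φ₁ ω φ π o₁ o₂) (c : K) : o₂ c = φ c * o₂ 1 := by
  obtain ⟨h1, -, hs, hv⟩ := h
  have key : ∀ s c, π (s * c) = 2 * φ₁ * φ s * o₂ c + π 0 := by
    intro s c
    have e := congrArg α (conj_vec (sig s) 0 0 c)
    rw [map_mul, map_mul, map_inv, hv, conj_vec, hs, sig_s, hv] at e
    have ea := congrArg U4.a e
    simp at ea
    linear_combination -ea
  have k1 := key 1 c
  have k2 := key c 1
  rw [one_mul, map_one] at k1
  rw [mul_one] at k2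
  refine mul_left_cancel₀ (mul_ne_zero h2 h1) ?_
  linear_combination k2 - k1

end U4

variable {Ω : Type u} [Group Ω] {S : Subgroup Ω} {F : FusionSystem S} {p : ℕ}
variable [Finite S] [Fact p.Prime] [Fintype K] [CharP K p]

/-- In odd characteristic the abelian radical is not radical, unless `q = 9`. -/
theorem not_radical_radA (e : U4 K ≃* S) (hS : IsPGroup p S) (hF : F.IsSaturated p)
    (hX : F.core ≤ centralizerIn S S) (h2 : (2 : K) ≠ 0) (h9 : Fintype.card K ≠ 9)
    (hx : el e (U4.vec (1, 0, 0)) ∈ F.core)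
    (hn : F.IsFullyNormalized (img e (U4.radA K))) : ¬ F.IsRadical p (img e (U4.radA K)) := by
  classical
  intro hr
  have := finite_of_le (Ω := Ω) hn.1
  have := finite_mulAut (Ω := Ω) hn.1
  have H := hyp_repA e hS hF hX hn
  obtain ⟨g₀, hg₀⟩ := exists_notMem_normalizer e hS hF hX hn hr
  have hfix : ∀ g : fixCore F (img e (U4.radA K)), repA e F g (1, 0, 0) = (1, 0, 0) := fun g => by
    rw [repA_apply]
    refine vecA_injective e ?_
    rw [vecA_actA]
    exact g.2 _ hx
  have hshape : ∀ g ∈ Subgroup.normalizer (Set.range (sigG e hX)), ∃ φ₁ ω φ π o₁ o₂,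
      Module.Shape (repA e F g) φ₁ ω φ π o₁ o₂ ∧ φ₁ ^ 2 * ω = 1 ∧ π 0 + o₁ 0 = 0 ∧ o₂ 0 = 0 ∧
        ∀ c, o₂ c = φ c * o₂ 1 := by
    intro g hg
    obtain ⟨α, -, hA, hv⟩ := exists_pull e hS hF hX hn hg
    obtain ⟨φ₁, ω, φ, π, o₁, o₂, hs⟩ := U4.exists_shape_odd (pull e α) hA h2
    obtain ⟨h0, h0'⟩ := U4.zero_of_shape hs
    have hval : ∀ a b c, repA e F g (a, b, c) =
        (φ₁ ^ 2 * ω * φ a + π b + o₁ c, φ₁ * ω * φ b + o₂ c, ω * φ c) := fun a b c => by
      have h := (hv (a, b, c)).symm.trans (hs.2.2.2 a b c)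
      exact Prod.ext (congrArg U4.a h) (Prod.ext (congrArg U4.b h) (congrArg U4.c h))
    refine ⟨φ₁, ω, φ, π, o₁, o₂, ⟨hs.1, hs.2.1, hval⟩, ?_, h0, h0', U4.o₂_semilinear h2 hs⟩
    have := congrArg Prod.fst ((hfix g).symm.trans (hval 1 0 0))
    simp [add_assoc, h0] at this
    exact this.symm
  have hN : ∀ g ∈ Subgroup.normalizer (Set.range (sigG e hX)), ∃ φ : K ≃+* K,
      ∀ a, repA e F g (a, 0, 0) = (φ a, 0, 0) := by
    intro g hg
    obtain ⟨φ₁, ω, φ, π, o₁, o₂, ⟨-, -, hval⟩, hφ, h0, h0', -⟩ := hshape g hg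
    refine ⟨φ, fun a => ?_⟩
    rw [hval, hφ, map_zero, mul_zero, mul_zero, h0', add_zero, one_mul, add_assoc, h0, add_zero]
  obtain ⟨n, hp, hK⟩ := FiniteField.card K p
  have hp2 : p ≠ 2 := fun h => h2 (by subst h; exact CharP.cast_eq_zero K 2)
  have hprime : ∀ l : K, (n : ℕ) = 1 → ∃ m : ℕ, l = m := fun l h1 => by
    have hb : Function.Bijective (ZMod.castHom (dvd_refl p) K) := by
      rw [Fintype.bijective_iff_injective_and_card]
      exact ⟨RingHom.injective _, by rw [ZMod.card, hK, h1, pow_one]⟩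
    obtain ⟨z, hz⟩ := hb.2 l
    exact ⟨z.val, by rw [← hz, ZMod.castHom_apply, ZMod.natCast_val]⟩
  have hd := Module.deg_two H
  have hn4 : (n : ℕ) ≠ 1 → 2 + 2 < (n : ℕ) * (p - 1) := fun h1 => by
    have h3 := n.pos
    have h4 : 3 ≤ p := Nat.lt_of_le_of_ne hp.two_le (Ne.symm hp2)
    by_contra h5
    have h6 : 2 ≤ p - 1 := by omega
    have h7 : (n : ℕ) * 2 ≤ (n : ℕ) * (p - 1) := Nat.mul_le_mul_left _ h6
    have h8 : (n : ℕ) = 2 := by omega
    rw [h8] at h5
    have h9' : p = 3 := by omega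
    exact h9 (by rw [hK, h8, h9']; norm_num)
  have hZa : ∀ g a, (repA e F g (a, 0, 0)).2 = 0 := by
    intro g a
    by_cases h1 : (n : ℕ) = 1
    · obtain ⟨m, rfl⟩ := hprime a h1
      rw [show ((m : K), (0 : K), (0 : K)) = m • ((1 : K), (0 : K), (0 : K)) by simp, map_nsmul,
        hfix]
      simp
    · exact Module.za_invariant H hK hd (hn4 h1) hN g a
  have hlin : ∀ g s (l : K) (v : K × K),
      Module.planeAct (repA e F) hZa (g * sigG e hX s * g⁻¹) (l • v) =
        l • Module.planeAct (repA e F) hZa (g * sigG e hX s * g⁻¹) v := by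
    intro g s l v
    by_cases h1 : (n : ℕ) = 1
    · obtain ⟨m, rfl⟩ := hprime l h1
      rw [Nat.cast_smul_eq_nsmul, Nat.cast_smul_eq_nsmul, map_nsmul]
    · rw [Module.semilinear H hZa hK (lt_trans (by norm_num) (hn4 h1)) ?_,
        Module.axisAct_conj H hZa]
      intro h hh l v
      obtain ⟨φ₁, ω, φ, π, o₁, o₂, ⟨-, -, hval⟩, hφ, h0, h0', ho⟩ := hshape h hh
      obtain ⟨b, c⟩ := v
      have hl : Module.axisAct (repA e F) h l = φ l := by
        show (repA e F h (l, 0, 0)).1 = φ l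
        rw [hval, hφ, one_mul, add_assoc, h0, add_zero]
      rw [hl, Module.planeAct_apply, Module.planeAct_apply, Prod.smul_mk, hval, hval, Prod.smul_mk]
      simp only [smul_eq_mul, map_mul, ho (l * c), ho c]
      refine Prod.ext ?_ ?_ <;> ring
  refine Module.false_of_lin H hZa hlin (fun h hh => ?_) hg₀ (t := -1)
    (neg_ne_zero.2 one_ne_zero) ?_
  · obtain ⟨φ₁, ω, φ, π, o₁, o₂, hs, -⟩ := hshape h hh
    exact ⟨φ₁, ω, φ, π, o₁, o₂, hs⟩
  · intro h
    apply h2
    linear_combination -h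

end Cfsg.Agent.Fusion.SpFour
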