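import Cfsg.Agent.Lib.Fusion.SpFour.Grp
import Cfsg.Agent.Lib.Fusion.CommonFixed
import Cfsg.Agent.Lib.Fusion.Constrained
import Cfsg.Agent.Lib.Fusion.ConstrainedExtensions
import Cfsg.Agent.Lib.Fusion.NormalCriteria

/-!
A saturated system over `U4 K` that is not constrained has central core, and its centric radical
subgroups are `S`, the two abelian radicals and, in odd characteristic, the subgroups `c = κ s`.
-/

set_option autoImplicit false
set_option linter.unusedSectionVars false

namespace Cfsg.Agent.Fusion.SpFour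

open Cfsg Cfsg.FusionSystem

universe u

variable {Ω : Type u} [Group Ω] {S : Subgroup Ω} {F : FusionSystem S} {p : ℕ}
variable {K : Type*} [Field K]

/-- `z = 0`-subgroup of the radical: `s = c = 0`. -/
def radW (K : Type*) [Field K] : Subgroup (U4 K) where
  carrier := {g | g.s = 0 ∧ g.c = 0}
  one_mem' := ⟨rfl, rfl⟩
  mul_mem' {g h} hg hh := by
    refine ⟨?_, ?_⟩
    · rw [U4.mul_s, hg.1, hh.1, add_zero]
    · rw [U4.mul_c, hg.2, hh.2, add_zero]
  inv_mem' {g} hg := by
    refine ⟨?_, ?_⟩
    · rw [U4.inv_s, hg.1, neg_zero]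
    · rw [U4.inv_c, hg.2, neg_zero]

theorem mem_radW {g : U4 K} : g ∈ radW K ↔ g.s = 0 ∧ g.c = 0 := Iff.rfl

/-- The subgroup `c = κ s`. -/
def subM (κ : K) : Subgroup (U4 K) where
  carrier := {g | g.c = κ * g.s}
  one_mem' := (mul_zero κ).symm
  mul_mem' {g h} hg hh := by
    show g.c + h.c = κ * (g.s + h.s)
    rw [show g.c = κ * g.s from hg, show h.c = κ * h.s from hh, mul_add]
  inv_mem' {g} hg := by
    show -g.c = κ * -g.s
    rw [show g.c = κ * g.s from hg, mul_neg]

theorem mem_subM {κ : K} {g : U4 K} : g ∈ subM κ ↔ g.c = κ * g.s := Iff.rfl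

/-- The second abelian radical in characteristic 2. -/
def radB (K : Type*) [Field K] : Subgroup (U4 K) := subM 0

theorem mem_radB {g : U4 K} : g ∈ radB K ↔ g.c = 0 := by simp [radB, mem_subM]

variable (e : U4 K ≃* S)

/-- An element of `S` from its coordinates. -/
def el (g : U4 K) : Ω := (e g : Ω)

/-- The coordinates of an element of `S`. -/
def co {x : Ω} (hx : x ∈ S) : U4 K := e.symm ⟨x, hx⟩

/-- A subgroup of `S` from its coordinates. -/
def img (H : Subgroup (U4 K)) : Subgroup Ω := H.map (S.subtype.comp e.toMonoidHom)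

theorem el_mem (g : U4 K) : el e g ∈ S := (e g).2

theorem el_mul (g h : U4 K) : el e (g * h) = el e g * el e h :=
  congrArg Subtype.val (map_mul e g h)

theorem el_inv (g : U4 K) : el e g⁻¹ = (el e g)⁻¹ := congrArg Subtype.val (map_inv e g)

theorem el_one : el e (1 : U4 K) = 1 := congrArg Subtype.val (map_one e)

theorem el_inj {g h : U4 K} : el e g = el e h ↔ g = h :=
  ⟨fun he => e.injective (Subtype.ext he), fun he => he ▸ rfl⟩

theorem el_co {x : Ω} (hx : x ∈ S) : el e (co e hx) = x :=
  congrArg Subtype.val (e.apply_symm_apply ⟨x, hx⟩)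

theorem exists_el {x : Ω} (hx : x ∈ S) : ∃ g, el e g = x := ⟨_, el_co e hx⟩

theorem el_mem_img {H : Subgroup (U4 K)} {g : U4 K} : el e g ∈ img e H ↔ g ∈ H := by
  refine ⟨fun h => ?_, fun h => ⟨g, h, rfl⟩⟩
  obtain ⟨g', hg', he⟩ := h
  rw [(el_inj e).1 he.symm]
  exact hg'

theorem img_le (H : Subgroup (U4 K)) : img e H ≤ S := by
  rintro _ ⟨g, -, rfl⟩
  exact el_mem e g

theorem exists_el_of_img {H : Subgroup (U4 K)} {x : Ω} (hx : x ∈ img e H) :
    ∃ g ∈ H, el e g = x := hx

theorem commute_el {g h : U4 K} : el e g * el e h = el e h * el e g ↔ g * h = h * g := by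
  rw [← el_mul, ← el_mul, el_inj]

theorem el_mem_zc {g : U4 K} : el e g ∈ centralizerIn S S ↔ g ∈ Subgroup.center (U4 K) := by
  rw [mem_centralizerIn, Subgroup.mem_center_iff]
  refine ⟨fun h k => (commute_el e).1 (h.2 _ (el_mem e k)), fun h => ⟨el_mem e g, fun x hx => ?_⟩⟩
  obtain ⟨k, rfl⟩ := exists_el e hx
  exact (commute_el e).2 (h k)

include e in
theorem comm_of_comm {x y z : Ω} (hx : x ∈ S) (hxZ : x ∉ centralizerIn S S) (hy : y ∈ S)
    (hz : z ∈ S) (h1 : x * y = y * x) (h2 : x * z = z * x) : y * z = z * y := by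
  obtain ⟨g, rfl⟩ := exists_el e hx
  obtain ⟨h, rfl⟩ := exists_el e hy
  obtain ⟨k, rfl⟩ := exists_el e hz
  rw [el_mem_zc] at hxZ
  exact (commute_el e).2 (U4.comm_of_comm hxZ ((commute_el e).1 h1) ((commute_el e).1 h2))

theorem le_normalizer_img {H : Subgroup (U4 K)} (hH : H.Normal) :
    S ≤ Subgroup.normalizer (img e H : Set Ω) := by
  intro x hx
  obtain ⟨k, rfl⟩ := exists_el e hx
  rw [Subgroup.mem_normalizer_iff]
  intro y
  constructor
  · rintro ⟨g, hg, rfl⟩
    exact ⟨k * g * k⁻¹, hH.conj_mem g hg k, by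
      show el e (k * g * k⁻¹) = el e k * el e g * (el e k)⁻¹
      rw [el_mul, el_mul, el_inv]⟩
  · rintro ⟨g, hg, he⟩
    have he' : el e g = el e k * y * (el e k)⁻¹ := he
    refine ⟨k⁻¹ * g * k, by simpa using hH.conj_mem g hg k⁻¹, ?_⟩
    show el e (k⁻¹ * g * k) = y
    rw [el_mul, el_mul, el_inv, he']
    group

/-- A noncentral element outside the radical. -/
def sigOne : U4 K := U4.sig 1

theorem sigOne_notMem : (sigOne : U4 K) ∉ Subgroup.center (U4 K) := fun h => by
  rw [U4.mem_center] at h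
  exact one_ne_zero h.1

theorem radA_normal : (U4.radA K).Normal :=
  ⟨fun g hg k => by rw [U4.mem_radA] at hg ⊢; simp [hg]⟩

theorem subM_normal (κ : K) : (subM κ).Normal :=
  ⟨fun g hg k => by rw [mem_subM] at hg ⊢; simp [hg]⟩

theorem radW_normal : (radW K).Normal :=
  ⟨fun g hg k => by rw [mem_radW] at hg ⊢; simp [hg.1, hg.2]⟩

/-! ### The core -/

variable [Finite S] [Fact p.Prime]

include e in
/-- A system that is not constrained has central core. -/
theorem core_le_center (hS : IsPGroup p S) (hF : F.IsSaturated p) (hnc : ¬ F.IsConstrained p) :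
    F.core ≤ centralizerIn S S := by
  set X := F.core with hX
  have hXn : F.IsNormal X := isNormal_core F
  by_contra hle
  obtain ⟨x, hx, hxZ⟩ := SetLike.not_le_iff_exists.1 hle
  set C := centralizerIn S X with hC
  have hcl : F.StronglyClosed C := by
    refine ⟨centralizerIn_le S X, fun R hR φ hφ r => mem_centralizerIn.2 ⟨apply_mem hφ r, ?_⟩⟩
    intro y hy
    obtain ⟨ψ, -, hψ, hψX⟩ := hXn.2 R φ hφ
    obtain ⟨⟨z, hz⟩, hzX, rfl⟩ := hψX.ge hy
    rw [← hψ r, ← map_mul, ← map_mul]
    exact congrArg ψ (Subtype.ext ((mem_centralizerIn.1 (hR r.2)).2 z hzX))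
  have hab : IsMulCommutative C := by
    refine ⟨⟨fun a b => Subtype.ext ?_⟩⟩
    exact comm_of_comm e (hXn.1 hx) hxZ (mem_centralizerIn.1 a.2).1 (mem_centralizerIn.1 b.2).1
      ((mem_centralizerIn.1 a.2).2 x hx) ((mem_centralizerIn.1 b.2).2 x hx)
  exact hnc (ConstrainedExtensions.isConstrained_of_normal_core hF hXn
    (le_core (isNormal_of_abelian hS hF hcl hab)))

/-! ### Chains in a centric radical subgroup -/

/-- A normalized subgroup stabilising an invariant series of a centric radical `R` lies in `R`. -/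
theorem le_of_series (hS : IsPGroup p S) {R Q : Subgroup Ω} (hQS : Q ≤ S)
    (hQn : S ≤ Subgroup.normalizer (Q : Set Ω)) (hc : F.IsCentric R) (hr : F.IsRadical p R)
    (T : ℕ → Subgroup R) (hT : ∀ a ∈ F.autGroup R, ∀ i, ∀ x ∈ T i, a x ∈ T i) (hT0 : T 0 = ⊥)
    {m : ℕ} (hTm : T m = ⊤)
    (h : ∀ g ∈ Q, ∀ (hg : g ∈ Subgroup.normalizer (R : Set Ω)), ∀ i, ∀ x ∈ T (i + 1),
      x⁻¹ * conjAut hg x ∈ T i) : Q ≤ R := by
  have := finite_of_le (Ω := Ω) hc.1
  have hT' : ∀ (a : F.autGroup R) (i : ℕ), ∀ x ∈ T i, (a : MulAut R) x ∈ T i := fun a => hT a a.2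
  have := seriesStabilizer_normal (F.autGroup R) T hT'
  exact le_of_autInducedBy_le hS hQS hQn hc hr (seriesStabilizer (F.autGroup R) T hT')
    (isPGroup_seriesStabilizer (hS.to_le hc.1) _ T hT' hT0 hTm) fun g hg hgN hm => h g hg hgN

/-- The special case of a series with one middle term. -/
theorem le_of_series₁ (hS : IsPGroup p S) {R Q : Subgroup Ω} (hQS : Q ≤ S)
    (hQn : S ≤ Subgroup.normalizer (Q : Set Ω)) (hc : F.IsCentric R) (hr : F.IsRadical p R)
    (V : Subgroup R) (hV : ∀ a ∈ F.autGroup R, ∀ x ∈ V, a x ∈ V)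
    (hfix : ∀ g ∈ Q, ∀ x : R, x ∈ V → g * (x : Ω) = (x : Ω) * g)
    (hcomm : ∀ g ∈ Q, ∀ (hg : g ∈ Subgroup.normalizer (R : Set Ω)), ∀ x : R,
      x⁻¹ * conjAut hg x ∈ V) : Q ≤ R := by
  refine le_of_series hS hQS hQn hc hr (fun i => if i = 0 then ⊥ else if i = 1 then V else ⊤) ?_
    rfl (m := 2) rfl ?_
  · intro a ha i x hx
    rcases i with - | - | i
    · simp only [↓reduceIte, Subgroup.mem_bot] at hx ⊢
      rw [hx, map_one]
    · exact hV a ha x hx
    · exact Subgroup.mem_top _
  · intro g hg hgN i x hx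
    rcases i with - | i
    · show x⁻¹ * conjAut hgN x = 1
      rw [inv_mul_eq_one]
      exact Subtype.ext (show (x : Ω) = g * x * g⁻¹ by rw [hfix g hg x hx, mul_inv_cancel_right])
    · rcases i with - | i
      · exact hcomm g hg hgN x
      · exact Subgroup.mem_top _

theorem zc_le_of_centric {R : Subgroup Ω} (hc : F.IsCentric R) : centralizerIn S S ≤ R :=
  fun _ hz => isCentric_centralizerIn_le hc (mem_centralizerIn.2
    ⟨(mem_centralizerIn.1 hz).1, fun r hr => (mem_centralizerIn.1 hz).2 r (hc.1 hr)⟩)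

include e in
/-- In a centric nonabelian subgroup the centre of `S` is invariant. -/
theorem zc_invariant_of_nonabelian {R : Subgroup Ω} (hR : R ≤ S)
    (hab : ¬ ∀ x ∈ R, ∀ y ∈ R, x * y = y * x) (a : MulAut R) (z : R)
    (hz : (z : Ω) ∈ centralizerIn S S) : ((a z : R) : Ω) ∈ centralizerIn S S := by
  by_contra haz
  refine hab fun x hx y hy => comm_of_comm e (hR (a z).2) haz (hR hx) (hR hy) ?_ ?_
  all_goals
    first
      | (obtain ⟨w, hw⟩ := a.surjective ⟨x, hx⟩
         have h := congrArg (fun t : R => ((a t : R) : Ω))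
           (show z * w = w * z from Subtype.ext ((mem_centralizerIn.1 hz).2 _ (hR w.2)).symm)
         simp only [map_mul, hw, Subgroup.coe_mul] at h
         exact h)
      | (obtain ⟨w, hw⟩ := a.surjective ⟨y, hy⟩
         have h := congrArg (fun t : R => ((a t : R) : Ω))
           (show z * w = w * z from Subtype.ext ((mem_centralizerIn.1 hz).2 _ (hR w.2)).symm)
         simp only [map_mul, hw, Subgroup.coe_mul] at h
         exact h)

include e in
/-- In characteristic 2, if the centre of `S` is invariant the radical is `S`. -/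
theorem eq_top_of_invariant (hS : IsPGroup p S) (h2 : (2 : K) = 0) {R : Subgroup Ω}
    (hc : F.IsCentric R) (hr : F.IsRadical p R)
    (hinv : ∀ a ∈ F.autGroup R, ∀ z : R, (z : Ω) ∈ centralizerIn S S →
      ((a z : R) : Ω) ∈ centralizerIn S S) : R = S := by
  refine le_antisymm hc.1 (le_of_series₁ hS le_rfl Subgroup.le_normalizer hc hr
    ((centralizerIn S S).subgroupOf R) hinv (fun g hg x hx => (mem_centralizerIn.1 hx).2 g hg)
    fun g hg hgN x => ?_)
  show (x : Ω)⁻¹ * (g * x * g⁻¹) ∈ centralizerIn S S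
  obtain ⟨k, rfl⟩ := exists_el e hg
  obtain ⟨h, hh⟩ := exists_el e (hc.1 x.2)
  rw [← hh, ← el_inv, ← el_inv, ← el_mul, ← el_mul, ← el_mul, el_mem_zc, U4.mem_center]
  refine ⟨by simp, by simp, by rw [h2, zero_mul]⟩

include e in
/-- The centric radical subgroups. -/
theorem radical_cases (hS : IsPGroup p S) (hF : F.IsSaturated p) (hcore : F.core ≠ ⊥)
    (hnc : ¬ F.IsConstrained p) {R : Subgroup Ω} (hn : F.IsFullyNormalized R)
    (hc : F.IsCentric R) (hr : F.IsRadical p R) :
    R = S ∨ R = img e (U4.radA K) ∨ ((2 : K) = 0 ∧ R = img e (radB K)) ∨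
      ((2 : K) ≠ 0 ∧ ∃ κ, R = img e (subM κ)) := by
  classical
  have hRS := hc.1
  have := finite_of_le (Ω := Ω) hRS
  have hcen := isCentric_centralizerIn_le hc
  have hZR := zc_le_of_centric hc
  by_cases hab : ∀ x ∈ R, ∀ y ∈ R, x * y = y * x
  swap
  · -- nonabelian
    have hinv : ∀ a ∈ F.autGroup R, ∀ z : R, (z : Ω) ∈ centralizerIn S S →
        ((a z : R) : Ω) ∈ centralizerIn S S :=
      fun a _ z hz => zc_invariant_of_nonabelian e hRS hab a z hz
    by_cases h2 : (2 : K) = 0
    · exact Or.inl (eq_top_of_invariant e hS h2 hc hr hinv)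
    by_cases hsp : ∃ r₁ r₂, el e r₁ ∈ R ∧ el e r₂ ∈ R ∧ r₁.s * r₂.c ≠ r₂.s * r₁.c
    · -- the second centre is invariant
      obtain ⟨r₁, r₂, hr₁, hr₂, hne⟩ := hsp
      left
      have hWiff : ∀ x : R, (x : Ω) ∈ img e (radW K) ↔
          ∀ y : R, ((x * y * x⁻¹ * y⁻¹ : R) : Ω) ∈ centralizerIn S S := by
        intro x
        obtain ⟨g, hg⟩ := exists_el e (hRS x.2)
        rw [← hg, el_mem_img, mem_radW]
        constructor
        · rintro ⟨h1, h3⟩ y
          obtain ⟨h, hh⟩ := exists_el e (hRS y.2)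
          simp only [Subgroup.coe_mul, InvMemClass.coe_inv]
          rw [← hh, ← hg, ← el_inv, ← el_inv, ← el_mul, ← el_mul, ← el_mul, el_mem_zc,
            U4.mem_center]
          simp [h1, h3]
        · intro h
          have key : ∀ r, el e r ∈ R → g.s * r.c = r.s * g.c := by
            intro r hr'
            have := h ⟨_, hr'⟩
            simp only [Subgroup.coe_mul, InvMemClass.coe_inv] at this
            rw [← hg, ← el_inv, ← el_inv, ← el_mul, ← el_mul, ← el_mul, el_mem_zc,
              U4.mem_center] at this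
            have := (mul_eq_zero.1 this.2.2).resolve_left h2
            simp at this
            linear_combination this
          have k1 := key r₁ hr₁
          have k2 := key r₂ hr₂
          have hd : r₁.s * r₂.c - r₂.s * r₁.c ≠ 0 := sub_ne_zero.2 hne
          refine ⟨(mul_eq_zero.1 (show g.s * (r₁.s * r₂.c - r₂.s * r₁.c) = 0 by
              linear_combination r₁.s * k2 - r₂.s * k1)).resolve_right hd,
            (mul_eq_zero.1 (show g.c * (r₁.s * r₂.c - r₂.s * r₁.c) = 0 by
              linear_combination r₁.c * k2 - r₂.c * k1)).resolve_right hd⟩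
      refine le_antisymm hRS (le_of_series hS le_rfl Subgroup.le_normalizer hc hr
        (fun i => if i = 0 then ⊥ else if i = 1 then (centralizerIn S S).subgroupOf R
          else if i = 2 then (img e (radW K)).subgroupOf R else ⊤) ?_ rfl (m := 3) rfl ?_)
      · intro a ha i x hx
        rcases i with - | - | - | i
        · simp only [↓reduceIte, Subgroup.mem_bot] at hx ⊢
          rw [hx, map_one]
        · exact hinv a ha x hx
        · refine (hWiff (a x)).2 fun y => ?_
          obtain ⟨w, rfl⟩ := a.surjective y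
          rw [← map_inv, ← map_inv, ← map_mul, ← map_mul, ← map_mul]
          exact hinv a ha _ ((hWiff x).1 hx w)
        · exact Subgroup.mem_top _
      · intro g hg hgN i x hx
        obtain ⟨k, rfl⟩ := exists_el e hg
        obtain ⟨h, hh⟩ := exists_el e (hRS x.2)
        have hval : ((x⁻¹ * conjAut hgN x : R) : Ω) = el e (h⁻¹ * (k * h * k⁻¹)) := by
          show (x : Ω)⁻¹ * (el e k * x * (el e k)⁻¹) = _
          rw [← hh, ← el_inv, ← el_inv, ← el_mul, ← el_mul, ← el_mul]
        rcases i with - | - | - | i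
        · show x⁻¹ * conjAut hgN x = 1
          rw [inv_mul_eq_one]
          refine Subtype.ext (show (x : Ω) = el e k * x * (el e k)⁻¹ from ?_)
          rw [(mem_centralizerIn.1 (show (x : Ω) ∈ centralizerIn S S from hx)).2 _ hg,
            mul_inv_cancel_right]
        · show ((x⁻¹ * conjAut hgN x : R) : Ω) ∈ centralizerIn S S
          have hx' : (x : Ω) ∈ img e (radW K) := hx
          rw [← hh, el_mem_img, mem_radW] at hx'
          rw [hval, el_mem_zc, U4.mem_center]
          simp [hx'.1, hx'.2]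
          exact Or.inr (by ring)
        · show ((x⁻¹ * conjAut hgN x : R) : Ω) ∈ img e (radW K)
          rw [hval, el_mem_img, mem_radW]
          simp
        · exact Subgroup.mem_top _
    · -- the `(s, c)`-image lies on a line
      push Not at hsp
      refine Or.inr (Or.inr (Or.inr ⟨h2, ?_⟩))
      obtain ⟨r₀, hr₀, hs₀⟩ : ∃ r, el e r ∈ R ∧ r.s ≠ 0 := by
        by_contra hcon
        push Not at hcon
        refine hab fun x hx y hy => ?_
        obtain ⟨g, rfl⟩ := exists_el e (hRS hx)
        obtain ⟨h, rfl⟩ := exists_el e (hRS hy)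
        rw [commute_el, U4.comm_iff, hcon g hx, hcon h hy]
        constructor <;> ring
      refine ⟨r₀.c / r₀.s, ?_⟩
      have hle : R ≤ img e (subM (r₀.c / r₀.s)) := fun x hx => by
        obtain ⟨g, rfl⟩ := exists_el e (hRS hx)
        rw [el_mem_img, mem_subM]
        have := hsp r₀ g hr₀ hx
        field_simp
        linear_combination this
      refine le_antisymm hle (le_of_series₁ hS (img_le e _)
        (le_normalizer_img e (subM_normal _)) hc hr ((centralizerIn S S).subgroupOf R) hinv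
        (fun g hg x hx => (mem_centralizerIn.1 hx).2 g (img_le e _ hg)) fun g hg hgN x => ?_)
      show (x : Ω)⁻¹ * (g * x * g⁻¹) ∈ centralizerIn S S
      obtain ⟨k, hk, rfl⟩ := exists_el_of_img e hg
      obtain ⟨h, hh, hhx⟩ := exists_el_of_img e (hle x.2)
      rw [← hhx, ← el_inv, ← el_inv, ← el_mul, ← el_mul, ← el_mul, el_mem_zc, U4.mem_center]
      rw [mem_subM] at hk hh
      refine ⟨by simp, by simp, ?_⟩
      simp [hk, hh]
      exact Or.inr (by ring)
  -- abelian
  have hexZ : ∃ x, el e x ∈ R ∧ x ∉ Subgroup.center (U4 K) := by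
    by_contra hcon
    push Not at hcon
    have h1 : sigOne (K := K) ∉ Subgroup.center (U4 K) := sigOne_notMem
    refine h1 (hcon _ (hcen (mem_centralizerIn.2 ⟨el_mem e _, fun r hr' => ?_⟩)))
    obtain ⟨g, rfl⟩ := exists_el e (hRS hr')
    exact (commute_el e).2 ((Subgroup.mem_center_iff.1 (hcon g hr')) _).symm
  obtain ⟨x, hxR, hxZ⟩ := hexZ
  have hRC : ∀ g, el e g ∈ R ↔ x * g = g * x := by
    intro g
    refine ⟨fun hg => (commute_el e).1 (hab _ hxR _ hg), fun hg => ?_⟩
    refine hcen (mem_centralizerIn.2 ⟨el_mem e _, fun r hr' => ?_⟩)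
    obtain ⟨h, rfl⟩ := exists_el e (hRS hr')
    exact (commute_el e).2 (U4.comm_of_comm hxZ ((commute_el e).1 (hab _ hxR _ hr')) hg)
  by_cases hA : ∃ y, el e y ∈ R ∧ y ∉ Subgroup.center (U4 K) ∧ y.s = 0
  · obtain ⟨y, hyR, hyZ, hys⟩ := hA
    refine Or.inr (Or.inl ?_)
    have hRA : ∀ g, el e g ∈ R ↔ g.s = 0 := by
      intro g
      rw [hRC, ← U4.comm_radA_iff hys hyZ]
      exact ⟨fun h => U4.comm_of_comm hxZ ((hRC y).1 hyR) h,
        fun h => U4.comm_of_comm hyZ ((hRC y).1 hyR).symm h⟩
    refine le_antisymm (fun z hz => ?_) (fun z hz => ?_)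
    · obtain ⟨g, rfl⟩ := exists_el e (hRS hz)
      exact (el_mem_img e).2 ((hRA g).1 hz)
    · obtain ⟨g, hg, rfl⟩ := exists_el_of_img e hz
      exact (hRA g).2 hg
  push Not at hA
  have hxs : x.s ≠ 0 := hA x hxR hxZ
  have hsZ : ∀ g, el e g ∈ R → g.s = 0 → g ∈ Subgroup.center (U4 K) := fun g hg hs => by
    by_contra hgZ
    exact hA g hg hgZ hs
  by_cases h2 : (2 : K) = 0
  · by_cases hxc : x.c = 0
    · refine Or.inr (Or.inr (Or.inl ⟨h2, ?_⟩))
      have hRB : ∀ g, el e g ∈ R ↔ g.c = 0 := by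
        intro g
        rw [hRC, U4.comm_iff, h2, hxc]
        refine ⟨fun h => (mul_eq_zero.1 (show x.s * g.c = 0 by linear_combination h.2)).resolve_left hxs,
          fun h => by rw [h]; constructor <;> ring⟩
      refine le_antisymm (fun z hz => ?_) (fun z hz => ?_)
      · obtain ⟨g, rfl⟩ := exists_el e (hRS hz)
        exact (el_mem_img e).2 (mem_radB.2 ((hRB g).1 hz))
      · obtain ⟨g, hg, rfl⟩ := exists_el_of_img e hz
        exact (hRB g).2 (mem_radB.1 hg)
    · -- the squares determine the centre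
      left
      refine eq_top_of_invariant e hS h2 hc hr fun a _ z hz => ?_
      have hsq : ∀ r : R, (r : Ω) ∈ centralizerIn S S ↔ r * r = 1 := by
        intro r
        obtain ⟨g, hg⟩ := exists_el e (hRS r.2)
        rw [← hg, el_mem_zc, U4.mem_center, Subtype.ext_iff, Subgroup.coe_mul, ← hg, ← el_mul,
          Subgroup.coe_one, ← el_one e, el_inj]
        constructor
        · rintro ⟨h1, h3, -⟩
          ext
          · simp [h1]
          · simp [h1, ← two_mul, h2]
          · simp [h1, ← two_mul, h2]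
          · simp [h3]
        · intro h
          have hb := congrArg U4.b h
          simp [← two_mul, h2] at hb
          have hsc := ((U4.comm_iff x g).1 ((hRC g).1 (hg ▸ r.2))).2
          rcases hb with hb | hb
          · refine ⟨hb, ?_, by rw [h2, zero_mul]⟩
            rw [hb, zero_mul] at hsc
            exact (mul_eq_zero.1 hsc).resolve_left hxs
          · refine ⟨?_, hb, by rw [h2, zero_mul]⟩
            rw [hb, mul_zero] at hsc
            exact (mul_eq_zero.1 hsc.symm).resolve_right hxc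
      rw [hsq, ← map_mul, (hsq z).1 hz, map_one]
  · -- odd characteristic
    exfalso
    obtain ⟨w, hw, hw1⟩ := F.core.bot_or_exists_ne_one.resolve_left hcore
    have hXZ := core_le_center e hS hF hnc
    have hXR : F.core ≤ R := le_of_isNormal hS (isNormal_core F) hc hr
    have hW : ∀ g, g ∈ radW K → el e g ∈ Subgroup.normalizer (R : Set Ω) := by
      intro g hg
      rw [mem_radW] at hg
      have key : ∀ k, k ∈ radW K → ∀ r ∈ R, el e k * r * (el e k)⁻¹ ∈ R := by
        intro k hk r hr'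
        rw [mem_radW] at hk
        obtain ⟨h, rfl⟩ := exists_el e (hRS hr')
        have hz : el e (h⁻¹ * (k * h * k⁻¹)) ∈ centralizerIn S S := by
          rw [el_mem_zc, U4.mem_center]
          simp [hk.1, hk.2]
        have := R.mul_mem hr' (hZR hz)
        rwa [← el_mul, mul_inv_cancel_left, el_mul, el_mul, el_inv] at this
      rw [Subgroup.mem_normalizer_iff]
      refine fun r => ⟨key g (mem_radW.2 hg) r, fun h => ?_⟩
      have := key g⁻¹ ((radW K).inv_mem (mem_radW.2 hg)) _ h
      rw [el_inv] at this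
      simpa [mul_assoc] using this
    obtain ⟨-, Y, hY⟩ := isFullyAutomized_of_fullyNormalized hS hF hn
    have hYmem : ∀ b : F.autGroup R, b ∈ Y → ∃ y ∈ S, ∀ v : R, (((b : MulAut R) v : R) : Ω) =
        y * v * y⁻¹ := by
      intro b hb
      change b ∈ (Y : Subgroup (F.autGroup R)) at hb
      rw [hY] at hb
      exact mem_autInducedBy_iff.1 (Subgroup.mem_subgroupOf.1 hb)
    have hinv := CommonFixed.apply_mem (hS.to_le hRS) (F.autGroup R) Y
      ((centralizerIn S S).subgroupOf R) ?_ ?_ ?_ ?_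
    · -- then `W` lies in `R`
      have hWR : img e (radW K) ≤ R := by
        refine le_of_series₁ hS (img_le e _) (le_normalizer_img e radW_normal) hc hr
          ((centralizerIn S S).subgroupOf R) (fun a ha z hz => hinv ⟨a, ha⟩ z hz)
          (fun g hg y hy => (mem_centralizerIn.1 hy).2 g (img_le e _ hg)) fun g hg hgN y => ?_
        obtain ⟨k, hk, rfl⟩ := exists_el_of_img e hg
        obtain ⟨h, hh⟩ := exists_el e (hRS y.2)
        rw [mem_radW] at hk
        show (y : Ω)⁻¹ * (el e k * y * (el e k)⁻¹) ∈ centralizerIn S S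
        rw [← hh, ← el_inv, ← el_inv, ← el_mul, ← el_mul, ← el_mul, el_mem_zc, U4.mem_center]
        simp [hk.1, hk.2]
      have h1 := hsZ (U4.vec (0, 1, 0)) (hWR ((el_mem_img e).2 ⟨rfl, rfl⟩)) rfl
      rw [U4.mem_center] at h1
      simp [h2] at h1
    · intro z hz b hb
      obtain ⟨y, hy, hyx⟩ := hYmem b hb
      refine Subtype.ext ?_
      rw [hyx, (mem_centralizerIn.1 (show (z : Ω) ∈ centralizerIn S S from hz)).2 y hy,
        mul_inv_cancel_right]
    · intro v hv z hz
      obtain ⟨g, hg⟩ := exists_el e (hRS v.2)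
      obtain ⟨k, hk⟩ := exists_el e (hRS z.2)
      have hgs : g.s ≠ 0 := fun h => hv (show (v : Ω) ∈ _ from hg ▸ (el_mem_zc e).2
        (hsZ g (hg ▸ v.2) h))
      have hkZ : el e k ∈ centralizerIn S S := hk ▸ hz
      rw [el_mem_zc, U4.mem_center] at hkZ
      set y := U4.vec ((0 : K), -k.a / (2 * g.s), (0 : K)) with hy
      have hyN := hW y ⟨rfl, rfl⟩
      refine ⟨⟨conjAut hyN, autInducedBy_le_autGroup F hRS
        (conjAut_mem_autInducedBy (el_mem e y) hyN)⟩, ?_, Subtype.ext ?_⟩
      · show _ ∈ (Y : Subgroup (F.autGroup R))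
        rw [hY]
        exact conjAut_mem_autInducedBy (el_mem e y) hyN
      · show el e y * (v : Ω) * (el e y)⁻¹ = (v : Ω) * (z : Ω)
        rw [← hg, ← hk, ← el_inv, ← el_mul, ← el_mul, ← el_mul, el_inj]
        have hkb := (mul_eq_zero.1 hkZ.2.2).resolve_left h2
        ext <;> simp [y, hkZ.1, hkZ.2.1, hkb]
        field_simp
    · intro b hb v
      obtain ⟨y, hy, hyx⟩ := hYmem b hb
      show (((v⁻¹ * (b : MulAut R) v : R)) : Ω) ∈ centralizerIn S S
      obtain ⟨g, hg⟩ := exists_el e hy
      obtain ⟨h, hh⟩ := exists_el e (hRS v.2)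
      have hval : ((v⁻¹ * (b : MulAut R) v : R) : Ω) = el e (h⁻¹ * (g * h * g⁻¹)) := by
        rw [Subgroup.coe_mul, InvMemClass.coe_inv, hyx, ← hg, ← hh, ← el_inv, ← el_inv,
          ← el_mul, ← el_mul, ← el_mul]
      rw [hval, el_mem_zc]
      exact hsZ _ (hval ▸ (v⁻¹ * (b : MulAut R) v).2) (by simp)
    · rintro ⟨a, ha⟩
      refine ⟨⟨w, hXR hw⟩, hXZ hw, hXZ ?_, fun h => hw1 (congrArg Subtype.val h)⟩
      exact apply_mem_of_stronglyClosed (stronglyClosed_of_isNormal (isNormal_core F)) hRS ha hw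

end Cfsg.Agent.Fusion.SpFour
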