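import Cfsg.Agent.Lib.Fusion.SpFour.SmallCore

/-!
At most four elements: standard coordinates, and a system in standard coordinates is determined
by the scalars it induces on the first axis.
-/

set_option autoImplicit false
set_option linter.unusedSectionVars false

namespace Cfsg.Agent.Fusion.SpFour

open Cfsg Cfsg.FusionSystem

universe u

variable {K : Type*} [Field K] [Fintype K] [CharP K 2] [Fact (Nat.Prime 2)]
variable {Ω : Type u} [Group Ω] {S : Subgroup Ω} {F F' : FusionSystem S} [Finite S]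

/-- The standard form on one abelian radical. -/
def StdA (F : FusionSystem S) (e : U4 K ≃* S) : Prop :=
  (∃ w : fixCore F (img e (U4.radA K)), ∀ a b c, repA e F w (a, b, c) = (a, c, b)) ∧
    ∀ (g : fixCore F (img e (U4.radA K))) (l : K) (a b c : K),
      (repA e F g (a, l * b, l * c)).2 = l • (repA e F g (a, b, c)).2

/-- The standard form. -/
structure Std (hK : Fintype.card K ≤ 4) (F : FusionSystem S) (e : U4 K ≃* S) : Prop where
  core_eq : F.core = img e (radZa K)
  stdA : StdA F e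
  stdB : StdA F ((U4.deltaIso hK).trans e)

/-- The scalars induced on the first axis. -/
def CSet (F : FusionSystem S) (e : U4 K ≃* S) : Set K :=
  {l | ∃ α ∈ F.autGroup S, ∀ x, pull e α (U4.vec (x, 0, 0)) = U4.vec (l * x, 0, 0)}

/-! ### Changes of coordinates -/

theorem img_deltaIso_radA (hK : Fintype.card K ≤ 4) (e : U4 K ≃* S) :
    img ((U4.deltaIso hK).trans e) (U4.radA K) = img e (radB K) :=
  img_trans e _ fun g => by rw [mem_radB, U4.mem_radA]; exact U4.deltaIso_c hK g

theorem el_deltaIso_za (hK : Fintype.card K ≤ 4) (e : U4 K ≃* S) (a : K) :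
    el ((U4.deltaIso hK).trans e) (U4.vec (a, 0, 0)) = el e (U4.vec (a, 0, 0)) := by
  show el e (U4.deltaIso hK (U4.vec (a, 0, 0))) = _
  rw [U4.deltaIso_vec_za]

omit [Fintype K] [CharP K 2] [Fact (Nat.Prime 2)] [Finite S] in
theorem img_za_congr {e e' : U4 K ≃* S}
    (h : ∀ a, el e' (U4.vec (a, 0, 0)) = el e (U4.vec (a, 0, 0))) :
    img e' (radZa K) = img e (radZa K) := by
  refine le_antisymm (fun y hy => ?_) fun y hy => ?_ <;>
    obtain ⟨g, hg, rfl⟩ := exists_el_of_img _ hy <;> rw [eq_vec_of_mem_radZa hg]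
  · rw [h, el_mem_img]; exact vec_mem_radZa _
  · rw [← h, el_mem_img]; exact vec_mem_radZa _

omit [Fintype K] [CharP K 2] [Fact (Nat.Prime 2)] [Finite S] in
theorem img_radA_congr {e e' : U4 K ≃* S} (h : ∀ v, el e' (U4.vec v) = el e (U4.vec v)) :
    img e' (U4.radA K) = img e (U4.radA K) := by
  refine le_antisymm (fun y hy => ?_) fun y hy => ?_ <;>
    obtain ⟨g, hg, rfl⟩ := exists_el_of_img _ hy <;> rw [U4.eq_vec hg]
  · rw [h, el_mem_img]; rfl
  · rw [← h, el_mem_img]; rfl

omit [Fintype K] [CharP K 2] [Fact (Nat.Prime 2)] [Finite S] in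
theorem stdA_congr {e e' : U4 K ≃* S} (h : ∀ v, el e' (U4.vec v) = el e (U4.vec v))
    (hs : StdA F e) : StdA F e' := by
  obtain ⟨⟨w, hw⟩, hlin⟩ := hs
  obtain ⟨w', hw'⟩ := exists_coords e' e (img_radA_congr h).symm id (fun v => (h v).symm) w
  refine ⟨⟨w', fun a b c => (hw' (a, b, c)).symm.trans (hw a b c)⟩, fun g l a b c => ?_⟩
  obtain ⟨g', hg'⟩ := exists_coords e e' (img_radA_congr h) id h g
  have e1 : ∀ v, repA e' F g v = repA e F g' v := hg'
  rw [e1, e1]
  exact hlin g' l a b c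

theorem el_twist (δ ε : K →+ K) (e : U4 K ≃* S) (v : K × K × K) :
    el ((U4.twistIso δ ε).trans e) (U4.vec v) = el e (U4.vec (Module.shear δ ε v)) := rfl

theorem twistIso_of_c {δ ε : K →+ K} {g : U4 K} (hg : g.c = 0) : U4.twistIso δ ε g = g := by
  rw [U4.twistIso_apply]; ext <;> simp [hg]

variable (hS : IsPGroup 2 S) (hF : F.IsSaturated 2) (hX : F.core ≤ centralizerIn S S)
include hS hF hX

/-- A shear makes one radical standard. -/
theorem exists_twist (e : U4 K ≃* S) (hK : Fintype.card K ≤ 4)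
    (hx : el e (U4.vec (1, 0, 0)) ∈ F.core) (hr : F.IsRadical 2 (img e (U4.radA K))) :
    ∃ δ ε : K →+ K, StdA F ((U4.twistIso δ ε).trans e) := by
  have hn := isFullyNormalized_img_radA (F := F) e
  have := finite_of_le (Ω := Ω) hn.1
  have := finite_mulAut (Ω := Ω) hn.1
  obtain ⟨g₀, hg₀⟩ := exists_notMem_normalizer e hS hF hX hn hr
  obtain ⟨δ, ε, w, hw, hlin⟩ := Module.exists_std (hyp_repA e hS hF hX hn)
    (shapes_za e hS hF hX hx) (repA_fix_one e hx) hK hg₀
  set e' := (U4.twistIso δ ε).trans e with he'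
  have himg : img e' (U4.radA K) = img e (U4.radA K) :=
    img_trans e _ fun g => by rw [U4.mem_radA, U4.mem_radA]; rfl
  have hM : ∀ v, el e' (U4.vec v) = el e (U4.vec (Module.shear δ ε v)) := el_twist δ ε e
  have hM' : ∀ v, el e (U4.vec v) = el e' (U4.vec (Module.shear δ ε v)) := fun v => by
    rw [hM, Module.shear_shear]
  have key : ∀ (g : fixCore F (img e' (U4.radA K))) (g' : fixCore F (img e (U4.radA K))),
      (∀ v, Module.shear δ ε (repA e' F g v) = repA e F g' (Module.shear δ ε v)) →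
      ∀ v, repA e' F g v = Module.conjRep (repA e F) δ ε g' v := fun g g' h v => by
    rw [Module.conjRep_apply, ← h, Module.shear_shear]
  refine ⟨δ, ε, ?_, fun g l a b c => ?_⟩
  · obtain ⟨w', hw'⟩ := exists_coords e' e himg.symm _ hM' w
    refine ⟨w', fun a b c => ?_⟩
    refine (key w' w (fun v => ?_) _).trans (hw a b c)
    have := hw' (Module.shear δ ε v)
    rw [Module.shear_shear] at this
    rw [← this, Module.shear_shear]
  · obtain ⟨g', hg'⟩ := exists_coords e e' himg _ hM g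
    rw [key g g' hg', key g g' hg']
    exact hlin g' l a b c

/-- Standard coordinates exist. -/
theorem exists_std_form (e : U4 K ≃* S) (hK : Fintype.card K ≤ 4) (hnc : ¬ F.IsConstrained 2)
    (hcore : F.core ≠ ⊥) : ∃ e' : U4 K ≃* S, Std hK F e' := by
  obtain ⟨e₀, hx, hle⟩ := exists_za_coords e hS hF hX hK hnc hcore
  have hce := core_eq_za e₀ hS hF hX hx hK hnc hle
  obtain ⟨δ, ε, h2⟩ := exists_twist hS hF hX e₀ hK hx (both_radical e₀ hS hF hcore hnc).1
  set e₂ := (U4.twistIso δ ε).trans e₀ with he₂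
  have hza₂ : ∀ a, el e₂ (U4.vec (a, 0, 0)) = el e₀ (U4.vec (a, 0, 0)) := fun a => by
    rw [el_twist]; simp [Module.shear_apply]
  set eB := (U4.deltaIso hK).trans e₂ with heB
  have hrB : F.IsRadical 2 (img eB (U4.radA K)) :=
    (both_radical eB hS hF hcore hnc).1
  have hxB : el eB (U4.vec (1, 0, 0)) ∈ F.core := by
    rw [el_deltaIso_za, hza₂]; exact hx
  obtain ⟨δ', ε', hB⟩ := exists_twist hS hF hX eB hK hxB hrB
  set γ := U4.twistIso δ' ε' with hγ
  set e₃ := ((U4.deltaIso hK).symm.trans (γ.trans (U4.deltaIso hK))).trans e₂ with he₃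
  have hv : ∀ v, el e₃ (U4.vec v) = el e₂ (U4.vec v) := fun v => by
    show el e₂ (U4.deltaIso hK (γ ((U4.deltaIso hK).symm (U4.vec v)))) = _
    rw [hγ, twistIso_of_c, MulEquiv.apply_symm_apply]
    exact (U4.deltaIso_mem_radA hK _).1 (by rw [MulEquiv.apply_symm_apply]; rfl)
  refine ⟨e₃, ?_, stdA_congr hv h2, ?_⟩
  · rw [hce]
    exact (img_za_congr fun a => (hv _).trans (hza₂ a)).symm
  · have : (U4.deltaIso hK).trans e₃ = γ.trans eB := MulEquiv.ext fun x => by
      simp [he₃, heB, MulEquiv.trans_apply]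
    rw [this]
    exact hB

/-! ### The automizer of a standard radical -/

/-- On the first axis every automorphism of `S` is a scalar. -/
theorem exists_za_scalar (e : U4 K ≃* S) (hK : Fintype.card K ≤ 4) {α : MulAut S}
    (hα : α ∈ F.autGroup S) :
    ∃ l : K, l ≠ 0 ∧ ∀ x, pull e α (U4.vec (x, 0, 0)) = U4.vec (l * x, 0, 0) := by
  have h2 : (2 : K) = 0 := CharTwo.two_eq_zero
  have hshape : ∀ {β : MulAut S}, β ∈ F.autGroup S → ∃ (k : K) (φ : K ≃+* K), k ≠ 0 ∧
      ∀ x, pull e β (U4.vec (x, 0, 0)) = U4.vec (k * φ x, 0, 0) := by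
    intro β hβ
    obtain ⟨hz, hπ⟩ := pull_axes e hS hF hβ
    obtain ⟨φ₁, ω, φ, o₁, o₂, hs⟩ :=
      U4.exists_shape_two (pull e β) (pull_radA e hS hF hβ) h2 hz hπ
    obtain ⟨h0, h0'⟩ := U4.zero_of_shape hs
    rw [zero_add] at h0
    refine ⟨φ₁ ^ 2 * ω, φ, mul_ne_zero (pow_ne_zero 2 hs.1) hs.2.1, fun x => ?_⟩
    rw [hs.2.2.2, h0, h0']
    simp
  let M : Subgroup (F.autGroup S) :=
    { carrier := {a | ∃ l : K, l ≠ 0 ∧
        ∀ x, pull e (a : MulAut S) (U4.vec (x, 0, 0)) = U4.vec (l * x, 0, 0)}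
      one_mem' := ⟨1, one_ne_zero, fun x => by simp [pull]⟩
      mul_mem' := fun {a b} ⟨l, hl, ha⟩ ⟨m, hm, hb⟩ => ⟨l * m, mul_ne_zero hl hm, fun x => by
        rw [Subgroup.coe_mul, pull_mul_apply, hb, ha, mul_assoc]⟩
      inv_mem' := fun {a} ⟨l, hl, ha⟩ => ⟨l⁻¹, inv_ne_zero hl, fun x => by
        apply (pull e (a : MulAut S)).injective
        rw [← pull_mul_apply, Subgroup.coe_inv, mul_inv_cancel, ha, mul_inv_cancel_left₀ hl]
        simp [pull]⟩ }
  refine mem_of_sq_mem hS hF M (fun a ha => ⟨1, one_ne_zero, fun x => ?_⟩) ⟨α, hα⟩ ?_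
  · obtain ⟨y, hy⟩ := ha
    rw [← hy, pull_conj, U4.conj_vec]
    simp
  · obtain ⟨k, φ, hk, hφ⟩ := hshape hα
    refine ⟨k * φ k, mul_ne_zero hk ((map_ne_zero φ).2 hk), fun x => ?_⟩
    rw [pow_two, Subgroup.coe_mul, pull_mul_apply]
    show pull e α (pull e α (U4.vec (x, 0, 0))) = _
    rw [hφ, hφ, map_mul, Module.ringEquiv_sq_eq hK, mul_assoc]

variable (e : U4 K ≃* S) (hx : el e (U4.vec (1, 0, 0)) ∈ F.core) (hA : StdA F e)
include hx hA

/-- The automizer of a standard radical acts linearly. -/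
theorem repA_smul (hK : Fintype.card K ≤ 4) (g : fixCore F (img e (U4.radA K))) (l : K)
    (v : K × K × K) : repA e F g (l • v) = l • repA e F g v := by
  have hn := isFullyNormalized_img_radA (F := F) e
  have := finite_of_le (Ω := Ω) hn.1
  have := finite_mulAut (Ω := Ω) hn.1
  obtain ⟨⟨w, hw⟩, hlin⟩ := hA
  have hg := Module.mem_closure_std (hyp_repA e hS hF hX hn) (shapes_za e hS hF hX hx)
    (repA_za e hS hF hX hx hK) hlin hK hw g
  induction hg using Subgroup.closure_induction generalizing v with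
  | mem x hxm =>
    obtain ⟨a, b, c⟩ := v
    rcases hxm with rfl | ⟨s, rfl⟩
    · rw [show l • ((a, b, c) : K × K × K) = (l * a, l * b, l * c) from rfl, hw, hw]
      rfl
    · rw [show repA e F (sigG e hX s) (l • (a, b, c)) = Module.upper s (l • (a, b, c)) from
        actA_sigA e s _, show repA e F (sigG e hX s) (a, b, c) = Module.upper s (a, b, c) from
        actA_sigA e s _]
      refine Prod.ext ?_ (Prod.ext ?_ rfl) <;> simp [Module.upper] <;> ring
  | one => rw [map_one]; rfl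
  | mul a b _ _ ha hb => rw [Module.apply_mul, Module.apply_mul, hb, ha]
  | inv a _ ha =>
    have := ha (repA e F a⁻¹ v)
    rw [Module.cancel'] at this
    rw [← this, Module.cancel]

/-- The diagonal elements. -/
theorem exists_diag_elem (hK : Fintype.card K ≤ 4) {t : K} (ht : t ≠ 0) :
    ∃ D : fixCore F (img e (U4.radA K)),
      ∀ x y z, repA e F D (x, y, z) = (x, t * y, t ^ 2 * z) := by
  have h2 : (2 : K) = 0 := CharTwo.two_eq_zero
  obtain ⟨w, hw⟩ := hA.1
  have hσ : ∀ s v, repA e F (sigG e hX s) v = Module.upper s v := fun s v => actA_sigA e s v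
  have h3 : t ^ 3 = 1 := U4.pow_three_eq hK ht
  have hinv : t⁻¹ = t ^ 2 := inv_eq_of_mul_eq_one_right (by rw [← pow_succ']; exact h3)
  refine ⟨sigG e hX t * w * sigG e hX t⁻¹ * w * sigG e hX t * w, fun x y z => ?_⟩
  simp only [Module.apply_mul, hw, hσ, Module.upper, hinv]
  refine Prod.ext ?_ (Prod.ext ?_ ?_) <;> simp only []
  · linear_combination (z * (2 * t + t ^ 4) + y * (3 * t ^ 2 + t ^ 5)) * h2
  · linear_combination (z + t * y) * h3 + (z + t * y) * h2
  · linear_combination y * h3 + y * h2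

omit hS hF hX hx hA in
/-- Conjugation by an automorphism in coordinates. -/
theorem repA_conj_apply (h : F.autGroup (img e (U4.radA K))) (w g : fixCore F (img e (U4.radA K)))
    (hg : (g : F.autGroup (img e (U4.radA K))) = h * w * h⁻¹) (v : K × K × K) :
    repA e F g (actA e (h : MulAut _) v) = actA e (h : MulAut _) (repA e F w v) := by
  have e1 : ((g : F.autGroup (img e (U4.radA K))) : MulAut (img e (U4.radA K))) * (h : MulAut _) =
      (h : MulAut _) * ((w : F.autGroup (img e (U4.radA K))) : MulAut _) := by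
    rw [hg]; simp
  have e2 := congrArg (fun z => actA e z v) e1
  simp only [map_mul] at e2
  exact e2

/-- A normalising automorphism with equal weights is a scalar up to `fixCore`. -/
theorem exists_to_scalar (hK : Fintype.card K ≤ 4) (h : F.autGroup (img e (U4.radA K))) {l : K}
    (hl : l ≠ 0) (P Q : K → K) (hP0 : P 0 = 0) (hQ0 : Q 0 = 0)
    (hhv : ∀ x y z, actA e (h : MulAut _) (x, y, z) = l • ((x + P z, y + Q z, z) : K × K × K)) :
    ∃ g : fixCore F (img e (U4.radA K)), ∀ v, repA e F g (actA e (h : MulAut _) v) = l • v := by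
  have h2 : (2 : K) = 0 := CharTwo.two_eq_zero
  have hn := isFullyNormalized_img_radA (F := F) e
  have := finite_of_le (Ω := Ω) hn.1
  have := finite_mulAut (Ω := Ω) hn.1
  have H := hyp_repA e hS hF hX hn
  have hlinear := repA_smul hS hF hX e hx hA hK
  obtain ⟨w, hw⟩ := hA.1
  have hσ : ∀ s v, repA e F (sigG e hX s) v = Module.upper s v := fun s v => actA_sigA e s v
  haveI := fixCore_normal (F := F) (img_le e (U4.radA K))
  obtain ⟨g', hg'⟩ : ∃ g' : fixCore F (img e (U4.radA K)), g' =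
      ⟨h * (w : F.autGroup (img e (U4.radA K))) * h⁻¹, Subgroup.Normal.conj_mem inferInstance _ w.2 h⟩ := ⟨_, rfl⟩
  have hg'v : ∀ x y z, repA e F g' (x + P z, y + Q z, z) = (x + P y, z + Q y, y) := by
    intro x y z
    have e1 := repA_conj_apply e h w g' (by rw [hg']) (x, y, z)
    rw [hw, hhv, hhv, hlinear] at e1
    exact smul_right_injective (K × K × K) hl e1
  have hg'b : ∀ x y, repA e F g' (x, y, 0) = (x + P y, Q y, y) := fun x y => by
    simpa [hP0, hQ0] using hg'v x y 0
  have hlinb : ∀ y, P y = y * P 1 ∧ Q y = y * Q 1 := fun y => by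
    have e1 := hlinear g' y (0, 1, 0)
    rw [show y • (((0 : K), (1 : K), (0 : K)) : K × K × K) = (0, y, 0) by simp, hg'b, hg'b] at e1
    simp only [zero_add, Prod.smul_mk, smul_eq_mul, Prod.mk.injEq] at e1
    exact ⟨e1.1, e1.2.1⟩
  obtain ⟨r, hr⟩ : ∃ r, r = P 1 + Q 1 ^ 2 := ⟨_, rfl⟩
  obtain ⟨h', hh'⟩ : ∃ h' : F.autGroup (img e (U4.radA K)),
      h' = (sigG e hX (Q 1) : F.autGroup (img e (U4.radA K))) * h := ⟨_, rfl⟩
  have hh'v : ∀ x y z,
      actA e (h' : MulAut _) (x, y, z) = l • ((x + r * z, y, z) : K × K × K) := by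
    intro x y z
    rw [hh', Subgroup.coe_mul, map_mul]
    show repA e F (sigG e hX (Q 1)) (actA e (h : MulAut _) (x, y, z)) = _
    rw [hhv, hlinear, hσ, (hlinb z).1, (hlinb z).2]
    congr 1
    refine Prod.ext ?_ (Prod.ext ?_ rfl) <;> simp only [Module.upper, hr]
    · linear_combination (Q 1 * y + z * Q 1 ^ 2) * h2
    · linear_combination (z * Q 1) * h2
  obtain ⟨g'', hg''⟩ : ∃ g' : fixCore F (img e (U4.radA K)), g' =
      ⟨h' * (w : F.autGroup (img e (U4.radA K))) * h'⁻¹, Subgroup.Normal.conj_mem inferInstance _ w.2 h'⟩ := ⟨_, rfl⟩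
  have hg''v : ∀ x y z, repA e F g'' (x + r * z, y, z) = (x + r * y, z, y) := by
    intro x y z
    have e1 := repA_conj_apply e h' w g'' (by rw [hg'']) (x, y, z)
    rw [hw, hh'v, hh'v, hlinear] at e1
    exact smul_right_injective (K × K × K) hl e1
  have hu : ∀ x y z, repA e F (g'' * w) (x, y, z) = (x + r * (y + z), y, z) := by
    intro x y z
    rw [Module.apply_mul, hw]
    have := hg''v (x + r * y) z y
    rw [show x + r * y + r * y = x by linear_combination (r * y) * h2] at this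
    rw [this]
    exact Prod.ext (by ring) rfl
  have hr0 : r = 0 := by
    have huN : g'' * w ∈ Subgroup.normalizer (Set.range (sigG e hX)) :=
      H.mem_normalizer_of_invariant (fun x y => by rw [hu]) fun x => by rw [h2, zero_mul]
    obtain ⟨s, hs'⟩ := H.eq_σ_of_pow huN (k := 1) (H.inj (DFunLike.ext _ _ fun v => by
      obtain ⟨x, y, z⟩ := v
      rw [pow_one, pow_two, map_one, Module.apply_mul, hu, hu]
      show _ = (x, y, z)
      refine Prod.ext ?_ rfl
      linear_combination (r * (y + z)) * h2))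
    have e1 := hu 0 0 1
    rw [hs', hσ] at e1
    simp [Module.upper] at e1
    obtain ⟨e2, e3⟩ := e1
    rw [e3] at e2
    simpa using e2.symm
  refine ⟨sigG e hX (Q 1), fun v => ?_⟩
  have e1 : repA e F (sigG e hX (Q 1)) (actA e (h : MulAut _) v) = actA e (h' : MulAut _) v := by
    rw [hh', Subgroup.coe_mul, map_mul]; rfl
  obtain ⟨x, y, z⟩ := v
  rw [e1, hh'v, hr0, zero_mul, add_zero]

/-- Every automorphism of a standard radical is one fixing the core followed by a scalar. -/
theorem scalar_decomp (hK : Fintype.card K ≤ 4) {a : MulAut (img e (U4.radA K))}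
    (ha : a ∈ F.autGroup (img e (U4.radA K))) :
    ∃ (g : fixCore F (img e (U4.radA K))) (l : K), l ≠ 0 ∧ l ∈ CSet F e ∧
      ∀ v, actA e a v = repA e F g (l • v) := by
  have h2 : (2 : K) = 0 := CharTwo.two_eq_zero
  have hlinear := repA_smul hS hF hX e hx hA hK
  obtain ⟨g, α, hα, hv⟩ := exists_decomp e hS hF hX ha
  obtain ⟨l, hl, hαl⟩ := exists_za_scalar hS hF hX e hK hα
  obtain ⟨hz, hπ⟩ := pull_axes e hS hF hα
  obtain ⟨φ₁, ω, φ, o₁, o₂, hs⟩ :=
    U4.exists_shape_two (pull e α) (pull_radA e hS hF hα) h2 hz hπ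
  obtain ⟨h0, h0'⟩ := U4.zero_of_shape hs
  rw [zero_add] at h0
  have hk : ∀ x, φ₁ ^ 2 * ω * φ x = l * x := fun x => by
    have e1 := congrArg U4.a ((hs.2.2.2 x 0 0).symm.trans (hαl x))
    simpa [h0] using e1
  have hl1 : φ₁ ^ 2 * ω = l := by simpa using hk 1
  have hφ : ∀ x, φ x = x := fun x => mul_left_cancel₀ hl (by rw [← hk x, hl1])
  obtain ⟨D, hD⟩ := exists_diag_elem hS hF hX e hx hA hK hs.1
  -- the normalising part with equal weights
  obtain ⟨h, hh⟩ : ∃ h : F.autGroup (img e (U4.radA K)),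
      h = (D : F.autGroup (img e (U4.radA K))) * ⟨a, ha⟩ * (g : F.autGroup (img e (U4.radA K)))⁻¹ := ⟨_, rfl⟩
  have hhv : ∀ x y z, actA e (h : MulAut _) (x, y, z) =
      l • ((x + l⁻¹ * o₁ z, y + l⁻¹ * (φ₁ * o₂ z), z) : K × K × K) := by
    intro x y z
    have e1 := (hv (repA e F g⁻¹ (x, y, z))).symm
    rw [Module.cancel', hs.2.2.2, hφ, hφ, hφ, hl1] at e1
    have e2 : actA e a (repA e F g⁻¹ (x, y, z)) = (l * x + o₁ z, φ₁ * ω * y + o₂ z, ω * z) := by
      refine Prod.ext ?_ (Prod.ext ?_ ?_)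
      · simpa using congrArg U4.a e1
      · simpa using congrArg U4.b e1
      · simpa using congrArg U4.c e1
    rw [hh, Subgroup.coe_mul, Subgroup.coe_mul, map_mul, map_mul]
    show repA e F D (actA e a (repA e F g⁻¹ (x, y, z))) = _
    rw [e2, hD]
    refine Prod.ext ?_ (Prod.ext ?_ ?_) <;> simp only [Prod.smul_mk, smul_eq_mul]
    · rw [mul_add l, mul_inv_cancel_left₀ hl]
    · rw [mul_add l, mul_inv_cancel_left₀ hl, ← hl1]; ring
    · rw [← hl1]; ring
  obtain ⟨g₁, hg₁⟩ := exists_to_scalar hS hF hX e hx hA hK h hl _ _ (by simp [h0]) (by simp [h0'])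
    hhv
  refine ⟨(g₁ * D)⁻¹ * g, l, hl, ⟨α, hα, hαl⟩, fun v => ?_⟩
  have e3 : repA e F (g₁ * D) (actA e a v) = l • repA e F g v := by
    rw [Module.apply_mul, ← hg₁ (repA e F g v), hh, Subgroup.coe_mul, Subgroup.coe_mul, map_mul,
      map_mul]
    show _ = repA e F g₁ (repA e F D (actA e a (repA e F g⁻¹ (repA e F g v))))
    rw [Module.cancel]
  rw [Module.apply_mul, hlinear, ← e3, Module.cancel]

omit hx hA in
/-- The restriction of an automorphism of `S` to the abelian radical. -/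
theorem exists_restrictA {α : MulAut S} (hα : α ∈ F.autGroup S) :
    ∃ a ∈ F.autGroup (img e (U4.radA K)), (∀ (x : img e (U4.radA K)) (hx : (x : Ω) ∈ S),
      ((α ⟨x, hx⟩ : S) : Ω) = ((a x : _) : Ω)) ∧
      ∀ v, pull e α (U4.vec v) = U4.vec (actA e a v) := by
  have hle := img_le e (U4.radA K)
  have hφ := restrict_mem (hom_of_mem_autGroup le_rfl hα).1 hle
  have hr : ((S.subtype.comp α.toMonoidHom).comp (Subgroup.inclusion hle)).range =
      img e (U4.radA K) := by
    refine range_eq_of_le hφ hle (fun x => ?_) le_rfl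
    obtain ⟨g, hg, hgx⟩ := exists_el_of_img e x.2
    obtain rfl : x = ⟨el e g, (el_mem_img e).2 hg⟩ := Subtype.ext hgx.symm
    show ((α ⟨el e g, el_mem e g⟩ : S) : Ω) ∈ _
    rw [← el_pull, el_mem_img]
    exact pull_radA e hS hF hα g hg
  refine ⟨toAut hφ hr, toAut_mem hφ hr, fun x hx => rfl, fun v => (el_inj e).1 ?_⟩
  rw [el_pull, ← coe_vecA e (actA e _ v), vecA_actA, coe_toAut]
  rfl

/-- A scalar of the first axis is realized by a scalar of a standard radical. -/
theorem exists_scalar (hK : Fintype.card K ≤ 4) {l : K} (hl : l ∈ CSet F e) :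
    ∃ a ∈ F.autGroup (img e (U4.radA K)), ∀ v, actA e a v = l • v := by
  obtain ⟨α, hα, hαl⟩ := hl
  obtain ⟨a, ha, -, hav⟩ := exists_restrictA hS hF hX e hα
  obtain ⟨g, m, hm, -, hgm⟩ := scalar_decomp hS hF hX e hx hA hK ha
  have hml : m = l := by
    have e1 := congrArg U4.a ((hav (1, 0, 0)).symm.trans (hαl 1))
    rw [hgm, show m • (((1 : K), (0 : K), (0 : K)) : K × K × K) = (m, 0, 0) by simp,
      repA_za e hS hF hX hx hK] at e1
    simpa using e1
  refine ⟨((g : F.autGroup (img e (U4.radA K))) : MulAut _)⁻¹ * a,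
    mul_mem (inv_mem (g : F.autGroup (img e (U4.radA K))).2) ha, fun v => ?_⟩
  rw [map_mul]
  show repA e F g⁻¹ (actA e a v) = _
  rw [hgm, Module.cancel, hml]

omit hx hA

/-- The automizer of a standard radical is determined by the scalars of the first axis. -/
theorem autGroup_radA_le (hK : Fintype.card K ≤ 4) (hx : el e (U4.vec (1, 0, 0)) ∈ F.core)
    (hA : StdA F e) (hS' : F'.IsSaturated 2) (hX' : F'.core ≤ centralizerIn S S)
    (hx' : el e (U4.vec (1, 0, 0)) ∈ F'.core) (hA' : StdA F' e) (hC : CSet F' e ⊆ CSet F e) :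
    F'.autGroup (img e (U4.radA K)) ≤ F.autGroup (img e (U4.radA K)) := by
  intro a ha
  have hn := isFullyNormalized_img_radA (F := F') e
  have := finite_of_le (Ω := Ω) hn.1
  have := finite_mulAut (Ω := Ω) hn.1
  obtain ⟨g, l, -, hlC, hgl⟩ := scalar_decomp hS hS' hX' e hx' hA' hK ha
  obtain ⟨w, hw⟩ := hA.1
  obtain ⟨w', hw'⟩ := hA'.1
  have hg := Module.mem_closure_std (hyp_repA e hS hS' hX' hn)
    (shapes_za e hS hS' hX' hx') (repA_za e hS hS' hX' hx' hK) hA'.2 hK hw' g
  obtain ⟨g₀, hg₀⟩ : ∃ g₀ : fixCore F (img e (U4.radA K)), ∀ v, repA e F g₀ v = repA e F' g v := by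
    clear hgl
    induction hg using Subgroup.closure_induction with
    | mem x hxm =>
      rcases hxm with rfl | ⟨s, rfl⟩
      · exact ⟨w, fun v => (hw v.1 v.2.1 v.2.2).trans (hw' v.1 v.2.1 v.2.2).symm⟩
      · exact ⟨sigG e hX s, fun v => (actA_sigA e s v).trans (actA_sigA e s v).symm⟩
    | one => exact ⟨1, fun v => by rw [map_one, map_one]⟩
    | mul x y _ _ hx hy =>
      obtain ⟨x₀, hx₀⟩ := hx
      obtain ⟨y₀, hy₀⟩ := hy
      exact ⟨x₀ * y₀, fun v => by rw [Module.apply_mul, Module.apply_mul, hy₀, hx₀]⟩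
    | inv x _ hx =>
      obtain ⟨x₀, hx₀⟩ := hx
      refine ⟨x₀⁻¹, fun v => ?_⟩
      have h := hx₀ (repA e F' x⁻¹ v)
      rw [Module.cancel'] at h
      conv_lhs => rw [← h]
      rw [Module.cancel]
  obtain ⟨b, hb, hbv⟩ := exists_scalar hS hF hX e hx hA hK (hC hlC)
  have e1 : a = ((g₀ : F.autGroup (img e (U4.radA K))) : MulAut _) * b := by
    refine actA_injective e (DFunLike.ext _ _ fun v => ?_)
    rw [map_mul]
    show _ = repA e F g₀ (actA e b v)
    rw [hbv, hg₀, hgl]
  rw [e1]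
  exact mul_mem (g₀ : F.autGroup (img e (U4.radA K))).2 hb

omit [CharP K 2] [Fintype K] [Fact (Nat.Prime 2)] [Finite S] hS hF hX in
theorem pull_trans (γ : U4 K ≃* U4 K) (α : MulAut S) (x : U4 K) :
    pull (γ.trans e) α x = γ.symm (pull e α (γ x)) := rfl

omit hS hF hX in
theorem cSet_deltaIso (hK : Fintype.card K ≤ 4) :
    CSet F ((U4.deltaIso hK).trans e) = CSet F e := by
  ext l
  refine exists_congr fun α => and_congr_right fun _ => forall_congr' fun x => ?_
  rw [pull_trans, U4.deltaIso_vec_za, MulEquiv.symm_apply_eq, U4.deltaIso_vec_za]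

/-- The automorphisms of `S` are determined by the radicals. -/
theorem autGroup_self_le (hK : Fintype.card K ≤ 4) (hx : el e (U4.vec (1, 0, 0)) ∈ F.core)
    (hS' : F'.IsSaturated 2) (hX' : F'.core ≤ centralizerIn S S) (hce : F.core = img e (radZa K))
    (hA : F'.autGroup (img e (U4.radA K)) ≤ F.autGroup (img e (U4.radA K)))
    (hB : F'.autGroup (img e (radB K)) ≤ F.autGroup (img e (radB K))) :
    F'.autGroup S ≤ F.autGroup S := by
  have h2 : (2 : K) = 0 := CharTwo.two_eq_zero
  intro α' hα'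
  obtain ⟨a, ha, hax, hav⟩ := exists_restrictA hS hS' hX' e hα'
  have hn := isFullyNormalized_img_radA (F := F) e
  obtain ⟨α, hα, hext⟩ := exists_extend_top (le_normalizer_img e radA_normal)
    (isReceptive_of_fullyNormalized hS hF hn) (hA ha) fun c hc => by
      obtain ⟨s, rfl⟩ := (autInducedBy_eq e c).1 hc
      refine (autInducedBy_eq e _).2 ⟨(pull e α' (U4.sig s)).s, ?_⟩
      refine actA_injective e (DFunLike.ext _ _ fun v => ?_)
      refine vecA_injective e (Subtype.ext ?_)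
      rw [map_mul, map_mul]
      show (vecA e (actA e a (actA e (sigA e s) (actA e a⁻¹ v))) : Ω) = _
      rw [vecA_actA, actA_sigA, coe_vecA]
      have e1 : ∀ u, el e (U4.vec (actA e a u)) = el e (pull e α' (U4.vec u)) := fun u => by
        rw [hav]
      rw [← vecA_actA, coe_vecA, e1, actA_sigA]
      obtain ⟨u, hu⟩ : ∃ u, u = actA e a⁻¹ v := ⟨_, rfl⟩
      have hv : v = actA e a u := by
        rw [hu]
        show v = (actA e a * actA e a⁻¹) v
        rw [← map_mul, mul_inv_cancel, map_one]; rfl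
      have hk : ∀ (t : K) (q : K × K × K),
          U4.vec (Module.upper t q) = U4.sig t * U4.vec q * (U4.sig t)⁻¹ := fun t q => by
        rw [show q = (q.1, q.2.1, q.2.2) from rfl, U4.conj_vec]; rfl
      refine congrArg (el e) ?_
      rw [← hu, hk, map_mul, map_mul, map_inv, hv, hk, hav]
      obtain ⟨y, hy⟩ : ∃ y, pull e α' (U4.sig s) = y := ⟨_, rfl⟩
      rw [hy, show actA e a u = ((actA e a u).1, (actA e a u).2.1, (actA e a u).2.2) from rfl,
        U4.conj_vec, U4.conj_vec]
      rfl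
  -- the difference fixes the radical
  obtain ⟨β, hβ⟩ : ∃ β, β = α⁻¹ * α' := ⟨_, rfl⟩
  have hfix : ∀ v, pull e β (U4.vec v) = U4.vec v := fun v => by
    have e1 : pull e α (U4.vec v) = pull e α' (U4.vec v) := by
      rw [← el_inj e, el_pull, el_pull]
      exact (hext (vecA e v) (el_mem e _)).trans (hax (vecA e v) (el_mem e _)).symm
    rw [hβ, pull_mul_apply, ← e1, ← pull_mul_apply, inv_mul_cancel]
    simp [pull]
  suffices hβS : β ∈ F.autGroup S by
    have : α' = α * β := by rw [hβ, mul_inv_cancel_left]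
    rw [this]; exact mul_mem hα hβS
  set eB := (U4.deltaIso hK).trans e with heB
  have hBimg : img eB (U4.radA K) = img e (radB K) := img_deltaIso_radA hK e
  obtain ⟨b', hb', hbx', hbv'⟩ := exists_restrictA hS hS' hX' eB hα'
  obtain ⟨b, hb, hbx, hbv⟩ := exists_restrictA hS hF hX eB hα
  have hBle : F'.autGroup (img eB (U4.radA K)) ≤ F.autGroup (img eB (U4.radA K)) := by
    rw [hBimg]; exact hB
  have hb'F : b' ∈ F.autGroup (img eB (U4.radA K)) := hBle hb'
  have hv : ∀ v, actA eB (b⁻¹ * b') v = ((pull eB β (U4.vec v)).a, (pull eB β (U4.vec v)).b,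
      (pull eB β (U4.vec v)).c) := by
    intro v
    have e1 : U4.vec (actA eB (b⁻¹ * b') v) = pull eB β (U4.vec v) := by
      apply (pull eB α).injective
      rw [hβ, pull_mul_apply, ← pull_mul_apply eB α α⁻¹, mul_inv_cancel, hbv, hbv', map_mul]
      show U4.vec ((actA eB b * (actA eB b⁻¹ * actA eB b')) v) = _
      rw [← mul_assoc, ← map_mul, mul_inv_cancel, map_one, one_mul]
      simp [pull]
    rw [← e1]; rfl
  have hxB : el eB (U4.vec (1, 0, 0)) ∈ F.core := by rw [heB, el_deltaIso_za]; exact hx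
  have hcB : F.core = img eB (radZa K) := hce.trans (img_za_congr (el_deltaIso_za hK e)).symm
  have hplane : ∀ x y, actA eB (b⁻¹ * b') (x, y, 0) = (x, y, 0) := by
    intro x y
    have e1 : pull eB β (U4.vec (x, y, 0)) = U4.vec (x, y, 0) := by
      rw [heB, pull_trans, MulEquiv.symm_apply_eq]
      have hs : (U4.deltaIso hK (U4.vec (x, y, 0))).s = 0 := by
        rw [U4.deltaIso_mem_radA]; rfl
      rw [U4.eq_vec hs, hfix]
    rw [hv, e1]; rfl
  obtain ⟨u, hu⟩ : ∃ u : fixCore F (img eB (U4.radA K)),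
      ((u : F.autGroup (img eB (U4.radA K))) : MulAut _) = b⁻¹ * b' := by
    refine ⟨⟨⟨_, mul_mem (inv_mem hb) hb'F⟩, fun z hz => ?_⟩, rfl⟩
    rw [hcB] at hz
    obtain ⟨g, hg, hgz⟩ := exists_el_of_img eB hz
    have hz' : z = vecA eB (g.a, 0, 0) := Subtype.ext (by
      rw [← hgz, coe_vecA, ← eq_vec_of_mem_radZa hg])
    rw [hz']
    show (b⁻¹ * b') (vecA eB (g.a, 0, 0)) = _
    rw [← vecA_actA, hplane]
  have hnB := isFullyNormalized_img_radA (F := F) eB
  have := finite_of_le (Ω := Ω) hnB.1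
  have := finite_mulAut (Ω := Ω) hnB.1
  have HB := hyp_repA eB hS hF hX hnB
  have huv : ∀ v, repA eB F u v = actA eB (b⁻¹ * b') v := fun v => by rw [repA_apply, hu]
  have huN : u ∈ Subgroup.normalizer (Set.range (sigG eB hX)) :=
    HB.mem_normalizer_of_invariant (fun x y => by rw [huv, hplane]) fun x => by rw [h2, zero_mul]
  obtain ⟨φ₁, ω, φ, o₁, o₂, h1, h0, h0', hφ₁, hω, hs⟩ := shapes_za eB hS hF hX hxB u huN
  have hφ : ∀ x, φ x = x := fun x => by
    have e1 := congrArg Prod.fst ((hs x 0 0).symm.trans ((huv _).trans (hplane x 0)))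
    simpa [h0] using e1
  have hk : φ₁ * ω = 1 := by
    have e1 := congrArg (fun v => v.2.1) ((hs 0 1 0).symm.trans ((huv _).trans (hplane 0 1)))
    simpa [h0'] using e1
  have hφ₁1 : φ₁ = 1 := by linear_combination h1 - φ₁ * hk
  have hω1 : ω = 1 := by rwa [hφ₁1, one_mul] at hk
  obtain ⟨t, ht⟩ := HB.eq_σ_of_pow huN (k := 1) (HB.inj (DFunLike.ext _ _ fun v => by
    obtain ⟨x, y, z⟩ := v
    rw [pow_one, pow_two, map_one, Module.apply_mul]
    simp only [hs, hφ, hφ₁1, hω1, one_mul]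
    show _ = (x, y, z)
    refine Prod.ext ?_ (Prod.ext ?_ rfl) <;> simp only []
    · linear_combination (o₁ z) * h2
    · linear_combination (o₂ z) * h2))
  -- so it is inner
  obtain ⟨k, hk'⟩ : ∃ k, k = U4.deltaIso hK (U4.sig t) := ⟨_, rfl⟩
  have hks : k.s = 0 := by rw [hk', U4.deltaIso_mem_radA]; rfl
  have hgen : ∀ x : U4 K, pull e β x = k * x * k⁻¹ := by
    intro x
    have hA' : ∀ v, pull e β (U4.vec v) = k * U4.vec v * k⁻¹ := fun v => by
      rw [hfix, show v = (v.1, v.2.1, v.2.2) from rfl, U4.conj_vec, hks]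
      ext <;> simp
    have hsig : ∀ s, pull e β (U4.sig s) = k * U4.sig s * k⁻¹ := fun s => by
      obtain ⟨v, hv'⟩ : ∃ v, U4.sig s = U4.deltaIso hK (U4.vec v) := by
        obtain ⟨y, hy⟩ := (U4.deltaIso hK).surjective (U4.sig s)
        refine ⟨(y.a, y.b, y.c), ?_⟩
        rw [← U4.eq_vec ((U4.deltaIso_c hK y).1 (by rw [hy]; rfl)), hy]
      have e1 : pull eB β (U4.vec v) = U4.sig t * U4.vec v * (U4.sig t)⁻¹ := by
        have hs' : (pull eB β (U4.vec v)).s = 0 := by
          simp only [hβ, pull_mul_apply]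
          exact pull_radA eB hS hF (inv_mem hα) _ (pull_radA eB hS hS' hα' _ rfl)
        rw [U4.eq_vec hs', ← hv, ← huv, ht,
          show repA eB F (sigG eB hX t) v = Module.upper t v from actA_sigA eB t v,
          show v = (v.1, v.2.1, v.2.2) from rfl, U4.conj_vec]
        rfl
      rw [heB, pull_trans, MulEquiv.symm_apply_eq, map_mul, map_mul, map_inv, ← hv', ← hk'] at e1
      exact e1
    have hx' : x = U4.vec (x.a, x.b, x.c) * U4.sig x.s := by ext <;> simp
    rw [hx', map_mul, hA', hsig]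
    group
  have : β = MulAut.conj (e k) := MulEquiv.ext fun z => by
    obtain ⟨x, rfl⟩ := e.surjective z
    have e1 := congrArg e (hgen x)
    rw [show e (pull e β x) = β (e x) from e.apply_symm_apply _, map_mul, map_mul, map_inv] at e1
    exact e1
  rw [this]
  exact inn_le_autGroup F le_rfl ⟨_, rfl⟩

/-- Systems in the same standard coordinates are compared by their scalars. -/
theorem le_of_std (hK : Fintype.card K ≤ 4) (hstd : Std hK F e) (hS' : F'.IsSaturated 2)
    (hX' : F'.core ≤ centralizerIn S S) (hnc' : ¬ F'.IsConstrained 2) (hstd' : Std hK F' e)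
    (hC : CSet F' e ⊆ CSet F e) : F' ≤ F := by
  have hx : el e (U4.vec (1, 0, 0)) ∈ F.core := by
    rw [hstd.core_eq, el_mem_img]; exact vec_mem_radZa _
  have hx' : el e (U4.vec (1, 0, 0)) ∈ F'.core := by
    rw [hstd'.core_eq, el_mem_img]; exact vec_mem_radZa _
  have hcore' : F'.core ≠ ⊥ := fun h => by
    have h1 := (el_inj e).1
      ((Subgroup.mem_bot.1 (h ▸ hx' : _ ∈ (⊥ : Subgroup Ω))).trans (el_one e).symm)
    exact one_ne_zero (congrArg U4.a h1)
  set eB := (U4.deltaIso hK).trans e with heB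
  have hA := autGroup_radA_le hS hF hX e hK hx hstd.stdA hS' hX' hx' hstd'.stdA hC
  have hB : F'.autGroup (img e (radB K)) ≤ F.autGroup (img e (radB K)) := by
    rw [← img_deltaIso_radA hK e]
    refine autGroup_radA_le hS hF hX eB hK ?_ hstd.stdB hS' hX' ?_ hstd'.stdB ?_
    · rw [heB, el_deltaIso_za]; exact hx
    · rw [heB, el_deltaIso_za]; exact hx'
    · rw [heB, cSet_deltaIso, cSet_deltaIso]; exact hC
  refine le_of_extendable hS hS' F
    (autGroup_self_le hS hF hX e hK hx hS' hX' hstd.core_eq hA hB) fun R hR hnR hgen => ?_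
  obtain ⟨hcR, hrR⟩ := centric_radical_of_not_generated hS hS' hnR hgen
  rcases radical_cases e hS hS' hcore' hnc' hnR hcR hrR with h | h | ⟨-, h⟩ | ⟨h, -⟩
  · exact absurd h hR.ne
  · rw [h]; exact hA
  · rw [h]; exact hB
  · exact absurd CharTwo.two_eq_zero h

end Cfsg.Agent.Fusion.SpFour
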