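import Cfsg.Agent.Lib.Fusion.SpFour.Ext
import Cfsg.Agent.Lib.Fusion.SpFour.SmallStd
import Cfsg.Agent.Lib.Fusion.Realized

/-!
At most four elements: the fusion system of the extension, in standard coordinates.
-/

set_option autoImplicit false
set_option linter.unusedSectionVars false

namespace Cfsg.Agent.Fusion.SpFour

open Cfsg Cfsg.FusionSystem Ext

universe u v

variable {K : Type*} [Field K]

/-- The exchange of the first two coordinates. -/
def permA (K : Type*) [Field K] : M3 K := !![0, 1, 0; 1, 0, 0; 0, 0, 1]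

/-- The exchange of the last two coordinates. -/
def permB (K : Type*) [Field K] : M3 K := !![1, 0, 0; 0, 0, 1; 0, 1, 0]

/-- A diagonal element normalising the unitriangular matrices. -/
def diagT (t : K) : M3 K := !![t, 0, 0; 0, 1, 0; 0, 0, 1]

/-- What the realization needs from the group. -/
structure Real (C : Set K) (G : Type v) [Group G] where
  ι : U4 K →* G
  π : G →* M3 K
  inj : Function.Injective ι
  sylow : ∃ T : Sylow 2 G, (T : Subgroup G) = ι.range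
  π_ι : ∀ g, π (ι g) = uMat g
  ker : ∀ x, π x = 1 → ∃ a, x = ι (U4.vec (a, 0, 0))
  za : ∀ x, ∃ l ∈ C, ∀ a, x * ι (U4.vec (a, 0, 0)) * x⁻¹ = ι (U4.vec (l * a, 0, 0))
  permA : ∃ x, π x = permA K ∧ ∀ a, x * ι (U4.vec (a, 0, 0)) * x⁻¹ = ι (U4.vec (a, 0, 0))
  permB : ∃ x, π x = permB K ∧ ∀ a, x * ι (U4.vec (a, 0, 0)) * x⁻¹ = ι (U4.vec (a, 0, 0))
  scal : ∀ l ∈ C, ∃ x t, π x = diagT t ∧
    ∀ a, x * ι (U4.vec (a, 0, 0)) * x⁻¹ = ι (U4.vec (l * a, 0, 0))

variable {C : Set K} {G : Type v} [Group G]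

namespace Real

variable (M : Real C G)

theorem π_inv (x : G) : M.π x * M.π x⁻¹ = 1 := by rw [← map_mul, mul_inv_cancel, map_one]

theorem conj_ι {x : G} {g g' : U4 K} (h : M.π x * uMat g = uMat g' * M.π x) :
    ∃ a, x * M.ι g * x⁻¹ = M.ι (g' * U4.vec (a, 0, 0)) := by
  have h1 : M.π ((M.ι g')⁻¹ * (x * M.ι g * x⁻¹)) = 1 := by
    rw [← map_inv, map_mul, map_mul, map_mul, M.π_ι, M.π_ι, h, Matrix.mul_assoc,
      M.π_inv, Matrix.mul_one, ← uMat_mul, inv_mul_cancel, uMat_one]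
  obtain ⟨a, ha⟩ := M.ker _ h1
  exact ⟨a, by rw [map_mul, ← ha, mul_inv_cancel_left]⟩

theorem π_conj {x : G} {g g' : U4 K} (h : x * M.ι g * x⁻¹ = M.ι g') :
    M.π x * uMat g = uMat g' * M.π x := by
  rw [← M.π_ι, ← M.π_ι, ← map_mul, ← map_mul, ← h, inv_mul_cancel_right]

/-- Change of coordinates invisible in `GL₃(K)`. -/
def comp (j : U4 K ≃* U4 K) (hj : ∀ g, uMat (j g) = uMat g)
    (hz : ∀ a, j (U4.vec (a, 0, 0)) = U4.vec (a, 0, 0)) : Real C G where
  ι := M.ι.comp j.toMonoidHom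
  π := M.π
  inj := M.inj.comp j.injective
  sylow := by
    rw [MonoidHom.range_comp, MonoidHom.range_eq_top.2 j.surjective, ← MonoidHom.range_eq_map]
    exact M.sylow
  π_ι g := (M.π_ι _).trans (hj g)
  ker x hx := by
    obtain ⟨a, ha⟩ := M.ker x hx
    exact ⟨a, by rw [ha, MonoidHom.comp_apply, MulEquiv.coe_toMonoidHom, hz]⟩
  za x := by simpa [hz] using M.za x
  permA := by simpa [hz] using M.permA
  permB := by simpa [hz] using M.permB
  scal := by simpa [hz] using M.scal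

theorem comp_ι (j : U4 K ≃* U4 K) (hj : ∀ g, uMat (j g) = uMat g)
    (hz : ∀ a, j (U4.vec (a, 0, 0)) = U4.vec (a, 0, 0)) (g : U4 K) :
    (M.comp j hj hz).ι g = M.ι (j g) := rfl

section

variable [Fintype K] [CharP K 2] (hK : Fintype.card K ≤ 4)

/-- A lifted exchange becomes exact after a shear. -/
theorem exists_exact {j₀ : U4 K ≃* U4 K} (hj₀ : ∀ a, j₀ (U4.vec (a, 0, 0)) = U4.vec (a, 0, 0))
    {p : M3 K} (hp : p * p = 1) {x : G} (hx : M.π x = p)
    (hxz : ∀ a, x * M.ι (U4.vec (a, 0, 0)) * x⁻¹ = M.ι (U4.vec (a, 0, 0)))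
    (hswap : ∀ b c, p * uMat (j₀ (U4.vec (0, b, c))) = uMat (j₀ (U4.vec (0, c, b))) * p) :
    ∃ ε : K →+ K, ∀ v, x * M.ι (j₀ (U4.twistIso 0 ε (U4.vec v))) * x⁻¹ =
      M.ι (j₀ (U4.twistIso 0 ε (U4.vec (v.1, v.2.2, v.2.1)))) := by
  have h2 : (2 : K) = 0 := CharTwo.two_eq_zero
  have hμ : ∀ q : K × K, ∃ m, x * M.ι (j₀ (U4.vec (0, q.1, q.2))) * x⁻¹ =
      M.ι (j₀ (U4.vec (m, q.2, q.1))) := by
    intro q
    obtain ⟨m, hm⟩ := M.conj_ι (x := x) (by rw [hx]; exact hswap q.1 q.2)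
    refine ⟨m, hm.trans (congrArg M.ι ?_)⟩
    rw [← hj₀ m, ← map_mul]
    congr 1
    ext <;> simp
  choose μ hμ using hμ
  have hval : ∀ a b c, x * M.ι (j₀ (U4.vec (a, b, c))) * x⁻¹ =
      M.ι (j₀ (U4.vec (a + μ (b, c), c, b))) := by
    intro a b c
    rw [show U4.vec (a, b, c) = U4.vec (a, 0, 0) * U4.vec (0, b, c) by ext <;> simp, map_mul, hj₀,
      map_mul, ← conj_mul (b := x), hxz, hμ (b, c), ← hj₀ a, ← map_mul, ← map_mul]
    congr 2
    ext <;> simp
  have hadd : ∀ q q', μ (q + q') = μ q + μ q' := by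
    intro q q'
    have e1 := hμ (q + q')
    rw [show U4.vec ((0 : K), (q + q').1, (q + q').2) = U4.vec (0, q.1, q.2) * U4.vec (0, q'.1, q'.2)
      by ext <;> simp, map_mul, map_mul, ← conj_mul (b := x), hμ, hμ, ← map_mul, ← map_mul] at e1
    have e2 := congrArg U4.a (j₀.injective (M.inj e1))
    simpa using e2.symm
  have hsym : ∀ b c, μ (c, b) = μ (b, c) := by
    intro b c
    obtain ⟨a, ha⟩ := M.ker (x * x) (by rw [map_mul, hx, hp])
    have e1 : x * x * M.ι (j₀ (U4.vec (0, b, c))) * (x * x)⁻¹ = M.ι (j₀ (U4.vec (0, b, c))) := by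
      rw [ha, ← map_inv, ← map_mul, ← map_mul, ← hj₀ a, ← map_inv, ← map_mul, ← map_mul]
      congr 2
      ext <;> simp [h2]
    rw [show x * x * M.ι (j₀ (U4.vec (0, b, c))) * (x * x)⁻¹ =
      x * (x * M.ι (j₀ (U4.vec (0, b, c))) * x⁻¹) * x⁻¹ by group, hval, hval] at e1
    have e2 := congrArg U4.a (j₀.injective (M.inj e1))
    simp at e2
    linear_combination e2 - μ (b, c) * h2
  let ε : K →+ K := AddMonoidHom.mk' (fun b => μ (b, 0)) fun b b' => by
    rw [← hadd]; simp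
  refine ⟨ε, fun v => ?_⟩
  obtain ⟨a, b, c⟩ := v
  have hm : μ (b, c) = ε b + ε c := by
    show μ (b, c) = μ (b, 0) + μ (c, 0)
    rw [hsym 0 c, ← hadd]
    simp
  have ht : ∀ a b c, U4.twistIso 0 ε (U4.vec (a, b, c)) = U4.vec (a + ε c, b, c) := fun a b c => by
    rw [U4.twistIso_apply]; ext <;> simp
  rw [ht, ht, hval, hm]
  congr 2
  ext <;> simp
  linear_combination (ε c) * h2

include hK M in
/-- Coordinates in which both exchanges are exact. -/
theorem exists_exact_both : ∃ M' : Real C G,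
    (∃ x : G, ∀ a b c, x * M'.ι (U4.vec (a, b, c)) * x⁻¹ = M'.ι (U4.vec (a, c, b))) ∧
    ∃ x : G, ∀ a b c, x * M'.ι (U4.deltaIso hK (U4.vec (a, b, c))) * x⁻¹ =
      M'.ι (U4.deltaIso hK (U4.vec (a, c, b))) := by
  have h4 := U4.pow_four_eq hK
  obtain ⟨x, hx, hxz⟩ := M.permA
  obtain ⟨ε, hε⟩ := M.exists_exact (j₀ := MulEquiv.refl _) (fun _ => rfl)
    (p := SpFour.permA K) (by
      ext i j
      fin_cases i <;> fin_cases j <;> simp [SpFour.permA, Matrix.mul_apply, Fin.sum_univ_three])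
    hx hxz fun b c => by
      ext i j
      fin_cases i <;> fin_cases j <;>
        simp [SpFour.permA, uMat, Matrix.mul_apply, Fin.sum_univ_three]
  set M₁ := M.comp (U4.twistIso 0 ε) (fun g => by
      ext i j
      fin_cases i <;> fin_cases j <;> simp [uMat, U4.twistIso_apply])
    (fun a => twistIso_of_c rfl) with hM₁
  obtain ⟨y, hy, hyz⟩ := M₁.permB
  obtain ⟨ε', hε'⟩ := M₁.exists_exact (j₀ := U4.deltaIso hK) (U4.deltaIso_vec_za hK)
    (p := SpFour.permB K) (by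
      ext i j
      fin_cases i <;> fin_cases j <;> simp [SpFour.permB, Matrix.mul_apply, Fin.sum_univ_three])
    hy hyz fun b c => by
      rw [U4.deltaIso_apply, U4.deltaIso_apply]
      ext i j
      fin_cases i <;> fin_cases j <;>
        simp [SpFour.permB, uMat, Matrix.mul_apply, Fin.sum_univ_three]
  set Δ := U4.deltaIso hK
  set j₂ := Δ.symm.trans ((U4.twistIso 0 ε').trans Δ) with hj₂
  have hu : ∀ g, uMat (j₂ g) = uMat g := by
    intro g
    obtain ⟨y, rfl⟩ := Δ.surjective g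
    rw [hj₂, MulEquiv.trans_apply, MulEquiv.trans_apply, MulEquiv.symm_apply_apply]
    simp only [Δ, U4.deltaIso_apply, U4.twistIso_apply]
    ext i j
    fin_cases i <;> fin_cases j <;> simp [uMat]
  have hA : ∀ v, j₂ (U4.vec v) = U4.vec v := by
    intro v
    rw [hj₂, MulEquiv.trans_apply, MulEquiv.trans_apply, twistIso_of_c, MulEquiv.apply_symm_apply]
    exact (U4.deltaIso_mem_radA hK _).1 (by rw [MulEquiv.apply_symm_apply]; rfl)
  refine ⟨M₁.comp j₂ hu (fun a => hA _), ⟨x, fun a b c => ?_⟩, y, fun a b c => ?_⟩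
  · simp only [comp_ι, hA, hM₁]
    exact hε (a, b, c)
  · simp only [comp_ι, hj₂, MulEquiv.trans_apply, MulEquiv.symm_apply_apply]
    exact hε' (a, b, c)

end

end Real

/-! ### The system of a realization -/

variable {Ω : Type u} [Group Ω] {S : Subgroup Ω} [Finite S] (M : Real C G) (e : U4 K ≃* S)

/-- The embedding of `S`. -/
def Real.ιS : S →* G := M.ι.comp e.symm.toMonoidHom

theorem Real.ιS_apply (g : U4 K) : M.ιS e (e g) = M.ι g :=
  congrArg M.ι (e.symm_apply_apply g)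

theorem Real.ιS_injective : Function.Injective (M.ιS e) := M.inj.comp e.symm.injective

theorem Real.ιS_range : (M.ιS e).range = M.ι.range := by
  rw [Real.ιS, MonoidHom.range_comp, MonoidHom.range_eq_top.2 e.symm.surjective,
    ← MonoidHom.range_eq_map]

/-- The system. -/
noncomputable def Real.sys : FusionSystem S := inducedSystem (M.ιS e) (M.ιS_injective e)

theorem Real.realized : (M.sys e).IsRealizedBy (M.ιS e) := inducedSystem_realized _ _

variable [Finite G] [Fintype K] [CharP K 2] [Fact (Nat.Prime 2)]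

theorem Real.saturated : (M.sys e).IsSaturated 2 := by
  obtain ⟨T, hT⟩ := M.sylow
  exact isSaturated_of_realized (M.realized e) ⟨T, hT.trans (M.ιS_range e).symm⟩

/-- Conjugation preserving the abelian radical of some coordinates gives an automorphism. -/
theorem Real.exists_aut (e' : U4 K ≃* S) (x : G) (f : K × K × K → K × K × K)
    (h : ∀ v, x * M.ιS e (e' (U4.vec v)) * x⁻¹ = M.ιS e (e' (U4.vec (f v)))) :
    ∃ a ∈ (M.sys e).autGroup (img e' (U4.radA K)), ∀ v, actA e' a v = f v := by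
  have hle := img_le e' (U4.radA K)
  have hmem : ∀ z : img e' (U4.radA K), x * M.ιS e ⟨z, hle z.2⟩ * x⁻¹ =
      M.ιS e (e' (U4.vec (f (coA e' z)))) := fun z => by
    rw [← h]
    congr 3
    have e1 : ((e' (U4.vec (coA e' z)) : S) : Ω) = (z : Ω) :=
      congrArg (fun w : img e' (U4.radA K) => (w : Ω)) (vecA_coA e' z)
    exact Subtype.ext e1.symm
  have hg : ∀ z : img e' (U4.radA K), x * M.ιS e ⟨z, hle z.2⟩ * x⁻¹ ∈ (M.ιS e).range := fun z =>
    ⟨_, (hmem z).symm⟩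
  have hφ := pullHom_mem (M.realized e) hle x hg
  have hval : ∀ z, pullHom (M.ιS_injective e) hle x hg z = el e' (U4.vec (f (coA e' z))) := by
    intro z
    have := (apply_pullHom (M.ιS_injective e) hle x hg z (apply_mem hφ z)).trans (hmem z)
    exact congrArg Subtype.val (M.ιS_injective e this)
  have hr : (pullHom (M.ιS_injective e) hle x hg).range = img e' (U4.radA K) :=
    range_eq_of_le hφ hle (fun z => by rw [hval, el_mem_img]; rfl) le_rfl
  refine ⟨toAut hφ hr, toAut_mem hφ hr, fun v => vecA_injective e' (Subtype.ext ?_)⟩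
  rw [vecA_actA, coe_toAut, hval, coA_vecA, coe_vecA]

theorem Real.za_normal : (M.sys e).IsNormal (img e (radZa K)) := by
  set Z := img e (radZa K) with hZ
  have hZS : Z ≤ S := img_le e _
  refine ⟨hZS, fun P φ hφ => ?_⟩
  obtain ⟨hP, hφS, x, hx⟩ := hφ
  have hPZ : P ⊔ Z ≤ S := sup_le hP hZS
  obtain ⟨l, -, hl⟩ := M.za x
  have hza : ∀ z : Z, ∃ a, (⟨z, hZS z.2⟩ : S) = e (U4.vec (a, 0, 0)) := fun z => by
    obtain ⟨g, hg, hgz⟩ := exists_el_of_img e z.2
    exact ⟨g.a, Subtype.ext (by rw [← eq_vec_of_mem_radZa hg]; exact hgz.symm)⟩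
  let T : Subgroup Ω :=
    { carrier := {y | ∃ hy : y ∈ S, x * M.ιS e ⟨y, hy⟩ * x⁻¹ ∈ (M.ιS e).range}
      one_mem' := ⟨S.one_mem, ⟨1, by
        rw [map_one, show (⟨1, S.one_mem⟩ : S) = 1 from rfl, map_one]; simp⟩⟩
      mul_mem' := fun {a b} ⟨ha, ha'⟩ ⟨hb, hb'⟩ => ⟨S.mul_mem ha hb, by
        rw [show (⟨a * b, S.mul_mem ha hb⟩ : S) = ⟨a, ha⟩ * ⟨b, hb⟩ from rfl, map_mul, ← conj_mul]
        exact mul_mem ha' hb'⟩
      inv_mem' := fun {a} ⟨ha, ha'⟩ => ⟨S.inv_mem ha, by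
        rw [show (⟨a⁻¹, S.inv_mem ha⟩ : S) = ⟨a, ha⟩⁻¹ from rfl, map_inv, ← conj_inv]
        exact inv_mem ha'⟩ }
  have hT : P ⊔ Z ≤ T := sup_le (fun y hy => ⟨hP hy, ⟨_, hx ⟨y, hy⟩⟩⟩) fun y hy => by
    obtain ⟨a, ha⟩ := hza ⟨y, hy⟩
    refine ⟨hZS hy, e (U4.vec (l * a, 0, 0)), ?_⟩
    rw [show (⟨y, hZS hy⟩ : S) = e (U4.vec (a, 0, 0)) from ha, M.ιS_apply, M.ιS_apply, hl]
  have hg : ∀ z : ↥(P ⊔ Z), x * M.ιS e ⟨z, hPZ z.2⟩ * x⁻¹ ∈ (M.ιS e).range := fun z =>
    (hT z.2).2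
  have hψ := pullHom_mem (M.realized e) hPZ x hg
  have hap := apply_pullHom (M.ιS_injective e) hPZ x hg
  refine ⟨_, hψ, fun z => ?_, ?_⟩
  · exact congrArg Subtype.val (M.ιS_injective e
      ((hap (Subgroup.inclusion le_sup_left z) (apply_mem hψ _)).trans (hx z).symm))
  · have := finite_of_le (Ω := Ω) hZS
    refine Subgroup.eq_of_le_of_card_ge ?_ (le_of_eq ?_)
    · rintro _ ⟨z, hz, rfl⟩
      obtain ⟨a, ha⟩ := hza ⟨z, hz⟩
      have e1 := hap z (apply_mem hψ _)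
      rw [show (⟨(z : Ω), hPZ z.2⟩ : S) = e (U4.vec (a, 0, 0)) from ha, M.ιS_apply, hl,
        ← M.ιS_apply e] at e1
      show pullHom (M.ιS_injective e) hPZ x hg z ∈ Z
      rw [show pullHom (M.ιS_injective e) hPZ x hg z = el e (U4.vec (l * a, 0, 0)) from
        congrArg Subtype.val (M.ιS_injective e e1)]
      exact (el_mem_img e).2 (vec_mem_radZa _)
    · rw [Subgroup.card_map_of_injective ((M.sys e).injective_of_mem hψ)]
      exact (Nat.card_congr (Subgroup.subgroupOfEquivOfLe le_sup_right).toEquiv).symm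

variable (hS : IsPGroup 2 S) (hK : Fintype.card K ≤ 4)
variable (hA : ∃ x : G, ∀ a b c, x * M.ι (U4.vec (a, b, c)) * x⁻¹ = M.ι (U4.vec (a, c, b)))
variable (hB : ∃ x : G, ∀ a b c, x * M.ι (U4.deltaIso hK (U4.vec (a, b, c))) * x⁻¹ =
  M.ι (U4.deltaIso hK (U4.vec (a, c, b))))

include hA in
theorem Real.exists_swapA : ∃ a ∈ (M.sys e).autGroup (img e (U4.radA K)),
    ∀ v, actA e a v = (v.1, v.2.2, v.2.1) := by
  obtain ⟨x, hx⟩ := hA
  exact M.exists_aut e e x _ fun v => by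
    rw [M.ιS_apply, M.ιS_apply]; exact hx v.1 v.2.1 v.2.2

include hB in
theorem Real.exists_swapB :
    ∃ a ∈ (M.sys e).autGroup (img ((U4.deltaIso hK).trans e) (U4.radA K)),
      ∀ v, actA ((U4.deltaIso hK).trans e) a v = (v.1, v.2.2, v.2.1) := by
  obtain ⟨x, hx⟩ := hB
  exact M.exists_aut e _ x _ fun v => by
    rw [MulEquiv.trans_apply, MulEquiv.trans_apply, M.ιS_apply, M.ιS_apply]
    exact hx v.1 v.2.1 v.2.2

include hS hA hB in
theorem Real.not_constrained : ¬ (M.sys e).IsConstrained 2 := by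
  rintro ⟨hF, Q, hQn, hQc⟩
  have hzc := zc_le_of_centric hQc
  have hcl := stronglyClosed_of_isNormal hQn
  -- a subgroup with an exchange lies in `Q`
  have key : ∀ e' : U4 K ≃* S, (∃ a ∈ (M.sys e).autGroup (img e' (U4.radA K)),
      ∀ v, actA e' a v = (v.1, v.2.2, v.2.1)) → img e' (U4.radA K) ≤ Q := by
    intro e' hsw
    obtain ⟨a, ha, hav⟩ := hsw
    have hZ : ∀ x y, el e' (U4.vec (x, y, 0)) ∈ Q := fun x y => hzc ((el_mem_zc e').2
      (U4.mem_center.2 ⟨rfl, rfl, by rw [CharTwo.two_eq_zero, zero_mul]⟩))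
    have hC : ∀ z, el e' (U4.vec (0, 0, z)) ∈ Q := by
      intro z
      obtain ⟨ψ, hψ, hext, hQimg⟩ := hQn.2 _ _ ((mem_autGroup_iff (img_le e' _)).1 ha)
      have h1 : ψ (Subgroup.inclusion le_sup_left (vecA e' (0, z, 0))) ∈ Q :=
        hQimg.le ⟨_, hZ 0 z, rfl⟩
      rw [hext] at h1
      change ((a (vecA e' (0, z, 0)) : img e' (U4.radA K)) : Ω) ∈ Q at h1
      rwa [← vecA_actA, hav] at h1
    intro y hy
    obtain ⟨g, hg, rfl⟩ := exists_el_of_img e' hy
    have : g = U4.vec (g.a, g.b, 0) * U4.vec (0, 0, g.c) := by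
      rw [U4.mem_radA] at hg
      ext <;> simp [hg]
    rw [this, el_mul]
    exact mul_mem (hZ _ _) (hC _)
  have hQA := key e (M.exists_swapA e hA)
  have hQB := key _ (M.exists_swapB e hK hB)
  rw [img_deltaIso_radA hK e] at hQB
  have hQ : Q = S := le_antisymm hQn.1 fun y hy => by
    obtain ⟨g, rfl⟩ := exists_el e hy
    have : g = U4.vec (g.a, g.b, g.c) * U4.sig g.s := by ext <;> simp
    rw [this, el_mul]
    exact mul_mem (hQA ((el_mem_img e).2 rfl)) (hQB ((el_mem_img e).2 (mem_radB.2 rfl)))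
  rw [hQ] at hQn
  obtain ⟨a, ha, hav⟩ := M.exists_swapA e hA
  obtain ⟨ψ, hψ, hext, -⟩ := hQn.2 _ _ ((mem_autGroup_iff (img_le e _)).1 ha)
  -- the extension moves a central element out of the centre
  have hc := (el_mem_zc e).2 (U4.mem_center.2
    (⟨rfl, rfl, by rw [CharTwo.two_eq_zero, zero_mul]⟩ :
      (U4.vec ((0 : K), (1 : K), (0 : K))).s = 0 ∧ (U4.vec ((0 : K), (1 : K), (0 : K))).c = 0 ∧
        2 * (U4.vec ((0 : K), (1 : K), (0 : K))).b = 0))
  have hsup : img e (U4.radA K) ⊔ S = S := sup_eq_right.2 (img_le e _)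
  have hr : ψ.range = S := range_eq_of_le hψ le_rfl (apply_mem hψ) (by rw [hsup])
  have h1 : el e (U4.vec (0, 0, 1)) ∈ centralizerIn S S := by
    refine mem_centralizerIn.2 ⟨el_mem e _, fun y hy => ?_⟩
    rw [← hr] at hy
    obtain ⟨w, rfl⟩ := hy
    have e1 : el e (U4.vec (0, 0, 1)) = ψ (Subgroup.inclusion le_sup_left (vecA e (0, 1, 0))) := by
      rw [hext]
      show _ = ((a (vecA e (0, 1, 0)) : img e (U4.radA K)) : Ω)
      rw [← vecA_actA, hav]
      rfl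
    rw [e1, ← map_mul, ← map_mul]
    refine congrArg ψ (Subtype.ext ?_)
    exact (mem_centralizerIn.1 hc).2 _ (hsup.le w.2)
  have h3 := U4.mem_center.1 ((el_mem_zc e).1 h1)
  exact one_ne_zero h3.2.1

include hS hA hB in
theorem Real.core_le : (M.sys e).core ≤ centralizerIn S S :=
  core_le_center e hS (M.saturated e) (M.not_constrained e hS hK hA hB)

include hS hA hB in
theorem Real.core_eq : (M.sys e).core = img e (radZa K) := by
  refine le_antisymm (fun y hy => ?_) (le_core (M.za_normal e))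
  obtain ⟨g, rfl⟩ := exists_el e ((isNormal_core (M.sys e)).1 hy)
  obtain ⟨h1, h4, -⟩ := U4.mem_center.1 ((el_mem_zc e).1 (M.core_le e hS hK hA hB hy))
  obtain ⟨a, ha, hav⟩ := M.exists_swapA e hA
  have hv : (vecA e (g.a, g.b, 0) : Ω) = el e g := by
    rw [coe_vecA]; congr 1; ext <;> simp [h1, h4]
  have h5 := apply_mem_of_stronglyClosed (stronglyClosed_of_isNormal (isNormal_core (M.sys e)))
    (img_le e _) ha (x := vecA e (g.a, g.b, 0)) (by rw [hv]; exact hy)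
  rw [← vecA_actA, hav, coe_vecA] at h5
  have h6 := (U4.mem_center.1 ((el_mem_zc e).1 (M.core_le e hS hK hA hB h5))).2.1
  exact (el_mem_img e).2 ⟨h1, h6, h4⟩

include hS hA hB in
theorem Real.std : Std hK (M.sys e) e := by
  have hce := M.core_eq e hS hK hA hB
  have hfix : ∀ (e' : U4 K ≃* S), (∀ a, el e' (U4.vec (a, 0, 0)) = el e (U4.vec (a, 0, 0))) →
      ∀ (a : MulAut (img e' (U4.radA K))) (ha : a ∈ (M.sys e).autGroup (img e' (U4.radA K))),
      (∀ v, actA e' a v = (v.1, v.2.2, v.2.1)) →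
      (⟨a, ha⟩ : (M.sys e).autGroup _) ∈ fixCore (M.sys e) (img e' (U4.radA K)) := by
    intro e' he a ha hav z hz
    rw [hce, ← img_za_congr he] at hz
    obtain ⟨g, hg, hgz⟩ := exists_el_of_img e' hz
    have hz' : z = vecA e' (g.a, 0, 0) := Subtype.ext (by
      rw [← hgz, coe_vecA, ← eq_vec_of_mem_radZa hg])
    show a z = z
    rw [hz', ← vecA_actA, hav]
  have hrep : ∀ (e' : U4 K ≃* S) (g : fixCore (M.sys e) (img e' (U4.radA K))), ∃ x : G,
      ∀ v, M.π x * uMat (e.symm (e' (U4.vec v))) =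
        uMat (e.symm (e' (U4.vec (repA e' (M.sys e) g v)))) * M.π x := by
    intro e' g
    obtain ⟨_, hφ, x, hx⟩ := (mem_autGroup_iff (img_le e' _)).1
      (g : (M.sys e).autGroup (img e' (U4.radA K))).2
    refine ⟨x, fun v => M.π_conj ?_⟩
    have h := (hx (vecA e' v)).symm
    refine h.trans (congrArg (M.ιS e) (Subtype.ext ?_))
    show ((((g : (M.sys e).autGroup (img e' (U4.radA K))) : MulAut _) (vecA e' v) : _) : Ω) = _
    rw [← vecA_actA]
    rfl
  refine ⟨hce, ⟨?_, fun g l a b c => ?_⟩, ⟨?_, fun g l a b c => ?_⟩⟩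
  · obtain ⟨a, ha, hav⟩ := M.exists_swapA e hA
    exact ⟨⟨⟨a, ha⟩, hfix e (fun _ => rfl) a ha hav⟩, fun x y z => hav (x, y, z)⟩
  · obtain ⟨x, hx⟩ := hrep e g
    simp only [MulEquiv.symm_apply_apply] at hx
    have h1 := hx (a, b, c)
    have h2 := hx (a, l * b, l * c)
    obtain ⟨⟨p, q, r⟩, hpqr⟩ : ∃ w, repA e (M.sys e) g (a, b, c) = w := ⟨_, rfl⟩
    obtain ⟨⟨p', q', r'⟩, hpqr'⟩ : ∃ w, repA e (M.sys e) g (a, l * b, l * c) = w := ⟨_, rfl⟩
    rw [hpqr] at h1 ⊢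
    rw [hpqr'] at h2 ⊢
    have e1 : uMat (U4.vec (a, l * b, l * c)) = 1 + l • (uMat (U4.vec (a, b, c)) - 1) := by
      ext i j
      fin_cases i <;> fin_cases j <;> simp [uMat]
    rw [e1, Matrix.mul_add, Matrix.mul_one, Matrix.mul_smul, Matrix.mul_sub, Matrix.mul_one, h1,
      ← Matrix.one_mul (M.π x)] at h2
    have e2 : M.π x = 1 * M.π x := (Matrix.one_mul _).symm
    simp only [← Matrix.mul_assoc, Matrix.one_mul] at h2
    have h3 := congrArg (fun A => A * M.π x⁻¹) h2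
    simp only [Matrix.add_mul, Matrix.smul_mul, Matrix.sub_mul, Matrix.mul_assoc, M.π_inv,
      Matrix.mul_one] at h3
    refine Prod.ext ?_ ?_
    · have := congrFun (congrFun h3 0) 2
      simp [uMat] at this
      simpa using this.symm
    · have := congrFun (congrFun h3 1) 2
      simp [uMat] at this
      simpa using this.symm
  · obtain ⟨a, ha, hav⟩ := M.exists_swapB e hK hB
    exact ⟨⟨⟨a, ha⟩, hfix _ (el_deltaIso_za hK e) a ha hav⟩, fun x y z => hav (x, y, z)⟩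
  · obtain ⟨x, hx⟩ := hrep _ g
    simp only [MulEquiv.trans_apply, MulEquiv.symm_apply_apply] at hx
    have h1 := hx (a, b, c)
    have h2 := hx (a, l * b, l * c)
    obtain ⟨⟨p, q, r⟩, hpqr⟩ : ∃ w, repA ((U4.deltaIso hK).trans e) (M.sys e) g (a, b, c) = w := ⟨_, rfl⟩
    obtain ⟨⟨p', q', r'⟩, hpqr'⟩ : ∃ w, repA ((U4.deltaIso hK).trans e) (M.sys e) g (a, l * b, l * c) = w := ⟨_, rfl⟩
    rw [hpqr] at h1 ⊢
    rw [hpqr'] at h2 ⊢
    rw [U4.deltaIso_apply, U4.deltaIso_apply] at h1 h2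
    have e1 : uMat ⟨(U4.vec (a, l * b, l * c)).c ^ 2,
        (U4.vec (a, l * b, l * c)).a + (U4.vec (a, l * b, l * c)).c * (U4.vec (a, l * b, l * c)).s ^ 2,
        (U4.vec (a, l * b, l * c)).b ^ 2 +
          (U4.vec (a, l * b, l * c)).c ^ 2 * (U4.vec (a, l * b, l * c)).s ^ 2,
        (U4.vec (a, l * b, l * c)).s ^ 2⟩ =
        1 + l ^ 2 • (uMat ⟨(U4.vec (a, b, c)).c ^ 2,
          (U4.vec (a, b, c)).a + (U4.vec (a, b, c)).c * (U4.vec (a, b, c)).s ^ 2,
          (U4.vec (a, b, c)).b ^ 2 + (U4.vec (a, b, c)).c ^ 2 * (U4.vec (a, b, c)).s ^ 2,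
          (U4.vec (a, b, c)).s ^ 2⟩ - 1) := by
      ext i j
      fin_cases i <;> fin_cases j <;> simp [uMat] <;> ring
    rw [e1, Matrix.mul_add, Matrix.mul_one, Matrix.mul_smul, Matrix.mul_sub, Matrix.mul_one,
      h1] at h2
    have h3 := congrArg (fun A => A * M.π x⁻¹) h2
    simp only [Matrix.add_mul, Matrix.smul_mul, Matrix.sub_mul, Matrix.mul_assoc, M.π_inv,
      Matrix.mul_one] at h3
    refine Prod.ext ?_ ?_
    · have := congrFun (congrFun h3 0) 2
      simp [uMat, ← mul_pow] at this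
      exact CharTwo.sq_injective (by simpa using this.symm)
    · have := congrFun (congrFun h3 0) 1
      simp [uMat, ← mul_pow] at this
      exact CharTwo.sq_injective (by simpa using this.symm)

theorem Real.cSet : CSet (M.sys e) e ⊆ C := by
  rintro l ⟨α, hα, hl⟩
  obtain ⟨_, hφ, x, hx⟩ := (mem_autGroup_iff le_rfl).1 hα
  obtain ⟨m, hm, hmx⟩ := M.za x
  have h1 : M.ιS e (α (e (U4.vec (1, 0, 0)))) = x * M.ιS e (e (U4.vec (1, 0, 0))) * x⁻¹ :=
    hx (e (U4.vec (1, 0, 0)))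
  rw [M.ιS_apply, hmx] at h1
  have h2 : M.ι (pull e α (U4.vec (1, 0, 0))) = M.ι (U4.vec (m * 1, 0, 0)) := h1
  rw [hl] at h2
  have e1 : l = m := by simpa using congrArg U4.a (M.inj h2)
  rw [e1]
  exact hm

theorem Real.subset_cSet : C ⊆ CSet (M.sys e) e := by
  intro l hl
  obtain ⟨x, t, hx, hxz⟩ := M.scal l hl
  have hconj : ∀ g, ∃ g', x * M.ι g * x⁻¹ = M.ι g' := fun g => by
    obtain ⟨a, ha⟩ := M.conj_ι (x := x) (g := g) (g' := ⟨t * g.s, 0, t * g.b, g.c⟩) (by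
      rw [hx]
      ext i j
      fin_cases i <;> fin_cases j <;> simp [diagT, uMat, Matrix.mul_apply, Fin.sum_univ_three])
    exact ⟨_, ha⟩
  have hg : ∀ z : S, x * M.ιS e ⟨z, z.2⟩ * x⁻¹ ∈ (M.ιS e).range := fun z => by
    obtain ⟨g', hg'⟩ := hconj (e.symm z)
    exact ⟨e g', (M.ιS_apply e g').trans hg'.symm⟩
  have hφ := pullHom_mem (M.realized e) le_rfl x hg
  have hr : (pullHom (M.ιS_injective e) le_rfl x hg).range = S :=
    range_eq_of_le hφ le_rfl (apply_mem hφ) le_rfl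
  refine ⟨toAut hφ hr, toAut_mem hφ hr, fun a => ?_⟩
  apply M.inj
  have h1 := apply_pullHom (M.ιS_injective e) le_rfl x hg (e (U4.vec (a, 0, 0))) (apply_mem hφ _)
  rw [show (⟨(e (U4.vec (a, 0, 0)) : S), (e (U4.vec (a, 0, 0))).2⟩ : S) =
    e (U4.vec (a, 0, 0)) from rfl, M.ιS_apply, hxz] at h1
  exact h1

end Cfsg.Agent.Fusion.SpFour
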