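import Cfsg.Agent.Lib.Fusion.SpFour.Real
import Mathlib.Algebra.Group.Shrink
import Mathlib.GroupTheory.Index

/-!
At most four elements: a system that is not constrained and has nontrivial core is realized by the
extension.
-/

set_option autoImplicit false
set_option linter.unusedSectionVars false

namespace Cfsg.Agent.Fusion.SpFour

open Cfsg Cfsg.FusionSystem Ext

universe u v w

variable {K : Type w} [Field K] [Fintype K] [CharP K 2] [Fact (Nat.Prime 2)]

theorem index_uHom_not_dvd : ¬ 2 ∣ (uHom (K := K)).range.index := by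
  classical
  obtain ⟨n, -, hn⟩ := FiniteField.card K 2
  have hq : 0 < Fintype.card K := Fintype.card_pos
  set q := Fintype.card K with hqdef
  have hker : Nat.card (uHom (K := K)).ker = q := by
    rw [hqdef, ← Nat.card_eq_fintype_card]
    refine Nat.card_congr ⟨fun g => g.1.a, fun a => ⟨U4.vec (a, 0, 0), Units.ext (uMat_vec_za a)⟩,
      fun g => Subtype.ext ?_, fun a => rfl⟩
    have e : uMat g.1 = 1 := by rw [← coe_uHom, show uHom g.1 = 1 from g.2, Units.val_one]
    have e1 := congrFun (congrFun e 0) 1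
    have e2 := congrFun (congrFun e 0) 2
    have e3 := congrFun (congrFun e 1) 2
    simp [uMat] at e1 e2 e3
    ext <;> simp [e1, e2, e3]
  have h1 := (uHom (K := K)).ker.card_mul_index
  rw [Subgroup.index_ker, hker, U4.natCard, Nat.card_eq_fintype_card (α := K)] at h1
  change q * Nat.card (uHom (K := K)).range = q ^ 4 at h1
  have hr : Nat.card (uHom (K := K)).range = q ^ 3 :=
    Nat.eq_of_mul_eq_mul_left hq (h1.trans (by ring))
  have h2 := (uHom (K := K)).range.card_mul_index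
  rw [hr, Matrix.card_GL_field, Fin.prod_univ_three] at h2
  change q ^ 3 * (uHom (K := K)).range.index =
    (q ^ 3 - q ^ 0) * (q ^ 3 - q ^ 1) * (q ^ 3 - q ^ 2) at h2
  have e1 : q ^ 3 - q ^ 1 = q * (q ^ 2 - 1) := by rw [Nat.mul_sub]; ring_nf
  have e2 : q ^ 3 - q ^ 2 = q ^ 2 * (q - 1) := by rw [Nat.mul_sub]; ring_nf
  rw [e1, e2, pow_zero, show (q ^ 3 - 1) * (q * (q ^ 2 - 1)) * (q ^ 2 * (q - 1)) =
    q ^ 3 * ((q ^ 3 - 1) * (q ^ 2 - 1) * (q - 1)) by ring] at h2
  rw [Nat.eq_of_mul_eq_mul_left (pow_pos hq 3) h2]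
  have hev : 2 ∣ q := by rw [hn]; exact dvd_pow_self 2 n.pos.ne'
  have hodd : ∀ k, 0 < k → ¬ 2 ∣ q ^ k - 1 := fun k hk hd => by
    have h3 : 2 ∣ q ^ k := dvd_trans hev (dvd_pow_self q hk.ne')
    have h4 : 1 ≤ q ^ k := Nat.one_le_pow _ _ hq
    omega
  intro hd
  rcases Nat.prime_two.dvd_mul.1 hd with h | h
  · rcases Nat.prime_two.dvd_mul.1 h with h | h
    · exact hodd 3 (by norm_num) h
    · exact hodd 2 (by norm_num) h
  · exact hodd 1 one_pos (by rwa [pow_one])

theorem exists_unit {p : M3 K} (hp : p.det = 1) : ∃ h : GL (Fin 3) K, (h : M3 K) = p :=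
  ⟨Matrix.GeneralLinearGroup.mkOfDetNeZero p (by rw [hp]; exact one_ne_zero), rfl⟩

/-- The extension with the scalars `C`. -/
theorem exists_real (hK : Fintype.card K ≤ 4) (C : Set K) (h1 : (1 : K) ∈ C)
    (hm : ∀ a b, a ∈ C → b ∈ C → a * b ∈ C) (h0 : ∀ a ∈ C, a ≠ 0) :
    ∃ (G : Type w) (_ : Group G) (_ : Finite G), Nonempty (Real C G) := by
  classical
  have hchi1 : ∀ h : GL (Fin 3) K, (h : M3 K).det = 1 → chi h = 1 := fun h hh => by
    rw [chi, hh, one_pow]
  let GC : Subgroup (Grp hK) := toSub {x | chi (toGL hK x) ∈ C}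
    (by
      show chi (toGL hK 1) ∈ C
      rw [map_one, hchi1 _ (by simp)]; exact h1)
    (fun a b ha hb => by
      show chi (toGL hK (a * b)) ∈ C
      rw [map_mul, chi, Units.val_mul, Matrix.det_mul, mul_pow]
      exact hm _ _ ha hb)
  have hemb : ∀ g, emb hK g ∈ GC := fun g => by
    show chi (toGL hK (emb hK g)) ∈ C
    rw [toGL_emb, hchi1 _ (det_uMat g)]; exact h1
  have hcodd : (emb hK).range.index = (uHom (K := K)).range.index := by
    have e : (emb hK).range = (uHom (K := K)).range.comap (toGL hK) := by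
      refine le_antisymm ?_ fun x hx => ?_
      · rintro _ ⟨g, rfl⟩
        exact ⟨g, rfl⟩
      · obtain ⟨g, hg⟩ := hx
        obtain ⟨a, ha⟩ := toGL_ker hK (x := (emb hK g)⁻¹ * x) (by
          rw [map_mul, map_inv, toGL_emb, hg, inv_mul_cancel])
        exact ⟨g * U4.vec (a, 0, 0), by rw [map_mul, ← ha, mul_inv_cancel_left]⟩
    rw [e, Subgroup.index_comap_of_surjective _ (toGL_surjective hK)]
  let ι : U4 K →* GC := (emb hK).codRestrict GC hemb
  have hsyl : ∃ T : Sylow 2 GC, (T : Subgroup GC) = ι.range := by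
    have hp : IsPGroup 2 ι.range := by
      obtain ⟨n, -, hn⟩ := FiniteField.card K 2
      have hcard : Nat.card (U4 K) = 2 ^ ((n : ℕ) * 4) := by
        rw [U4.natCard, Nat.card_eq_fintype_card, hn, pow_mul]
      exact (IsPGroup.of_card hcard).of_surjective ι.rangeRestrict ι.rangeRestrict_surjective
    have hidx : ¬ 2 ∣ ι.range.index := by
      have e : ι.range = (emb hK).range.subgroupOf GC := by
        ext ⟨x, hx⟩
        exact ⟨fun ⟨g, hg⟩ => ⟨g, congrArg Subtype.val hg⟩, fun ⟨g, hg⟩ => ⟨g, Subtype.ext hg⟩⟩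
      intro hd
      refine index_uHom_not_dvd (K := K) (hcodd ▸ dvd_trans hd ?_)
      rw [e]
      exact Subgroup.relIndex_dvd_index_of_le (by rintro _ ⟨g, rfl⟩; exact hemb g)
    exact ⟨hp.toSylow hidx, IsPGroup.toSylow_coe _ _⟩
  refine ⟨↥GC, inferInstance, inferInstance, ⟨{
    ι := ι
    π := (Units.coeHom (M3 K)).comp ((toGL hK).comp GC.subtype)
    inj := fun a b h => emb_injective hK (congrArg Subtype.val h)
    sylow := hsyl
    π_ι := fun g => rfl
    ker := fun x hx => by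
      obtain ⟨a, ha⟩ := toGL_ker hK (x := (x : Grp hK)) (Units.ext hx)
      exact ⟨a, Subtype.ext ha⟩
    za := fun x => ⟨chi (toGL hK x.1), x.2, fun a => Subtype.ext (conj_za hK x.1 a)⟩
    permA := ?_
    permB := ?_
    scal := fun l hl => ?_ }⟩⟩
  · obtain ⟨h, hh⟩ := exists_unit (K := K) (p := permA K) (by
      simp [permA, Matrix.det_fin_three, CharTwo.neg_eq])
    obtain ⟨x, rfl⟩ := toGL_surjective hK h
    have hd : chi (toGL hK x) = 1 := hchi1 _ (by
      rw [hh]; simp [permA, Matrix.det_fin_three, CharTwo.neg_eq])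
    refine ⟨⟨x, by show chi (toGL hK x) ∈ C; rw [hd]; exact h1⟩, hh, fun a => Subtype.ext ?_⟩
    refine (conj_za hK x a).trans ?_
    rw [hd, one_mul]; rfl
  · obtain ⟨h, hh⟩ := exists_unit (K := K) (p := permB K) (by
      simp [permB, Matrix.det_fin_three, CharTwo.neg_eq])
    obtain ⟨x, rfl⟩ := toGL_surjective hK h
    have hd : chi (toGL hK x) = 1 := hchi1 _ (by
      rw [hh]; simp [permB, Matrix.det_fin_three, CharTwo.neg_eq])
    refine ⟨⟨x, by show chi (toGL hK x) ∈ C; rw [hd]; exact h1⟩, hh, fun a => Subtype.ext ?_⟩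
    refine (conj_za hK x a).trans ?_
    rw [hd, one_mul]; rfl
  · have hl0 := h0 l hl
    have hdet : (diagT (l ^ 2)).det = l ^ 2 := by simp [diagT, Matrix.det_fin_three]
    obtain ⟨h, hh⟩ : ∃ h : GL (Fin 3) K, (h : M3 K) = diagT (l ^ 2) :=
      ⟨Matrix.GeneralLinearGroup.mkOfDetNeZero (diagT (l ^ 2)) (hdet.trans_ne (pow_ne_zero 2 hl0)),
        rfl⟩
    obtain ⟨x, rfl⟩ := toGL_surjective hK h
    have hd : chi (toGL hK x) = l := by
      rw [chi, hh, hdet, ← pow_mul]
      exact U4.pow_four_eq hK l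
    refine ⟨⟨x, by show chi (toGL hK x) ∈ C; rw [hd]; exact hl⟩, l ^ 2, hh, fun a => Subtype.ext ?_⟩
    refine (conj_za hK x a).trans ?_
    rw [hd]; rfl

variable {Ω : Type u} [Group Ω] {S : Subgroup Ω} {F : FusionSystem S}

omit [Fintype K] [CharP K 2] [Fact (Nat.Prime 2)] in
/-- A system realized in some universe is realizable. -/
theorem isRealizable_of_realized {p : ℕ} {G : Type v} [Group G] [Finite G] {ι : S →* G}
    (h : F.IsRealizedBy ι) (hT : ∃ T : Sylow p G, (T : Subgroup G) = ι.range) :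
    F.IsRealizable p := by
  let e : Shrink.{u} G ≃* G := Shrink.mulEquiv
  have : Finite (Shrink.{u} G) := Finite.of_equiv G e.toEquiv.symm
  let κ : S →* Shrink.{u} G := e.symm.toMonoidHom.comp ι
  obtain ⟨T, hT⟩ := hT
  refine ⟨Shrink.{u} G, inferInstance, inferInstance, κ,
    ⟨e.symm.injective.comp h.1, fun P hP φ hφ => ?_⟩, ?_⟩
  · rw [h.2 P hP φ hφ]
    constructor
    · rintro ⟨g, hg⟩
      refine ⟨e.symm g, fun x => ?_⟩
      show e.symm (ι ⟨φ x, hφ x⟩) = _
      rw [hg x, map_mul, map_mul, map_inv]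
      rfl
    · rintro ⟨g, hg⟩
      refine ⟨e g, fun x => ?_⟩
      have h1 := congrArg e (hg x)
      rw [map_mul, map_mul, map_inv] at h1
      simpa [κ] using h1
  · refine ⟨T.comapOfInjective e.toMonoidHom e.injective (by
      rw [MonoidHom.range_eq_top.2 e.surjective]; exact le_top), ?_⟩
    show (T : Subgroup G).comap e.toMonoidHom = κ.range
    rw [hT]
    ext x
    simp only [Subgroup.mem_comap, MonoidHom.mem_range]
    constructor
    · rintro ⟨s, hs⟩
      exact ⟨s, by show e.symm (ι s) = x; rw [hs]; exact e.symm_apply_apply x⟩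
    · rintro ⟨s, rfl⟩
      exact ⟨s, (e.apply_symm_apply _).symm⟩

variable [Finite S]

/-- At most four elements: not constrained with nontrivial core implies realizable. -/
theorem isRealizable_small (e : U4 K ≃* S) (hK : Fintype.card K ≤ 4) (hS : IsPGroup 2 S)
    (hF : F.IsSaturated 2) (hcore : F.core ≠ ⊥) (hnc : ¬ F.IsConstrained 2) :
    F.IsRealizable 2 := by
  have hX := core_le_center e hS hF hnc
  obtain ⟨e, hstd⟩ := exists_std_form hS hF hX e hK hnc hcore
  have h1 : (1 : K) ∈ CSet F e := ⟨1, one_mem _, fun x => by simp [pull]⟩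
  have hm : ∀ a b, a ∈ CSet F e → b ∈ CSet F e → a * b ∈ CSet F e := by
    rintro a b ⟨α, hα, ha⟩ ⟨β, hβ, hb⟩
    exact ⟨α * β, mul_mem hα hβ, fun x => by rw [pull_mul_apply, hb, ha, mul_assoc]⟩
  have h0 : ∀ a ∈ CSet F e, a ≠ 0 := by
    rintro a ⟨α, hα, ha⟩ rfl
    have e1 := ha 1
    rw [zero_mul, show U4.vec ((0 : K), (0 : K), (0 : K)) = 1 by ext <;> simp,
      map_eq_one_iff _ (pull e α).injective] at e1
    exact one_ne_zero (congrArg U4.a e1)
  obtain ⟨G, _, _, ⟨M₀⟩⟩ := exists_real hK (CSet F e) h1 hm h0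
  obtain ⟨M, hA, hB⟩ := M₀.exists_exact_both hK
  have hF' := M.saturated e
  have hnc' := M.not_constrained e hS hK hA hB
  have hX' := M.core_le e hS hK hA hB
  have hstd' := M.std e hS hK hA hB
  have heq : ∀ P, F.Hom P = (M.sys e).Hom P := fun P => Set.Subset.antisymm
    (fun φ hφ => le_of_std hS hF' hX' e hK hstd' hF hX hnc hstd (M.subset_cSet e) P hφ)
    (fun φ hφ => le_of_std hS hF hX e hK hstd hF' hX' hnc' hstd' (M.cSet e) P hφ)
  obtain ⟨T, hT⟩ := M.sylow
  refine isRealizable_of_realized (ι := M.ιS e) ⟨M.ιS_injective e, fun P hP φ hφ => ?_⟩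
    ⟨T, hT.trans (M.ιS_range e).symm⟩
  rw [heq]
  exact (M.realized e).2 P hP φ hφ

end Cfsg.Agent.Fusion.SpFour
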