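import Cfsg.Agent.Lib.Fusion.SpFour.TwoA

/-!
At most four elements: the extra automorphisms of `U4 K`, change of coordinates on the abelian
radical, and what the odd-order part of `Aut_F(S)` preserves.
-/

set_option autoImplicit false
set_option linter.unusedSectionVars false

namespace Cfsg.Agent.Fusion.SpFour

open Cfsg Cfsg.FusionSystem

universe u

variable {K : Type*} [Field K]

/-- The first axis. -/
def radZa (K : Type*) [Field K] : Subgroup (U4 K) where
  carrier := {g | g.s = 0 ∧ g.b = 0 ∧ g.c = 0}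
  one_mem' := ⟨rfl, rfl, rfl⟩
  mul_mem' {g h} hg hh := by
    obtain ⟨g1, g2, g3⟩ := hg
    obtain ⟨h1, h2, h3⟩ := hh
    exact ⟨by simp [g1, h1], by simp [g1, g2, h2], by simp [g3, h3]⟩
  inv_mem' {g} hg := by
    obtain ⟨g1, g2, g3⟩ := hg
    exact ⟨by simp [g1], by simp [g1, g2], by simp [g3]⟩

theorem mem_radZa {g : U4 K} : g ∈ radZa K ↔ g.s = 0 ∧ g.b = 0 ∧ g.c = 0 := Iff.rfl

theorem vec_mem_radZa (a : K) : U4.vec (a, 0, 0) ∈ radZa K := ⟨rfl, rfl, rfl⟩

theorem eq_vec_of_mem_radZa {g : U4 K} (hg : g ∈ radZa K) : g = U4.vec (g.a, 0, 0) := by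
  obtain ⟨h1, h2, h3⟩ := hg
  ext <;> simp [h1, h2, h3]

namespace U4

variable [CharP K 2]

/-- A shear of the radical. -/
def twistIso (δ ε : K →+ K) : U4 K ≃* U4 K where
  toFun g := ⟨g.s, g.a + ε g.c, g.b + δ g.c, g.c⟩
  invFun g := ⟨g.s, g.a + ε g.c, g.b + δ g.c, g.c⟩
  left_inv g := by ext <;> simp [add_assoc, CharTwo.add_self_eq_zero]
  right_inv g := by ext <;> simp [add_assoc, CharTwo.add_self_eq_zero]
  map_mul' g h := by
    ext <;> simp [CharTwo.two_eq_zero] <;> ring

theorem twistIso_apply (δ ε : K →+ K) (g : U4 K) :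
    twistIso δ ε g = ⟨g.s, g.a + ε g.c, g.b + δ g.c, g.c⟩ := rfl

omit [CharP K 2] in
/-- Rescaling the complement. -/
def muIso (m : Kˣ) : U4 K ≃* U4 K where
  toFun g := ⟨m * g.s, m ^ 2 * g.a, m * g.b, g.c⟩
  invFun g := ⟨m⁻¹ * g.s, (m : K)⁻¹ ^ 2 * g.a, m⁻¹ * g.b, g.c⟩
  left_inv g := by ext <;> simp
  right_inv g := by ext <;> simp
  map_mul' g h := by ext <;> simp <;> ring

variable [Fintype K]

theorem pow_four_eq (hK : Fintype.card K ≤ 4) (x : K) : x ^ 4 = x := by
  obtain ⟨n, -, hn⟩ := FiniteField.card K 2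
  have h7 : (n : ℕ) = 1 ∨ (n : ℕ) = 2 := by
    have h8 := n.pos
    by_contra hne
    have : 2 ^ 3 ≤ 2 ^ (n : ℕ) := Nat.pow_le_pow_right (by norm_num) (by omega)
    omega
  have h := FiniteField.pow_card x
  rcases h7 with h7 | h7
  · rw [hn, h7, pow_one] at h
    calc x ^ 4 = (x ^ 2) ^ 2 := by ring
      _ = x := by rw [h, h]
  · rwa [hn, h7] at h

theorem pow_three_eq (hK : Fintype.card K ≤ 4) {x : K} (hx : x ≠ 0) : x ^ 3 = 1 :=
  mul_left_cancel₀ hx (by rw [mul_one]; exact (pow_succ' x 3).symm.trans (pow_four_eq hK x))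

/-- For at most four elements, the exchange of the two axes preserving the radicals. -/
def thetaIso (hK : Fintype.card K ≤ 4) : U4 K ≃* U4 K where
  toFun g := ⟨g.s ^ 2, g.b, g.a, g.c⟩
  invFun g := ⟨g.s ^ 2, g.b, g.a, g.c⟩
  left_inv g := by
    ext
    · show (g.s ^ 2) ^ 2 = g.s
      rw [← pow_mul]; exact pow_four_eq hK g.s
    all_goals rfl
  right_inv g := by
    ext
    · show (g.s ^ 2) ^ 2 = g.s
      rw [← pow_mul]; exact pow_four_eq hK g.s
    all_goals rfl
  map_mul' g h := by
    have h2 : (2 : K) = 0 := CharTwo.two_eq_zero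
    ext
    · show (g.s + h.s) ^ 2 = g.s ^ 2 + h.s ^ 2
      rw [add_sq, h2]; ring
    · show g.b + h.b + g.s * h.c = g.b + h.b + 2 * g.s ^ 2 * h.a + (g.s ^ 2) ^ 2 * h.c
      rw [← pow_mul, show 2 * 2 = 4 by norm_num, pow_four_eq hK, h2]; ring
    · show g.a + h.a + 2 * g.s * h.b + g.s ^ 2 * h.c = g.a + h.a + g.s ^ 2 * h.c
      rw [h2]; ring
    · rfl

/-- The exchange of the two abelian radicals fixing the first axis. -/
noncomputable def deltaIso (hK : Fintype.card K ≤ 4) : U4 K ≃* U4 K :=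
  (graphIso (K := K)).trans (thetaIso hK)

theorem deltaIso_apply (hK : Fintype.card K ≤ 4) (g : U4 K) :
    deltaIso hK g = ⟨g.c ^ 2, g.a + g.c * g.s ^ 2, g.b ^ 2 + g.c ^ 2 * g.s ^ 2, g.s ^ 2⟩ := rfl

theorem deltaIso_vec_za (hK : Fintype.card K ≤ 4) (a : K) :
    deltaIso hK (vec (a, 0, 0)) = vec (a, 0, 0) := by
  rw [deltaIso_apply]; ext <;> simp

theorem deltaIso_mem_radA (hK : Fintype.card K ≤ 4) (g : U4 K) :
    (deltaIso hK g).s = 0 ↔ g.c = 0 := by
  rw [deltaIso_apply]; exact pow_eq_zero_iff two_ne_zero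

theorem deltaIso_c (hK : Fintype.card K ≤ 4) (g : U4 K) : (deltaIso hK g).c = 0 ↔ g.s = 0 := by
  rw [deltaIso_apply]; exact pow_eq_zero_iff two_ne_zero

end U4

variable {Ω : Type u} [Group Ω] {S : Subgroup Ω} {F : FusionSystem S} {p : ℕ}

theorem autGroup_congr {P Q : Subgroup Ω} (h : P = Q) {a : MulAut P} (ha : a ∈ F.autGroup P) :
    MulAut.congr (MulEquiv.subgroupCongr h) a ∈ F.autGroup Q := by
  subst h
  have : MulAut.congr (MulEquiv.subgroupCongr (rfl : P = P)) a = a :=
    MulEquiv.ext fun x => Subtype.ext rfl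
  rwa [this]

/-- Transport of `fixCore` along an equality of subgroups. -/
theorem exists_fix_congr {P Q : Subgroup Ω} (h : P = Q) (a : fixCore F P) :
    ∃ b : fixCore F Q, ∀ (x : Ω) (hP : x ∈ P) (hQ : x ∈ Q),
      ((((b : F.autGroup Q) : MulAut Q) ⟨x, hQ⟩ : Q) : Ω) =
        ((((a : F.autGroup P) : MulAut P) ⟨x, hP⟩ : P) : Ω) := by
  subst h
  exact ⟨a, fun x _ _ => rfl⟩

variable (e e' : U4 K ≃* S)

/-- Change of coordinates on the abelian radical. -/
theorem exists_coords (himg : img e' (U4.radA K) = img e (U4.radA K))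
    (M : K × K × K → K × K × K) (hM : ∀ v, el e' (U4.vec v) = el e (U4.vec (M v)))
    (g : fixCore F (img e' (U4.radA K))) :
    ∃ g' : fixCore F (img e (U4.radA K)), ∀ v, M (repA e' F g v) = repA e F g' (M v) := by
  obtain ⟨b, hb⟩ := exists_fix_congr himg g
  refine ⟨b, fun v => vecA_injective e (Subtype.ext ?_)⟩
  rw [repA_apply, repA_apply, vecA_actA, coe_vecA, ← hM, ← coe_vecA e', vecA_actA]
  have hmem : el e' (U4.vec v) ∈ img e (U4.radA K) := himg ▸ (el_mem_img e').2 rfl
  rw [show vecA e (M v) = ⟨el e' (U4.vec v), hmem⟩ from Subtype.ext (hM v).symm]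
  exact (hb _ _ hmem).symm

variable [Finite S] [Fact p.Prime]

/-- A subgroup of `Aut_F(S)` containing inner automorphisms and all squares is everything. -/
theorem mem_of_sq_mem (hS : IsPGroup 2 S) (hF : F.IsSaturated 2) (M : Subgroup (F.autGroup S))
    (hinn : ∀ a : F.autGroup S, (a : MulAut S) ∈ Inn S → a ∈ M) (a : F.autGroup S)
    (hsq : a ^ 2 ∈ M) : a ∈ M := by
  haveI : Fact (Nat.Prime 2) := ⟨Nat.prime_two⟩
  have := finite_mulAut (Ω := Ω) (le_refl S)
  obtain ⟨-, Y, hY⟩ := isFullyAutomized_self (F := F) hS hF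
  rw [autInducedBy_self] at hY
  have hYn : (Y : Subgroup (F.autGroup S)).Normal := by
    rw [hY]; exact inn_subgroupOf_normal S _
  obtain ⟨i, r, hr, hir⟩ := Nat.exists_eq_pow_mul_and_not_dvd (orderOf_pos a).ne' 2
    Nat.prime_two.ne_one
  have hp : IsPGroup 2 (Subgroup.zpowers (a ^ r)) := by
    rintro ⟨_, j, rfl⟩
    refine ⟨i, Subtype.ext ?_⟩
    show ((a ^ r) ^ j) ^ 2 ^ i = 1
    rw [← zpow_natCast ((a ^ r) ^ j), ← zpow_mul, mul_comm, zpow_mul, zpow_natCast, ← pow_mul,
      mul_comm r, ← hir, pow_orderOf_eq_one, one_zpow]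
  have hsup : IsPGroup 2 ↥(Subgroup.zpowers (a ^ r) ⊔ (Y : Subgroup (F.autGroup S))) :=
    hp.to_sup_of_normal_right Y.isPGroup'
  have hmem : a ^ r ∈ (Y : Subgroup (F.autGroup S)) := by
    rw [← Y.is_maximal' hsup le_sup_right]
    exact Subgroup.mem_sup_left (Subgroup.mem_zpowers _)
  rw [hY, Subgroup.mem_subgroupOf] at hmem
  obtain ⟨m, hm⟩ : ∃ m, r = 2 * m + 1 := Nat.odd_iff.2 (by omega)
  have : a ^ r * ((a ^ 2) ^ m)⁻¹ = a := by
    rw [hm, ← pow_mul, pow_succ']
    group
  rw [← this]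
  exact mul_mem (hinn _ hmem) (inv_mem (pow_mem hsq m))

theorem pull_mul_apply (α β : MulAut S) (g : U4 K) :
    pull e (α * β) g = pull e α (pull e β g) := by
  simp [pull, MulAut.mul_apply]

theorem pull_conj (x : S) (g : U4 K) :
    pull e (MulAut.conj x) g = e.symm x * g * (e.symm x)⁻¹ := by
  show e.symm (x * e g * x⁻¹) = _
  rw [map_mul, map_mul, map_inv, MulEquiv.symm_apply_apply]

variable [Fintype K] [CharP K 2] [Fact (Nat.Prime 2)]

omit [Fintype K] in
/-- `Aut_F(S)` preserves the abelian radical. -/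
theorem pull_radA [Finite K] (hS : IsPGroup 2 S) (hF : F.IsSaturated 2) {α : MulAut S}
    (hα : α ∈ F.autGroup S) (g : U4 K) (hg : g.s = 0) : (pull e α g).s = 0 := by
  let M : Subgroup (F.autGroup S) :=
    { carrier := {a | ∀ g : U4 K, g.s = 0 → (pull e (a : MulAut S) g).s = 0}
      one_mem' := fun g hg => by simpa [pull] using hg
      mul_mem' := fun {a b} ha hb g hg => by
        rw [Subgroup.coe_mul, pull_mul_apply]
        exact ha _ (hb g hg)
      inv_mem' := fun {a} ha g hg => by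
        have hinv : pull e (a : MulAut S) (pull e ((a⁻¹ : F.autGroup S) : MulAut S) g) = g := by
          rw [← pull_mul_apply, Subgroup.coe_inv, mul_inv_cancel]; simp [pull]
        rw [← U4.map_radA_iff (pull e (a : MulAut S)) ha, hinv]
        exact hg }
  refine mem_of_sq_mem hS hF M (fun a ha g hg => ?_) ⟨α, hα⟩ (fun g hg => ?_) g hg
  · obtain ⟨x, hx⟩ := ha
    rw [← hx, pull_conj]
    simp [hg]
  · rw [pow_two, Subgroup.coe_mul, pull_mul_apply]
    rcases U4.radA_or_radB CharTwo.two_eq_zero (pull e α) with h | h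
    · exact h _ (h g hg)
    · -- `α` exchanges the radicals
      rcases U4.radA_or_radB CharTwo.two_eq_zero ((pull e α).trans (pull e α)) with h' | h'
      · exact h' g hg
      · exfalso
        let f : {g : U4 K // g.s = 0} → {g : U4 K // g.c = 0} := fun x => ⟨pull e α x, h x x.2⟩
        have hcard : Nat.card {g : U4 K // g.s = 0} = Nat.card {g : U4 K // g.c = 0} := by
          refine Nat.card_congr ⟨fun x => ⟨U4.graphIso.symm x, ?_⟩, fun x => ⟨U4.graphIso x, ?_⟩,
            fun x => Subtype.ext (by simp), fun x => Subtype.ext (by simp)⟩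
          · have h3 := congrArg U4.s (U4.graphIso.apply_symm_apply x.1)
            rw [U4.graphIso_apply] at h3
            exact h3.trans x.2
          · rw [U4.graphIso_apply]
            exact x.2
        have hf : Function.Injective f := fun x y hxy =>
          Subtype.ext ((pull e α).injective (congrArg Subtype.val hxy))
        obtain ⟨y, hy⟩ := ((Nat.bijective_iff_injective_and_card f).2 ⟨hf, hcard⟩).2
          ⟨U4.sig 1, rfl⟩
        have h5 := h' y.1 y.2
        simp only [MulEquiv.trans_apply] at h5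
        rw [show pull e α y.1 = U4.sig 1 from congrArg Subtype.val hy] at h5
        -- `α` maps both radicals into `c = 0`
        obtain ⟨z, hz⟩ := (pull e α).surjective (U4.vec (0, 0, 1))
        obtain ⟨z', hz'⟩ : ∃ z', pull e α z' = z := (pull e α).surjective z
        have hB : ∀ x : U4 K, x.c = 0 → (pull e α x).c = 0 := fun x hx => by
          obtain ⟨w, hw⟩ := ((Nat.bijective_iff_injective_and_card f).2 ⟨hf, hcard⟩).2 ⟨x, hx⟩
          rw [← show pull e α w.1 = x from congrArg Subtype.val hw]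
          exact h' w.1 w.2
        have hall : ∀ x : U4 K, (pull e α x).c = 0 := fun x => by
          have hx : x = U4.vec (x.a, x.b, x.c) * U4.sig x.s := by ext <;> simp
          rw [hx, map_mul, U4.mul_c, h _ rfl, hB _ rfl, add_zero]
        have := hall z
        rw [hz] at this
        exact one_ne_zero this

/-- `Aut_F(S)` preserves the two axes. -/
theorem pull_axes [Finite K] (hS : IsPGroup 2 S) (hF : F.IsSaturated 2) {α : MulAut S}
    (hα : α ∈ F.autGroup S) : (∀ a, (pull e α (U4.vec (a, 0, 0))).b = 0) ∧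
      ∀ b, (pull e α (U4.vec (0, b, 0))).a = 0 := by
  have h2 : (2 : K) = 0 := CharTwo.two_eq_zero
  let M : Subgroup (F.autGroup S) :=
    { carrier := {a | ∀ x : K, (pull e (a : MulAut S) (U4.vec (x, 0, 0))).b = 0}
      one_mem' := fun x => by simp [pull]
      mul_mem' := fun {a b} ha hb x => by
        rw [Subgroup.coe_mul, pull_mul_apply, U4.map_vec _ (pull_radA e hS hF b.2) (x, 0, 0), hb,
          (U4.axes_two _ (pull_radA e hS hF b.2) h2).1]
        exact ha _
      inv_mem' := fun {a} ha x => by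
        rcases (U4.axes_two _ (pull_radA e hS hF (a⁻¹).2) h2).2 with h | h
        · exact h.1 x
        · exfalso
          have h5 := U4.map_vec (pull e ((a⁻¹ : F.autGroup S) : MulAut S))
            (pull_radA e hS hF (a⁻¹).2) (1, 0, 0)
          rw [h.1, (U4.axes_two _ (pull_radA e hS hF (a⁻¹).2) h2).1] at h5
          have h6 := congrArg (pull e (a : MulAut S)) h5
          rw [← pull_mul_apply, Subgroup.coe_inv, mul_inv_cancel] at h6
          have hA := pull_radA e hS hF a.2
          rcases (U4.axes_two _ hA h2).2 with hh | hh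
          · have := congrArg U4.a h6
            rw [hh.2] at this
            simp [pull] at this
          · have h7 := U4.map_vec (pull e (a : MulAut S)) hA (1, 0, 0)
            rw [hh.1, ha, (U4.axes_two _ hA h2).1] at h7
            have h8 : (U4.vec ((1 : K), 0, 0) : U4 K) = 1 := (pull e (a : MulAut S)).injective
              (by rw [h7, map_one]; ext <;> simp)
            exact one_ne_zero (congrArg U4.a h8) }
  have hM : ∀ x, (pull e α (U4.vec (x, 0, 0))).b = 0 := by
    refine mem_of_sq_mem hS hF M (fun a ha x => ?_) ⟨α, hα⟩ (fun x => ?_)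
    · obtain ⟨y, hy⟩ := ha
      rw [← hy, pull_conj]
      simp
    · rw [pow_two, Subgroup.coe_mul, pull_mul_apply]
      have hA := pull_radA e hS hF hα
      show (pull e α (pull e α (U4.vec (x, 0, 0)))).b = 0
      rw [U4.map_vec _ hA (x, 0, 0), (U4.axes_two _ hA h2).1]
      rcases (U4.axes_two _ hA h2).2 with h | h
      · rw [h.1]; exact h.1 _
      · rw [h.1]; exact h.2 _
  rcases (U4.axes_two _ (pull_radA e hS hF hα) h2).2 with h | h
  · exact h
  · exfalso
    have hA := pull_radA e hS hF hα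
    have h7 := U4.map_vec (pull e α) hA (1, 0, 0)
    rw [h.1, hM, (U4.axes_two _ hA h2).1] at h7
    have h8 : (U4.vec ((1 : K), 0, 0) : U4 K) = 1 :=
      (pull e α).injective (by rw [h7, map_one]; ext <;> simp)
    exact one_ne_zero (congrArg U4.a h8)

end Cfsg.Agent.Fusion.SpFour
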