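import Cfsg.Agent.Lib.Fusion.SpFour.SmallBasic
import Cfsg.Agent.Lib.Coprime.Generation

/-!
At most four elements: in a system that is not constrained, a nontrivial core is one axis of the
centre.
-/

set_option autoImplicit false
set_option linter.unusedSectionVars false

namespace Cfsg.Agent.Fusion.SpFour

open Cfsg Cfsg.FusionSystem

universe u

variable {K : Type*} [Field K] [Fintype K] [CharP K 2] [Fact (Nat.Prime 2)]

namespace Module

variable {G : Type*} [Group G] [Finite G] {ρ : G →* AddMonoid.End (K × K × K)} {σ : K → G}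

/-- For four elements the normaliser of the root group is larger than it. -/
theorem false_of_normalizer_eq (H : Hyp 2 ρ σ) (h4 : Fintype.card K = 4)
    (hN : ∀ h ∈ Subgroup.normalizer (Set.range σ), ∃ a, h = σ a) {g₀ : G}
    (hg₀ : g₀ ∉ Subgroup.normalizer (Set.range σ)) : False := by
  obtain ⟨P, hP⟩ := H.sylow
  have hPmem : ∀ x, x ∈ (P : Subgroup G) ↔ ∃ a, x = σ a := fun x =>
    ⟨fun hx => by obtain ⟨a, ha⟩ := hP.le hx; exact ⟨a, ha.symm⟩,
      fun ⟨a, ha⟩ => hP.ge ⟨a, ha.symm⟩⟩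
  have hNC : Subgroup.normalizer ((P : Subgroup G) : Set G) ≤
      Subgroup.centralizer ((P : Subgroup G) : Set G) := by
    intro h hh
    rw [hP] at hh
    obtain ⟨b, rfl⟩ := hN h hh
    refine Subgroup.mem_centralizer_iff.2 fun x hx => ?_
    obtain ⟨a, rfl⟩ := (hPmem x).1 hx
    rw [← H.add, ← H.add, add_comm]
  set C := (MonoidHom.transferSylow P hNC).ker with hC
  have hcompl := MonoidHom.ker_transferSylow_isComplement' P hNC
  have hPcard : Nat.card (P : Subgroup G) = 4 := by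
    have e : Nat.card (P : Subgroup G) = Nat.card (Set.range σ) := Nat.card_congr (Equiv.setCongr hP)
    rw [e, Nat.card_range_of_injective H.σ_inj, Nat.card_eq_fintype_card, h4]
  have hcop : (Nat.card (P : Subgroup G)).Coprime (Nat.card C) := by
    have hidx : (P : Subgroup G).index = Nat.card C := hcompl.index_eq_card
    have := P.not_dvd_index
    rw [hidx] at this
    rw [hPcard, show (4 : ℕ) = 2 ^ 2 by norm_num]
    exact Nat.Coprime.pow_left 2 ((Nat.Prime.coprime_iff_not_dvd Nat.prime_two).2 this)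
  have hcomm : IsMulCommutative (P : Subgroup G) := ⟨⟨fun x y => by
    obtain ⟨a, ha⟩ := (hPmem _).1 x.2
    obtain ⟨b, hb⟩ := (hPmem _).1 y.2
    refine Subtype.ext ?_
    rw [Subgroup.coe_mul, Subgroup.coe_mul, ha, hb, ← H.add, ← H.add, add_comm]⟩⟩
  have hncyc : ¬ IsCyclic (P : Subgroup G) := by
    intro hcyc
    obtain ⟨x, hx⟩ := IsCyclic.exists_ofOrder_eq_natCard (α := (P : Subgroup G))
    obtain ⟨a, ha⟩ := (hPmem _).1 x.2
    have h2 : x ^ 2 = 1 := Subtype.ext (by
      rw [Subgroup.coe_pow, ha, pow_two, ← H.add, CharTwo.add_self_eq_zero, H.σ_zero]; rfl)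
    have := orderOf_dvd_of_pow_eq_one h2
    rw [hx, hPcard] at this
    norm_num at this
  have hCbot : C = ⊥ := by
    refine ((Cfsg.Agent.Coprime.eq_of_forall_centralizer_le (A := (P : Subgroup G)) (K := C) hncyc
      Subgroup.le_normalizer_of_normal hcop bot_le fun a ha ha1 => ?_).symm)
    rintro x ⟨hxC, hxc⟩
    obtain ⟨s, hs⟩ := (hPmem a).1 ha
    have hxN : x ∈ Subgroup.normalizer (Set.range σ) := by
      by_contra hxN
      have he : x * σ s * x⁻¹ = σ s := by
        have := Subgroup.mem_centralizer_singleton_iff.1 hxc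
        rw [hs] at this
        rw [this, mul_inv_cancel_right]
      exact ha1 (by rw [hs, H.eq_zero_of_conj hxN he, H.σ_zero])
    obtain ⟨b, hb⟩ := hN x hxN
    exact Subgroup.mem_bot.2 ((Subgroup.disjoint_def.1 hcompl.disjoint) hxC ((hPmem x).2 ⟨b, hb⟩))
  refine hg₀ (H.mem_normalizer_of_maps fun a => ?_)
  have htop : (P : Subgroup G) = ⊤ := by
    have h := hcompl
    rw [← hC, hCbot, Subgroup.isComplement'_bot_left] at h
    exact h
  exact (hPmem _).1 (htop ▸ Subgroup.mem_top _)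

/-- For two elements the point `(1, 1, 0)` is not fixed. -/
theorem false_of_diag_two (H : Hyp 2 ρ σ) (hK : Fintype.card K = 2)
    (hfix : ∀ g, ρ g (1, 1, 0) = (1, 1, 0)) {g₀ : G}
    (hg₀ : g₀ ∉ Subgroup.normalizer (Set.range σ)) : False := by
  classical
  have h01 : ∀ a : K, a = 0 ∨ a = 1 := by
    intro a
    by_contra hne
    push Not at hne
    have hc : ({0, 1, a} : Finset K).card = 3 := by
      rw [Finset.card_insert_of_notMem, Finset.card_insert_of_notMem, Finset.card_singleton] <;>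
        simp [Ne.symm hne.1, Ne.symm hne.2]
    have := hc ▸ Finset.card_le_univ ({0, 1, a} : Finset K)
    omega
  set m : K → K × K × K := fun c => (c, c, 0) with hm
  have hmfix : ∀ g c, ρ g (m c) = m c := by
    intro g c
    rcases h01 c with rfl | rfl
    · exact map_zero (ρ g)
    · exact hfix g
  have hσ : ∀ v, ρ (σ 1) v = v + m v.2.2 := fun v => by
    rw [H.form]
    refine Prod.ext ?_ (Prod.ext ?_ ?_) <;> simp [upper, hm, CharTwo.two_eq_zero]
  have ht : ∀ v, ρ (g₀ * σ 1 * g₀⁻¹) v = v + m (ρ g₀⁻¹ v).2.2 := fun v => by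
    rw [apply_conj, hσ, map_add, hmfix, cancel']
  have hm0 : ∀ g c, (ρ g (m c)).2.2 = 0 := fun g c => by rw [hmfix]
  have hcomm : g₀ * σ 1 * g₀⁻¹ * σ 1 = σ 1 * (g₀ * σ 1 * g₀⁻¹) := by
    refine H.inj (DFunLike.ext _ _ fun v => ?_)
    rw [apply_mul, apply_mul (g := σ 1), ht, hσ, hσ, ht, map_add]
    simp only [Prod.snd_add, hm0, add_zero]
    rw [show (m (ρ g₀⁻¹ v).2.2).2.2 = 0 from rfl, add_zero]
    abel
  have hN : g₀ * σ 1 * g₀⁻¹ ∈ Subgroup.normalizer (Set.range σ) := by
    refine H.mem_normalizer_of_maps fun a => ?_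
    rcases h01 a with rfl | rfl
    · exact ⟨0, by rw [H.σ_zero]; simp⟩
    · exact ⟨1, by rw [hcomm, mul_inv_cancel_right]⟩
  obtain ⟨b, hb⟩ := H.conj_eq_σ hN
  exact one_ne_zero (H.eq_zero_of_conj hg₀ hb)

end Module

variable {Ω : Type u} [Group Ω] {S : Subgroup Ω} {F : FusionSystem S} [Finite S]
variable (e : U4 K ≃* S) (hS : IsPGroup 2 S) (hF : F.IsSaturated 2)
variable (hX : F.core ≤ centralizerIn S S)

omit [Fintype K] [CharP K 2] in
theorem isFullyNormalized_img_radA : F.IsFullyNormalized (img e (U4.radA K)) :=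
  isFullyNormalized_of_le_normalizer (img_le e _) (le_normalizer_img e radA_normal)

include hS hF hX

/-- The core avoids the points off the axes. -/
theorem core_axis (hK : Fintype.card K ≤ 4) (hr : F.IsRadical 2 (img e (U4.radA K))) {g : U4 K}
    (hg : el e g ∈ F.core) : g.a = 0 ∨ g.b = 0 := by
  by_contra hne
  push Not at hne
  obtain ⟨ha, hb⟩ := hne
  obtain ⟨h1, h4, -⟩ := U4.mem_center.1 ((el_mem_zc e).1 (hX hg))
  set m : Kˣ := Units.mk0 (g.a / g.b) (div_ne_zero ha hb)
  set l : Kˣ := Units.mk0 (g.b ^ 2 / g.a) (div_ne_zero (pow_ne_zero 2 hb) ha)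
  set e' := (U4.muIso m).trans ((U4.scaleIso l).trans e) with he'
  have himg : img e' (U4.radA K) = img e (U4.radA K) :=
    img_trans ((U4.scaleIso l).trans e) _ (H' := U4.radA K) (fun x => by
      rw [U4.mem_radA, U4.mem_radA]
      exact mul_eq_zero.trans (or_iff_right m.ne_zero)) |>.trans
      (img_trans e _ fun x => by rw [U4.mem_radA, U4.mem_radA]; rfl)
  have hn := isFullyNormalized_img_radA (F := F) e'
  have hx : el e' (U4.vec (1, 1, 0)) ∈ F.core := by
    have : U4.scaleIso l (U4.muIso m (U4.vec (1, 1, 0))) = g := by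
      ext <;> simp [U4.scaleIso, U4.muIso, h1, h4, m, l] <;> field_simp
    show el e (U4.scaleIso l (U4.muIso m (U4.vec (1, 1, 0)))) ∈ F.core
    rw [this]
    exact hg
  have := finite_of_le (Ω := Ω) hn.1
  have := finite_mulAut (Ω := Ω) hn.1
  have H := hyp_repA e' hS hF hX hn
  have hfix : ∀ h, repA e' F h (1, 1, 0) = (1, 1, 0) := fun h => by
    rw [repA_apply]
    refine vecA_injective e' ?_
    rw [vecA_actA]
    exact h.2 _ hx
  obtain ⟨g₀, hg₀⟩ := exists_notMem_normalizer e' hS hF hX hn (himg ▸ hr)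
  obtain ⟨n, -, hn'⟩ := FiniteField.card K 2
  have hn2 : Fintype.card K = 2 ∨ Fintype.card K = 4 := by
    have h8 := n.pos
    have : (n : ℕ) < 3 := by
      by_contra hge
      have : 2 ^ 3 ≤ 2 ^ (n : ℕ) := Nat.pow_le_pow_right (by norm_num) (by omega)
      omega
    rcases (show (n : ℕ) = 1 ∨ (n : ℕ) = 2 by omega) with h | h <;> rw [hn', h] <;> norm_num
  rcases hn2 with h2 | h2
  · exact Module.false_of_diag_two H h2 hfix hg₀
  refine Module.false_of_normalizer_eq H h2 (fun h hh => ?_) hg₀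
  obtain ⟨α, hα, hA, hv⟩ := exists_pull e' hS hF hX hn hh
  obtain ⟨hz, hπ⟩ := pull_axes e' hS hF hα
  obtain ⟨φ₁, ω, φ, o₁, o₂, hs⟩ := U4.exists_shape_two (pull e' α) hA CharTwo.two_eq_zero hz hπ
  obtain ⟨h0, h0'⟩ := U4.zero_of_shape hs
  rw [zero_add] at h0
  have hval : ∀ a b c, repA e' F h (a, b, c) =
      (φ₁ ^ 2 * ω * φ a + o₁ c, φ₁ * ω * φ b + o₂ c, ω * φ c) := fun a b c => by
    have h := (hv (a, b, c)).symm.trans (hs.2.2.2 a b c)
    have k1 := congrArg U4.a h
    have k2 := congrArg U4.b h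
    have k3 := congrArg U4.c h
    simp only [add_zero] at k1
    exact Prod.ext k1 (Prod.ext k2 k3)
  have k := (hval 1 1 0).symm.trans (hfix h)
  have k1 : φ₁ ^ 2 * ω = 1 := by simpa [h0] using congrArg Prod.fst k
  have k2 : φ₁ * ω = 1 := by simpa [h0'] using congrArg (fun v => v.2.1) k
  have hφ₁ : φ₁ = 1 := by linear_combination k1 - φ₁ * k2
  have hω : ω = 1 := by rwa [hφ₁, one_mul] at k2
  refine H.eq_σ_of_pow hh (k := 2) (H.inj (DFunLike.ext _ _ fun v => ?_))
  obtain ⟨a, b, c⟩ := v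
  rw [show (2 : ℕ) ^ 2 = 2 + 2 by norm_num, pow_add, pow_two, map_one]
  simp only [Module.apply_mul, hval, hφ₁, hω, one_pow, one_mul]
  show _ = (a, b, c)
  have hh : ∀ x, φ (φ x) = x := fun x => Module.ringEquiv_sq_eq hK x
  refine Prod.ext ?_ (Prod.ext ?_ ?_) <;> simp only [map_add, hh]
  · linear_combination (φ (o₁ c) + o₁ (φ c)) * CharTwo.two_eq_zero (R := K)
  · linear_combination (φ (o₂ c) + o₂ (φ c)) * CharTwo.two_eq_zero (R := K)

include e in
/-- Coordinates in which the core is inside the first axis and meets `(1, 0, 0)`. -/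
theorem exists_za_coords (hK : Fintype.card K ≤ 4) (hnc : ¬ F.IsConstrained 2)
    (hcore : F.core ≠ ⊥) : ∃ e' : U4 K ≃* S,
      el e' (U4.vec (1, 0, 0)) ∈ F.core ∧ ∀ g, el e' g ∈ F.core → g ∈ radZa K := by
  obtain ⟨hrA, -⟩ := both_radical e hS hF hcore hnc
  have hax : ∀ g, el e g ∈ F.core → (g.s = 0 ∧ g.c = 0) ∧ (g.a = 0 ∨ g.b = 0) := fun g hg => by
    obtain ⟨h1, h4, -⟩ := U4.mem_center.1 ((el_mem_zc e).1 (hX hg))
    exact ⟨⟨h1, h4⟩, core_axis e hS hF hX hK hrA hg⟩
  by_cases h : ∃ g, el e g ∈ F.core ∧ g.a ≠ 0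
  · obtain ⟨g, hg, ha⟩ := h
    obtain ⟨⟨h1, h4⟩, hor⟩ := hax g hg
    have hb := hor.resolve_left ha
    refine ⟨(U4.scaleIso (Units.mk0 g.a ha)).trans e, ?_, fun x hx => ?_⟩
    · show el e (U4.scaleIso (Units.mk0 g.a ha) (U4.vec (1, 0, 0))) ∈ F.core
      rwa [show U4.scaleIso (Units.mk0 g.a ha) (U4.vec (1, 0, 0)) = g by
        ext <;> simp [U4.scaleIso, h1, h4, hb]]
    · change el e (U4.scaleIso (Units.mk0 g.a ha) x) ∈ F.core at hx
      obtain ⟨⟨k1, k4⟩, kor⟩ := hax _ hx
      have hxg := hax (U4.scaleIso (Units.mk0 g.a ha) x * g) (by rw [el_mul]; exact mul_mem hx hg)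
      simp [U4.scaleIso, ha, hb, h4] at k1 k4 kor hxg
      refine ⟨k1, ?_, k4⟩
      rcases kor with k | k
      · simp [k, k1, k4, ha] at hxg
        exact hxg.2
      · exact k
  · push Not at h
    obtain ⟨y, hy, hy1⟩ := F.core.bot_or_exists_ne_one.resolve_left hcore
    obtain ⟨g, rfl⟩ := exists_el e ((isNormal_core F).1 hy)
    obtain ⟨⟨h1, h4⟩, -⟩ := hax g hy
    have ha := h g hy
    have hb : g.b ≠ 0 := fun hb => hy1 (by rw [show g = 1 from U4.ext h1 ha hb h4, el_one])
    refine ⟨(U4.thetaIso hK).trans ((U4.scaleIso (Units.mk0 g.b hb)).trans e), ?_, fun x hx => ?_⟩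
    · show el e (U4.scaleIso (Units.mk0 g.b hb) (U4.thetaIso hK (U4.vec (1, 0, 0)))) ∈ F.core
      rwa [show U4.scaleIso (Units.mk0 g.b hb) (U4.thetaIso hK (U4.vec (1, 0, 0))) = g by
        ext <;> simp [U4.scaleIso, U4.thetaIso, h1, h4, ha]]
    · change el e (U4.scaleIso (Units.mk0 g.b hb) (U4.thetaIso hK x)) ∈ F.core at hx
      obtain ⟨⟨k1, k4⟩, -⟩ := hax _ hx
      have ka := h _ hx
      simp [U4.scaleIso, U4.thetaIso, hb] at k1 k4 ka
      exact ⟨k1, ka, k4⟩

variable (hx : el e (U4.vec (1, 0, 0)) ∈ F.core)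
include hx

theorem shapes_za : Module.Shapes (repA e F) (sigG e hX) :=
  shapes_repA e hS hF hX (isFullyNormalized_img_radA e) hx (Or.inl rfl)

omit hS hF hX [Fintype K] [CharP K 2] [Fact (Nat.Prime 2)] [Finite S] in
theorem repA_fix_one (g : fixCore F (img e (U4.radA K))) :
    repA e F g (1, 0, 0) = (1, 0, 0) := by
  rw [repA_apply]
  refine vecA_injective e ?_
  rw [vecA_actA]
  exact g.2 _ hx

theorem repA_za (hK : Fintype.card K ≤ 4) (g : fixCore F (img e (U4.radA K))) (a : K) :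
    repA e F g (a, 0, 0) = (a, 0, 0) := by
  have hn := isFullyNormalized_img_radA (F := F) e
  have := finite_of_le (Ω := Ω) hn.1
  have := finite_mulAut (Ω := Ω) hn.1
  exact Module.za_fixed (hyp_repA e hS hF hX hn) (shapes_za e hS hF hX hx)
    (repA_fix_one e hx) hK g a

omit hx in
/-- An automorphism of the abelian radical is one fixing the core followed by one extending to `S`. -/
theorem exists_decomp {a : MulAut (img e (U4.radA K))} (ha : a ∈ F.autGroup (img e (U4.radA K))) :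
    ∃ g : fixCore F (img e (U4.radA K)), ∃ α ∈ F.autGroup S,
      ∀ v, pull e α (U4.vec (repA e F g v)) = U4.vec (actA e a v) := by
  have hn := isFullyNormalized_img_radA (F := F) e
  have := finite_of_le (Ω := Ω) hn.1
  have := finite_mulAut (Ω := Ω) hn.1
  obtain ⟨-, Y, hY⟩ := isFullyAutomized_of_fullyNormalized hS hF hn
  have hYle : (Y : Subgroup (F.autGroup _)) ≤ fixCore F (img e (U4.radA K)) := by
    intro c hc
    rw [hY] at hc
    obtain ⟨s, hs⟩ := (autInducedBy_eq e _).1 (Subgroup.mem_subgroupOf.1 hc)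
    rw [show c = (sigG e hX s).1 from Subtype.ext hs]
    exact (sigG e hX s).2
  haveI := fixCore_normal (F := F) (img_le e (U4.radA K))
  have htop := Sylow.normalizer_sup_eq_top' Y hYle
  obtain ⟨h, hh, g, hg, hhg⟩ := Subgroup.mem_sup_of_normal_right.1
    (htop ▸ Subgroup.mem_top (⟨a, ha⟩ : F.autGroup _))
  obtain ⟨α, hα, hext⟩ := exists_extend_top (le_normalizer_img e radA_normal)
    (isReceptive_of_fullyNormalized hS hF hn) h.2 fun c hc => by
      have hcm : c ∈ F.autGroup (img e (U4.radA K)) :=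
        autInducedBy_le_autGroup F (img_le e _) hc
      have h1 : (⟨c, hcm⟩ : F.autGroup _) ∈ (Y : Subgroup (F.autGroup _)) := by
        rw [hY]; exact hc
      have h2 := (Subgroup.mem_normalizer_iff.1 hh ⟨c, hcm⟩).1 h1
      rw [hY] at h2
      exact h2
  refine ⟨⟨g, hg⟩, α, hα, fun v => (el_inj e).1 ?_⟩
  rw [el_pull]
  refine (hext (vecA e _) (el_mem e _)).trans ?_
  rw [← coe_vecA e (actA e a v), vecA_actA, repA_apply, vecA_actA]
  exact congrArg Subtype.val (congrFun (congrArg (fun z : F.autGroup (img e (U4.radA K)) =>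
    ((z : MulAut (img e (U4.radA K))) : img e (U4.radA K) → img e (U4.radA K))) hhg) (vecA e v))

/-- The first axis is invariant on the abelian radical. -/
theorem autGroup_radA_za (hK : Fintype.card K ≤ 4) {a : MulAut (img e (U4.radA K))}
    (ha : a ∈ F.autGroup (img e (U4.radA K))) (x : K) : (actA e a (x, 0, 0)).2 = 0 := by
  obtain ⟨g, α, hα, hv⟩ := exists_decomp e hS hF hX ha
  have h := hv (x, 0, 0)
  rw [repA_za e hS hF hX hx hK] at h
  refine Prod.ext ?_ ?_
  · have := congrArg U4.b h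
    rw [(pull_axes e hS hF hα).1] at this
    exact this.symm
  · have := congrArg U4.c h
    rw [(U4.axes_two _ (pull_radA e hS hF hα) CharTwo.two_eq_zero).1] at this
    exact this.symm

/-- The core is the first axis. -/
theorem core_eq_za (hK : Fintype.card K ≤ 4) (hnc : ¬ F.IsConstrained 2)
    (hle : ∀ g, el e g ∈ F.core → g ∈ radZa K) : F.core = img e (radZa K) := by
  have hcore : F.core ≠ ⊥ := fun h => by
    have h1 := (el_inj e).1 ((Subgroup.mem_bot.1 (h ▸ hx : _ ∈ (⊥ : Subgroup Ω))).trans (el_one e).symm)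
    exact one_ne_zero (congrArg U4.a h1)
  refine le_antisymm (fun y hy => ?_) (le_core ?_)
  · obtain ⟨g, rfl⟩ := exists_el e ((isNormal_core F).1 hy)
    exact (el_mem_img e).2 (hle g hy)
  have main : ∀ (e : U4 K ≃* S), el e (U4.vec (1, 0, 0)) ∈ F.core →
      ∀ a ∈ F.autGroup (img e (U4.radA K)), ∀ z : img e (U4.radA K),
        (z : Ω) ∈ img e (radZa K) → ((a z : _) : Ω) ∈ img e (radZa K) := by
    intro e hx a ha z hz
    obtain ⟨g, hg, hgz⟩ := exists_el_of_img e hz
    have hz' : z = vecA e (g.a, 0, 0) := Subtype.ext (by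
      rw [← hgz, coe_vecA, ← eq_vec_of_mem_radZa hg])
    rw [hz', ← vecA_actA, coe_vecA, el_mem_img]
    have h2 := autGroup_radA_za e hS hF hX hx hK ha g.a
    exact ⟨rfl, congrArg Prod.fst h2, congrArg Prod.snd h2⟩
  have hsub : ∀ R : Subgroup Ω, (∀ a ∈ F.autGroup R, ∀ z : R,
      (z : Ω) ∈ img e (radZa K) → ((a z : R) : Ω) ∈ img e (radZa K)) →
      ∀ a ∈ F.autGroup R, ((img e (radZa K)).subgroupOf R).map a.toMonoidHom =
        (img e (radZa K)).subgroupOf R := by
    intro R h a ha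
    refine le_antisymm ?_ fun y hy => ⟨a⁻¹ y, h _ (inv_mem ha) y hy, MulAut.apply_inv_self R a y⟩
    rintro _ ⟨z, hz, rfl⟩
    exact h a ha z hz
  refine isNormal_of_invariant hS hF (img_le e _) (hsub S fun β hβ z hz => ?_)
    fun R hR hnR hgen => ?_
  · obtain ⟨g, hg, hgz⟩ := exists_el_of_img e hz
    rw [show z = ⟨el e g, el_mem e g⟩ from Subtype.ext hgz.symm, ← el_pull, el_mem_img,
      eq_vec_of_mem_radZa hg]
    exact ⟨pull_radA e hS hF hβ _ rfl, (pull_axes e hS hF hβ).1 _,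
      (U4.axes_two _ (pull_radA e hS hF hβ) CharTwo.two_eq_zero).1 _ _⟩
  · obtain ⟨hcR, hrR⟩ := centric_radical_of_not_generated hS hF hnR hgen
    rcases radical_cases e hS hF hcore hnc hnR hcR hrR with h | h | ⟨-, h⟩ | ⟨h, -⟩
    · exact absurd h hR.ne
    · subst h
      refine ⟨Subgroup.map_mono fun g hg => hg.1, hsub _ (main e hx)⟩
    · subst h
      refine ⟨Subgroup.map_mono fun g hg => mem_radB.2 hg.2.2, hsub _ ?_⟩
      set e' := (U4.deltaIso hK).trans e with he'
      have hA : img e' (U4.radA K) = img e (radB K) := img_trans e _ fun g => by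
        rw [mem_radB, U4.mem_radA]; exact U4.deltaIso_c hK g
      have hZ : img e' (radZa K) = img e (radZa K) := by
        refine le_antisymm ?_ ?_
        · rintro _ ⟨g, hg, rfl⟩
          refine ⟨g, hg, ?_⟩
          show ((e g : S) : Ω) = ((e (U4.deltaIso hK g) : S) : Ω)
          rw [eq_vec_of_mem_radZa hg, U4.deltaIso_vec_za]
        · rintro _ ⟨g, hg, rfl⟩
          refine ⟨g, hg, ?_⟩
          show ((e (U4.deltaIso hK g) : S) : Ω) = ((e g : S) : Ω)
          rw [eq_vec_of_mem_radZa hg, U4.deltaIso_vec_za]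
      have hx' : el e' (U4.vec (1, 0, 0)) ∈ F.core := by
        show el e (U4.deltaIso hK (U4.vec (1, 0, 0))) ∈ F.core
        rwa [U4.deltaIso_vec_za]
      rw [← hZ, ← hA]
      exact main e' hx'
    · exact absurd CharTwo.two_eq_zero h

end Cfsg.Agent.Fusion.SpFour
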