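import Mathlib

/-!
Functions of bounded additive degree on a finite vector space over `ZMod p` have sum zero, and the
resulting criterion for a vector fixed by the normaliser of a trivial-intersection subgroup to be
fixed by the whole group.
-/

set_option autoImplicit false

namespace Cfsg.Agent.Fusion.SpFour

variable {D W W' W'' : Type*} [AddCommGroup D] [AddCommGroup W] [AddCommGroup W'] [AddCommGroup W'']

/-- All differences of order greater than `k` vanish. -/
def Deg : ℕ → (D → W) → Prop
  | 0, f => ∀ x y, f x = f y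
  | k + 1, f => ∀ h, Deg k (fun x => f (x + h) - f x)

theorem deg_const (k : ℕ) (w : W) : Deg k (fun _ : D => w) := by
  induction k generalizing w with
  | zero => exact fun _ _ => rfl
  | succ k ih => intro h; simpa using ih (0 : W)

theorem Deg.succ {k : ℕ} {f : D → W} (hf : Deg k f) : Deg (k + 1) f := by
  induction k generalizing f with
  | zero => intro h x y; simp [hf (x + h) x, hf (y + h) y]
  | succ k ih => intro h; exact ih (hf h)

theorem Deg.mono {j k : ℕ} (hjk : j ≤ k) {f : D → W} (hf : Deg j f) : Deg k f := by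
  induction k, hjk using Nat.le_induction with
  | base => exact hf
  | succ k _ ih => exact ih.succ

theorem Deg.translate {k : ℕ} {f : D → W} (hf : Deg k f) (a : D) : Deg k (fun x => f (x + a)) := by
  induction k generalizing f with
  | zero => exact fun x y => hf _ _
  | succ k ih =>
    intro h
    have := ih (hf h)
    simpa [add_right_comm] using this

theorem Deg.add {k : ℕ} {f g : D → W} (hf : Deg k f) (hg : Deg k g) : Deg k (fun x => f x + g x) := by
  induction k generalizing f g with
  | zero => intro x y; show f x + g x = f y + g y; rw [hf x y, hg x y]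
  | succ k ih =>
    intro h
    have := ih (hf h) (hg h)
    simpa [add_sub_add_comm] using this

theorem Deg.comp {k : ℕ} {f : D → W} (hf : Deg k f) (L : W →+ W') : Deg k (fun x => L (f x)) := by
  induction k generalizing f with
  | zero => intro x y; show L (f x) = L (f y); rw [hf x y]
  | succ k ih =>
    intro h
    have := ih (hf h)
    simpa using this

theorem deg_addHom (L : D →+ W) : Deg 1 (fun x => L x) := fun h x y => by simp

theorem deg_quadratic (B : D →+ D →+ W) : Deg 2 (fun x => B x x) := by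
  intro h
  have e : (fun x => B (x + h) (x + h) - B x x) = fun x => (B.flip h x + B h x) + B h h := by
    funext x
    simp [AddMonoidHom.flip_apply]
    abel
  rw [e]
  exact ((deg_addHom (B.flip h)).add (deg_addHom (B h))).add (deg_const 1 _)

theorem Deg.map₂ (β : W →+ W' →+ W'') {a b : ℕ} {f : D → W} {g : D → W'} (hf : Deg a f)
    (hg : Deg b g) : Deg (a + b) (fun x => β (f x) (g x)) := by
  generalize hn : a + b = n
  induction n generalizing a b f g with
  | zero =>
    obtain ⟨rfl, rfl⟩ : a = 0 ∧ b = 0 := by omega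
    intro x y
    show β (f x) (g x) = β (f y) (g y)
    rw [hf x y, hg x y]
  | succ n ih =>
    intro h
    have e : (fun x => β (f (x + h)) (g (x + h)) - β (f x) (g x)) =
        fun x => β (f (x + h) - f x) (g (x + h)) + β (f x) (g (x + h) - g x) := by
      funext x; simp
    rw [e]
    refine Deg.add ?_ ?_
    · rcases a with - | a
      · have : (fun x => β (f (x + h) - f x) (g (x + h))) = fun _ => (0 : W'') := by
          funext x; simp [hf (x + h) x]
        rw [this]; exact deg_const n _
      · exact ih (hf h) (hg.translate h) (by omega)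
    · rcases b with - | b
      · have : (fun x => β (f x) (g (x + h) - g x)) = fun _ => (0 : W'') := by
          funext x; simp [hg (x + h) x]
        rw [this]; exact deg_const n _
      · exact ih hf (hg h) (by omega)

theorem fwdDiff_deg_iter {k : ℕ} {f : D → W} (hf : Deg k f) (h : D) (m : ℕ) :
    (m ≤ k → Deg (k - m) ((fwdDiff h)^[m] f)) ∧ (k < m → (fwdDiff h)^[m] f = 0) := by
  induction m with
  | zero => exact ⟨fun _ => hf, fun hk => absurd hk (Nat.not_lt_zero k)⟩
  | succ m ih =>
    rw [Function.iterate_succ_apply']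
    refine ⟨fun hm => ?_, fun hm => ?_⟩
    · have h1 := ih.1 (by omega)
      rw [show k - m = (k - (m + 1)) + 1 by omega] at h1
      exact h1 h
    · rcases Nat.lt_or_ge k m with hk | hk
      · rw [ih.2 hk]; funext x; simp [fwdDiff]
      · have h1 := ih.1 hk
        rw [show k - m = 0 by omega] at h1
        funext x
        simp [fwdDiff, h1 (x + h) x]

theorem choose_pred_mod {p : ℕ} [Fact p.Prime] : ∀ j, j < p →
    (((p - 1).choose j : ℕ) : ZMod p) = (-1) ^ j := by
  intro j hj
  induction j with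
  | zero => simp
  | succ j ih =>
    have hp := (Fact.out : p.Prime)
    have h1 : ((p.choose (j + 1) : ℕ) : ZMod p) = 0 :=
      (ZMod.natCast_eq_zero_iff ..).2 (hp.dvd_choose_self (by omega) hj)
    have h2 : p.choose (j + 1) = (p - 1).choose j + (p - 1).choose (j + 1) := by
      conv_lhs => rw [← Nat.sub_add_cancel hp.one_le]
      exact Nat.choose_succ_succ' _ _
    rw [h2, Nat.cast_add, ih (by omega)] at h1
    rw [pow_succ, mul_neg_one]
    exact eq_neg_of_add_eq_zero_right h1

theorem sum_zmod_smul {p : ℕ} [Fact p.Prime] (hW : ∀ w : W, p • w = 0) (f : D → W) (h : D)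
    (hh : p • h = 0) (x : D) :
    (fwdDiff h)^[p - 1] f x = ∑ i : ZMod p, f (x + i.val • h) := by
  letI : Module (ZMod p) W := AddCommGroup.zmodModule hW
  have hp := (Fact.out : p.Prime)
  rw [fwdDiff_iter_eq_sum_shift, Nat.sub_add_cancel hp.one_le,
    Finset.sum_range fun k => ((-1 : ℤ) ^ (p - 1 - k) * (p - 1).choose k) • f (x + k • h)]
  refine Fintype.sum_equiv (ZMod.finEquiv p).toEquiv _ _ fun k => ?_
  have hv : ((ZMod.finEquiv p k).val) = (k : ℕ) := by
    rcases p with - | p
    · exact absurd hp Nat.not_prime_zero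
    · rfl
  rw [RingEquiv.toEquiv_eq_coe, RingEquiv.coe_toEquiv, hv, ← Int.cast_smul_eq_zsmul (ZMod p)]
  have hc : ((((-1 : ℤ) ^ (p - 1 - (k : ℕ)) * (p - 1).choose k) : ℤ) : ZMod p) = 1 := by
    push_cast
    rw [choose_pred_mod _ k.2, ← pow_add, Nat.sub_add_cancel (by omega)]
    exact ZMod.pow_card_sub_one_eq_one (neg_ne_zero.2 one_ne_zero)
  rw [hc, one_smul]

/-- A function of degree less than `n (p - 1)` on a space of dimension `n` has sum zero. -/
theorem sum_eq_zero_of_deg {p : ℕ} [Fact p.Prime] (hW : ∀ w : W, p • w = 0) :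
    ∀ {n k : ℕ} {f : (Fin n → ZMod p) → W}, Deg k f → k < n * (p - 1) → ∑ x, f x = 0 := by
  intro n
  induction n with
  | zero => intro k f _ hk; omega
  | succ n ih =>
    intro k f hf hk
    rw [← (Fin.consEquiv fun _ => ZMod p).sum_comp, Fintype.sum_prod_type, Finset.sum_comm]
    set e : Fin (n + 1) → ZMod p := Fin.cons 1 0
    have hg : (fun x : Fin n → ZMod p => ∑ a : ZMod p, f (Fin.consEquiv (fun _ => ZMod p) (a, x))) =
        fun x => (fwdDiff e)^[p - 1] f (Fin.cons 0 x) := by
      funext x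
      rw [sum_zmod_smul hW f e (ZModModule.char_nsmul_eq_zero p e)]
      refine Finset.sum_congr rfl fun a _ => congrArg f ?_
      funext j
      refine Fin.cases ?_ (fun i => ?_) j <;> (rw [Pi.add_apply, Pi.smul_apply]; simp [e])
    rcases Nat.lt_or_ge k (p - 1) with hlt | hge
    · refine Finset.sum_eq_zero fun x _ => ?_
      rw [congrFun hg x, (fwdDiff_deg_iter hf e (p - 1)).2 hlt]
      rfl
    · have hd : Deg (k - (p - 1)) (fun x : Fin n → ZMod p =>
          (fwdDiff e)^[p - 1] f (Fin.cons 0 x)) := by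
        have key : ∀ (m : ℕ) (F : (Fin (n + 1) → ZMod p) → W), Deg m F →
            Deg m (fun x : Fin n → ZMod p => F (Fin.cons 0 x)) := by
          intro m
          induction m with
          | zero => exact fun F hF x y => hF _ _
          | succ m ihm =>
            intro F hF h
            have h1 := ihm _ (hF (Fin.cons 0 h))
            have e2 : ∀ x : Fin n → ZMod p,
                Fin.cons (α := fun _ => ZMod p) 0 x + Fin.cons 0 h = Fin.cons 0 (x + h) := by
              intro x; funext j
              refine Fin.cases ?_ (fun i => ?_) j <;> simp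
            simpa [e2] using h1
        exact key _ _ ((fwdDiff_deg_iter hf e (p - 1)).1 hge)
      rw [hg]
      refine ih hd ?_
      rw [Nat.succ_mul] at hk
      omega

/-- The same on a field of order `p ^ n`. -/
theorem sum_field_eq_zero {p : ℕ} [Fact p.Prime] {K : Type*} [Field K] [Fintype K] [CharP K p] {n : ℕ}
    (hK : Fintype.card K = p ^ n) (hW : ∀ w : W, p • w = 0) {k : ℕ} {f : K → W} (hf : Deg k f)
    (hk : k < n * (p - 1)) : ∑ x, f x = 0 := by
  letI : Algebra (ZMod p) K := ZMod.algebra K p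
  have hfr : Module.finrank (ZMod p) K = n := by
    have h1 := Module.card_eq_pow_finrank (K := ZMod p) (V := K)
    rw [hK, ZMod.card] at h1
    exact (Nat.pow_right_injective (Fact.out : p.Prime).two_le h1).symm
  let e : (Fin n → ZMod p) ≃ₗ[ZMod p] K := (Module.finBasisOfFinrankEq _ _ hfr).equivFun.symm
  rw [← e.toEquiv.sum_comp]
  refine sum_eq_zero_of_deg hW (k := k) ?_ hk
  have key : ∀ (m : ℕ) (F : K → W), Deg m F → Deg m (fun x => F (e x)) := by
    intro m
    induction m with
    | zero => exact fun F hF x y => hF _ _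
    | succ m ih =>
      intro F hF h
      have h1 := ih _ (hF (e h))
      simpa using h1
  exact key k f hf

/-! ### The fixed vector -/

open scoped Classical in
/-- If the sums over the trivial-intersection subgroup lie in a subgroup `U₀`, a vector fixed by
the normaliser is congruent modulo `U₀` to a vector fixed by the group. -/
theorem exists_fixed_of_ti {G P : Type*} [Group G] [Finite G] [AddCommGroup P] [Fintype P] (σ : P → G)
    (hσ : Function.Injective σ) (hσadd : ∀ a b, σ (a + b) = σ a * σ b)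
    (N : Subgroup G) (hσN : ∀ a, σ a ∈ N)
    (hNP : ∀ g a, g * σ a * g⁻¹ ∈ N → ∃ b, g * σ a * g⁻¹ = σ b)
    (hti : ∀ g, g ∉ N → ∀ a b, g * σ a * g⁻¹ = σ b → a = 0)
    (ρ : G → W → W) (hρm : ∀ g h w, ρ (g * h) w = ρ g (ρ h w)) (hρ1 : ∀ w, ρ 1 w = w)
    (hρa : ∀ g v w, ρ g (v + w) = ρ g v + ρ g w)
    (w : W) (hw : ∀ g ∈ N, ρ g w = w) (U₀ : AddSubgroup W) (hsum : ∀ v, ∑ s, ρ (σ s) v ∈ U₀) :
    ∃ T, (∀ g, ρ g T = T) ∧ T - w ∈ U₀ := by
  cases nonempty_fintype G
  have hσ0 : σ (0 : P) = 1 := mul_eq_left.1 (show σ 0 * σ 0 = σ 0 by rw [← hσadd, add_zero])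
  have hσneg : ∀ a, σ (-a) = (σ a)⁻¹ := fun a =>
    eq_inv_of_mul_eq_one_left (by rw [← hσadd, neg_add_cancel, hσ0])
  let R : G ⧸ N → W := fun q => Quotient.liftOn' q (fun g => ρ g w) fun a b hab => by
    have h1 : a⁻¹ * b ∈ N := QuotientGroup.leftRel_apply.1 hab
    show ρ a w = ρ b w
    rw [show b = a * (a⁻¹ * b) by group, hρm, hw _ h1]
  have hR : ∀ g h : G, R (QuotientGroup.mk (g * h)) = ρ g (R (QuotientGroup.mk h)) :=
    fun g h => hρm g h w
  have hRs : ∀ (g : G) (q : G ⧸ N), R (g • q) = ρ g (R q) := fun g q => by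
    obtain ⟨h, rfl⟩ := QuotientGroup.mk_surjective q
    exact hR g h
  have hu : ∀ g, ρ g (∑ q, R q) = ∑ q, R q := fun g => by
    show (AddMonoidHom.mk' (ρ g) (hρa g)) (∑ q, R q) = _
    rw [map_sum]
    refine Fintype.sum_equiv (MulAction.toPerm g) _ _ fun q => ?_
    exact (hRs g q).symm
  let Pg : Subgroup G :=
    { carrier := Set.range σ
      one_mem' := ⟨0, hσ0⟩
      mul_mem' := by rintro _ _ ⟨a, rfl⟩ ⟨b, rfl⟩; exact ⟨a + b, hσadd a b⟩
      inv_mem' := by rintro _ ⟨a, rfl⟩; exact ⟨-a, hσneg a⟩ }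
  let q₀ : G ⧸ N := QuotientGroup.mk 1
  have key : ∑ q ∈ Finset.univ.erase q₀, R q ∈ U₀ := by
    rw [← QuotientAddGroup.eq_zero_iff, ← QuotientAddGroup.mk'_apply, map_sum]
    refine Finset.sum_cancels_of_partition_cancels (MulAction.orbitRel Pg (G ⧸ N)) ?_
    intro q hq
    have hq0 : q ≠ q₀ := (Finset.mem_erase.1 hq).1
    obtain ⟨h, rfl⟩ := QuotientGroup.mk_surjective q
    have hh : h ∉ N := fun hh => hq0 (QuotientGroup.eq.2 (by simpa using N.inv_mem hh))
    have hinj : Function.Injective fun s => σ s • (QuotientGroup.mk h : G ⧸ N) := by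
      intro a b hab
      have h1 : (σ a * h)⁻¹ * (σ b * h) ∈ N := QuotientGroup.eq.1 hab
      have h2 : h⁻¹ * σ (-a + b) * h⁻¹⁻¹ ∈ N := by
        rw [hσadd, hσneg, inv_inv]
        simpa [mul_assoc] using h1
      obtain ⟨c, hc⟩ := hNP _ _ h2
      have h3 := hti h⁻¹ (fun e => hh (inv_mem_iff.1 e)) _ _ hc
      rwa [neg_add_eq_zero] at h3
    have himg : (Finset.univ.erase q₀).filter (fun y => (MulAction.orbitRel Pg (G ⧸ N)).r y
        (QuotientGroup.mk h)) = Finset.univ.image fun s => σ s • (QuotientGroup.mk h : G ⧸ N) := by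
      ext y
      simp only [Finset.mem_filter, Finset.mem_erase, Finset.mem_univ, and_true, Finset.mem_image,
        true_and]
      constructor
      · rintro ⟨-, ⟨⟨_, s, rfl⟩, rfl⟩⟩
        exact ⟨s, rfl⟩
      · rintro ⟨s, rfl⟩
        refine ⟨fun e => hh ?_, ⟨⟨σ s, s, rfl⟩, rfl⟩⟩
        have h1 : (σ s * h)⁻¹ * 1 ∈ N := QuotientGroup.eq.1 e
        have h2 := N.mul_mem (N.inv_mem (hσN s)) (N.inv_mem h1)
        simpa using h2
    rw [himg, Finset.sum_image fun a _ b _ hab => hinj hab, ← map_sum, QuotientAddGroup.mk'_apply,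
      QuotientAddGroup.eq_zero_iff]
    simp only [hRs]
    exact hsum _
  refine ⟨∑ q, R q, hu, ?_⟩
  rw [← Finset.add_sum_erase _ R (Finset.mem_univ q₀), show R q₀ = w from hρ1 w, add_sub_cancel_left]
  exact key

/-- If the sums over the trivial-intersection subgroup vanish, a vector fixed by the normaliser is
fixed by the group. -/
theorem fixed_of_ti {G P : Type*} [Group G] [Finite G] [AddCommGroup P] [Fintype P] (σ : P → G)
    (hσ : Function.Injective σ) (hσadd : ∀ a b, σ (a + b) = σ a * σ b)
    (N : Subgroup G) (hσN : ∀ a, σ a ∈ N)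
    (hNP : ∀ g a, g * σ a * g⁻¹ ∈ N → ∃ b, g * σ a * g⁻¹ = σ b)
    (hti : ∀ g, g ∉ N → ∀ a b, g * σ a * g⁻¹ = σ b → a = 0)
    (ρ : G → W → W) (hρm : ∀ g h w, ρ (g * h) w = ρ g (ρ h w)) (hρ1 : ∀ w, ρ 1 w = w)
    (hρa : ∀ g v w, ρ g (v + w) = ρ g v + ρ g w)
    (w : W) (hw : ∀ g ∈ N, ρ g w = w) (hsum : ∀ v, ∑ s, ρ (σ s) v = 0) (g : G) : ρ g w = w := by
  obtain ⟨T, hT, hTw⟩ := exists_fixed_of_ti σ hσ hσadd N hσN hNP hti ρ hρm hρ1 hρa w hw ⊥
    fun v => AddSubgroup.mem_bot.2 (hsum v)
  rw [← sub_eq_zero.1 (AddSubgroup.mem_bot.1 hTw), hT]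

end Cfsg.Agent.Fusion.SpFour
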