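import Mathlib
import Cfsg.Agent.Lib.Fusion.SpFour.Grp
import Cfsg.Agent.Lib.Forms.Symp

/-!
The Sylow subgroup of `Sp₄(K)` in the defining characteristic is `U4 K`.
-/

set_option autoImplicit false

open Matrix

namespace Cfsg.Agent.Fusion.SpFour

variable {K : Type*} [Field K]

/-- The block matrix of an element. -/
def u4Mat (g : U4 K) : Matrix (Fin 2 ⊕ Fin 2) (Fin 2 ⊕ Fin 2) K :=
  fromBlocks !![1, g.s; 0, 1] !![g.a - g.b * g.s, g.b; g.b - g.c * g.s, g.c] 0 !![1, 0; -g.s, 1]

theorem u4Mat_mem (g : U4 K) : u4Mat g ∈ Matrix.symplecticGroup (Fin 2) K := by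
  rw [SymplecticGroup.mem_iff, u4Mat, Matrix.J, fromBlocks_transpose, fromBlocks_multiply,
    fromBlocks_multiply]
  congr 1 <;> ext i j <;> fin_cases i <;> fin_cases j <;>
    simp [Matrix.mul_apply, Fin.sum_univ_two, Matrix.one_apply, Matrix.vecMul, dotProduct, Matrix.transpose_apply] <;> ring

theorem u4Mat_mul (g h : U4 K) : u4Mat (g * h) = u4Mat g * u4Mat h := by
  rw [u4Mat, u4Mat, u4Mat, fromBlocks_multiply]
  congr 1 <;> ext i j <;> fin_cases i <;> fin_cases j <;>
    simp [Matrix.mul_apply, Fin.sum_univ_two, Matrix.vecMul, dotProduct] <;> ring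

/-- The embedding into the symplectic group. -/
def u4Hom : U4 K →* Matrix.symplecticGroup (Fin 2) K :=
  MonoidHom.mk' (fun g => ⟨u4Mat g, u4Mat_mem g⟩) fun g h => Subtype.ext (u4Mat_mul g h)

theorem u4Hom_injective : Function.Injective (u4Hom : U4 K → _) := by
  intro g h e
  have e1 : u4Mat g = u4Mat h := congrArg Subtype.val e
  have hs := congrFun (congrFun e1 (Sum.inl 0)) (Sum.inl 1)
  have hb := congrFun (congrFun e1 (Sum.inl 0)) (Sum.inr 1)
  have hc := congrFun (congrFun e1 (Sum.inl 1)) (Sum.inr 1)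
  have ha := congrFun (congrFun e1 (Sum.inl 0)) (Sum.inr 0)
  simp [u4Mat] at hs hb hc ha
  ext
  · exact hs
  · rw [hb, hs] at ha; linear_combination ha
  · exact hb
  · exact hc

/-- A Sylow subgroup of `Sp₄(K)` in the defining characteristic is `U4 K`. -/
theorem exists_equiv [Fintype K] {p : ℕ} [Fact p.Prime] [CharP K p]
    (T : Sylow p (Matrix.symplecticGroup (Fin 2) K)) :
    Nonempty (U4 K ≃* ↥(T : Subgroup (Matrix.symplecticGroup (Fin 2) K))) := by
  obtain ⟨n, hp, hq⟩ := FiniteField.card K p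
  have h0 : Nat.card K = p ^ (n : ℕ) := by rw [Nat.card_eq_fintype_card, hq]
  have hcard : Nat.card (u4Hom : U4 K →* _).range =
      p ^ (Nat.card (Matrix.symplecticGroup (Fin 2) K)).factorization p := by
    rw [← Nat.card_congr (MonoidHom.ofInjective u4Hom_injective).toEquiv, U4.natCard,
      Forms.card_symplecticGroup, h0]
    rw [show Fintype.card K = p ^ (n : ℕ) from hq, Finset.prod_range_succ, Finset.prod_range_one,
      ← pow_mul, ← pow_mul, ← pow_mul]
    have hnd : ∀ k, 0 < k → ¬ p ∣ p ^ k - 1 ∧ p ^ k - 1 ≠ 0 := fun k hk => by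
      have h1 : 1 < p ^ k := Nat.one_lt_pow hk.ne' hp.one_lt
      refine ⟨fun hd => hp.not_dvd_one ?_, by omega⟩
      have h2 := Nat.dvd_sub (dvd_pow_self p hk.ne') hd
      rwa [Nat.sub_sub_self h1.le] at h2
    have hn := n.pos
    rw [Nat.factorization_mul (pow_ne_zero _ hp.ne_zero)
        (mul_ne_zero (hnd _ (by positivity)).2 (hnd _ (by positivity)).2),
      Finsupp.add_apply, Nat.factorization_eq_zero_of_not_dvd (fun hd => (hp.dvd_mul.1 hd).elim
        (hnd _ (by positivity)).1 (hnd _ (by positivity)).1), add_zero,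
      Nat.factorization_pow, Finsupp.smul_apply, hp.factorization_self, smul_eq_mul, mul_one]
    norm_num
  let T₁ : Sylow p (Matrix.symplecticGroup (Fin 2) K) := Sylow.ofCard _ hcard
  exact ⟨(MonoidHom.ofInjective u4Hom_injective).trans
    ((MulEquiv.subgroupCongr (Sylow.coe_ofCard _ hcard).symm).trans (T₁.equiv T))⟩

end Cfsg.Agent.Fusion.SpFour
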