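import Cfsg.Agent.Lib.Fusion.SpFour.AMod
import Cfsg.Agent.Lib.Fusion.SpFour.ModTwo
import Cfsg.Agent.Lib.Fusion.PStable

/-!
Characteristic 2: both abelian radicals are radical unless the system is constrained, and this is
impossible for `q ≥ 8`.
-/

set_option autoImplicit false
set_option linter.unusedSectionVars false

namespace Cfsg.Agent.Fusion.SpFour

open Cfsg Cfsg.FusionSystem

universe u

variable {K : Type*} [Field K]

namespace U4

section

variable [Finite K] [CharP K 2]

/-- The exceptional endomorphism exchanging the two abelian radicals. -/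
def graphHom : U4 K →* U4 K :=
  MonoidHom.mk' (fun g => ⟨g.c, g.b ^ 2 + g.c ^ 2 * g.s ^ 2, g.a + g.c * g.s ^ 2, g.s ^ 2⟩)
    fun g h => by
      have h2 : (2 : K) = 0 := CharTwo.two_eq_zero
      ext
      · simp
      · simp only [mul_a, mul_b, mul_s, mul_c]
        linear_combination (g.b * h.b + g.b * g.s * h.c + h.b * g.s * h.c + g.s ^ 2 * h.c ^ 2 +
          g.c * h.c * (g.s + h.s) ^ 2 + h.c ^ 2 * g.s * h.s + g.c ^ 2 * g.s * h.s -
          g.c * (h.a + h.c * h.s ^ 2)) * h2
      · simp only [mul_a, mul_b, mul_s, mul_c]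
        linear_combination (g.s * h.b + g.s ^ 2 * h.c + g.c * g.s * h.s + h.c * g.s * h.s) * h2
      · simp only [mul_c, mul_s]
        rw [add_sq, h2]; ring

theorem sq_inj {x y : K} (h : x ^ 2 = y ^ 2) : x = y := CharTwo.sq_injective h

theorem graphHom_injective : Function.Injective (graphHom : U4 K →* U4 K) := fun g h e => by
  have hs := congrArg U4.c e
  have hc := congrArg U4.s e
  have ha := congrArg U4.b e
  have hb := congrArg U4.a e
  simp only [graphHom, MonoidHom.mk'_apply] at hs hc ha hb
  have hs' := sq_inj hs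
  rw [hs', hc] at ha hb
  exact U4.ext hs' (add_right_cancel ha) (sq_inj (add_right_cancel hb)) hc

/-- The automorphism exchanging the two abelian radicals. -/
noncomputable def graphIso : U4 K ≃* U4 K :=
  MulEquiv.ofBijective (graphHom (K := K))
    (Finite.injective_iff_bijective.1 graphHom_injective)

theorem graphIso_apply (g : U4 K) :
    graphIso g = ⟨g.c, g.b ^ 2 + g.c ^ 2 * g.s ^ 2, g.a + g.c * g.s ^ 2, g.s ^ 2⟩ := rfl

end

/-- An automorphism maps the abelian radical onto one of the two. -/
theorem radA_or_radB (h2 : (2 : K) = 0) (β : U4 K ≃* U4 K) :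
    (∀ g : U4 K, g.s = 0 → (β g).s = 0) ∨ ∀ g : U4 K, g.s = 0 → (β g).c = 0 := by
  have key : ∀ g : U4 K, g.s = 0 → (β g).s = 0 ∨ (β g).c = 0 := by
    intro g hg
    have e : g * g = 1 := by
      ext <;> simp [hg, ← two_mul, h2]
    have e' := congrArg (fun x => (β x).b) e
    simp only [map_mul, map_one, mul_b, one_b] at e'
    refine mul_eq_zero.1 ?_
    linear_combination e' - (β g).b * h2
  by_contra hne
  push Not at hne
  obtain ⟨⟨g, hg, hgs⟩, h, hh, hhc⟩ := hne
  have hgc := (key g hg).resolve_left hgs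
  have hhs := (key h hh).resolve_right hhc
  have := key (g * h) (by simp [hg, hh])
  simp [map_mul, hgc, hhs, hgs, hhc] at this

/-- For more than four elements the axes cannot be exchanged. -/
theorem no_swap [Fintype K] (hK : 4 < Fintype.card K) (h2 : (2 : K) = 0) (α : U4 K ≃* U4 K)
    (hA : ∀ g : U4 K, g.s = 0 → (α g).s = 0) (ha : ∀ a, (α (vec (a, 0, 0))).a = 0)
    (hb : ∀ b, (α (vec (0, b, 0))).b = 0) : False := by
  classical
  have hc := (axes_two α hA h2).1
  obtain ⟨hfadd, hfi⟩ := f_props α hA
  set f := fun x => (α (sig x)).s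
  set w := fun x => (α (vec (0, 0, x))).c
  set P := fun a => (α (vec (a, 0, 0))).b
  set Q := fun b => (α (vec (0, b, 0))).a
  have hrel : ∀ s c, Q (s * c) = f s ^ 2 * w c ∧ P (s ^ 2 * c) = f s * w c := by
    intro s c
    have h1 := layer_rel α hA (fun g hs hc' => by rw [eq_vec hs, hc']; exact hc _ _) (sig s) 0 c
    simp only [sig_s, h2, zero_mul, zero_add] at h1
    rw [show (vec (s ^ 2 * c, s * c, 0) : U4 K) = vec (s ^ 2 * c, 0, 0) * vec (0, s * c, 0) by
      ext <;> simp, map_mul, mul_a, mul_b, ha, hb, hc, hA _ (rfl : (vec (s ^ 2 * c, (0 : K), (0 : K))).s = 0)] at h1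
    simp at h1
    exact h1
  have hf1 : f 1 ≠ 0 := fun e => by
    have h0 : f 0 = 0 := by simpa using hfadd 0 0
    exact one_ne_zero (hfi (e.trans h0.symm))
  have hw1 : w 1 ≠ 0 := fun e => by
    have h1 : α (vec (0, 1, 0)) = 1 := by
      rw [eq_vec (hA (vec ((0 : K), 1, 0)) rfl)]
      have := (hrel 1 1).1
      rw [mul_one, e, mul_zero] at this
      show vec ((α (vec (0, 1, 0))).a, (α (vec (0, 1, 0))).b, (α (vec (0, 1, 0))).c) = 1
      rw [show (α (vec ((0:K), 1, 0))).a = 0 from this, hb, hc]
      ext <;> simp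
    exact one_ne_zero (congrArg U4.b (α.injective (h1.trans (map_one α).symm)))
  -- the normalised maps
  set g := fun s => f s / f 1 with hg
  set v := fun s => w s / w 1 with hv
  have e1 : ∀ c, Q c = f 1 ^ 2 * w c := fun c => by simpa using (hrel 1 c).1
  have e2 : ∀ c, P c = f 1 * w c := fun c => by simpa using (hrel 1 c).2
  have k1 : ∀ s, v s = g s ^ 2 := fun s => by
    have := (hrel s 1).1
    rw [mul_one, e1] at this
    simp only [hv, hg]
    field_simp
    linear_combination this
  have k2 : ∀ s, v (s ^ 2) = g s := fun s => by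
    have := (hrel s 1).2
    rw [mul_one, e2] at this
    simp only [hv, hg]
    field_simp
    linear_combination this
  have k3 : ∀ s c, v (s * c) = v s * v c := fun s c => by
    have := (hrel s c).1
    rw [e1] at this
    rw [k1 s]
    simp only [hv, hg]
    field_simp
    linear_combination this
  have k4 : ∀ s, g s ^ 4 = g s := fun s => by
    have h := k3 s s
    rw [← pow_two s, k2, k1] at h
    conv_rhs => rw [h]
    ring
  have hgs : Function.Surjective g := Finite.injective_iff_surjective.1 fun x y h => hfi (by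
    simp only [hg] at h
    exact (div_left_inj' hf1).1 h)
  have hroot : ∀ x : K, x ^ 4 = x := fun x => by
    obtain ⟨s, rfl⟩ := hgs x
    exact k4 s
  have hpoly : (Polynomial.X ^ 4 - Polynomial.X : Polynomial K) ≠ 0 :=
    Polynomial.ne_zero_of_degree_gt (n := 1) (by
      rw [Polynomial.degree_sub_eq_left_of_degree_lt] <;> simp)
  have hsub : (Finset.univ : Finset K) ⊆ (Polynomial.X ^ 4 - Polynomial.X : Polynomial K).roots.toFinset :=
    fun x _ => by simp [Multiset.mem_toFinset, Polynomial.mem_roots hpoly, hroot x]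
  have := Finset.card_le_card hsub
  have h4 := (Multiset.toFinset_card_le _).trans
    (Polynomial.card_roots' (Polynomial.X ^ 4 - Polynomial.X : Polynomial K))
  have hdeg : (Polynomial.X ^ 4 - Polynomial.X : Polynomial K).natDegree ≤ 4 := by
    compute_degree
  rw [Finset.card_univ] at this
  omega

end U4

variable {Ω : Type u} [Group Ω] {S : Subgroup Ω} {F : FusionSystem S} {p : ℕ}

/-- A subgroup normalized by `S` is fully normalized. -/
theorem isFullyNormalized_of_le_normalizer [Finite S] {R : Subgroup Ω} (hR : R ≤ S)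
    (hSR : S ≤ Subgroup.normalizer (R : Set Ω)) : F.IsFullyNormalized R := by
  refine ⟨hR, fun Q _ => ?_⟩
  rw [normalizerIn_eq_of_le hSR]
  exact Nat.card_le_card_of_injective _ (Subgroup.inclusion_injective (normalizerIn_le S Q))

/-- Radicality is invariant under conjugation in the system. -/
theorem isRadical_of_conj [Finite S] [Fact p.Prime] (hS : IsPGroup p S) {P Q : Subgroup Ω}
    {φ : P →* Ω} (hφ : φ ∈ F.Hom P) (hQ : φ.range = Q) (hr : F.IsRadical p P) :
    F.IsRadical p Q := by
  have hQS : Q ≤ S := hQ ▸ range_le hφ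
  refine ⟨hQS, le_antisymm ?_ (inn_le_map_pCore hS hQS)⟩
  intro χ hχ
  obtain ⟨ψ, hψ, hψr, hi, -⟩ := exists_inverse hφ hQ
  have he : homEquiv hψ hψr = (homEquiv hφ hQ).symm := by
    refine MulEquiv.ext fun y => ?_
    obtain ⟨x, rfl⟩ := (homEquiv hφ hQ).surjective y
    rw [MulEquiv.symm_apply_apply]
    exact Subtype.ext (hi x (homEquiv hφ hQ x).2)
  have h1 := map_pCore_congr hψ hψr hχ
  rw [hr.2, he] at h1
  obtain ⟨x, hx⟩ := h1
  refine ⟨homEquiv hφ hQ x, ?_⟩
  refine MulEquiv.ext fun y => ?_
  obtain ⟨z, rfl⟩ := (homEquiv hφ hQ).surjective y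
  have h2 := congrArg (homEquiv hφ hQ) (MulEquiv.congr_fun hx z)
  rw [MulAut.conj_apply, map_mul, map_mul, map_inv,
    show (MulAut.congr (homEquiv hφ hQ).symm χ) z = (homEquiv hφ hQ).symm (χ (homEquiv hφ hQ z))
      from rfl, MulEquiv.apply_symm_apply] at h2
  rw [MulAut.conj_apply, h2]

variable [Finite S] (e : U4 K ≃* S)

theorem centralizerIn_img_radA : centralizerIn S (img e (U4.radA K)) ≤ img e (U4.radA K) := by
  intro x hxc
  obtain ⟨g, rfl⟩ := exists_el e (mem_centralizerIn.1 hxc).1
  rw [el_mem_img, U4.mem_radA]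
  have h1 := (commute_el e).1 ((mem_centralizerIn.1 hxc).2 _
    ((el_mem_img e).2 (rfl : (U4.vec ((0 : K), (0 : K), (1 : K))).s = 0)))
  rw [U4.comm_iff] at h1
  simpa using h1.2.symm

theorem img_trans (γ : U4 K ≃* U4 K) {H H' : Subgroup (U4 K)}
    (h : ∀ g, γ g ∈ H' ↔ g ∈ H) : img (γ.trans e) H = img e H' := by
  refine le_antisymm ?_ ?_
  · rintro _ ⟨g, hg, rfl⟩
    exact ⟨γ g, (h g).2 hg, rfl⟩
  · rintro _ ⟨g, hg, rfl⟩
    refine ⟨γ.symm g, (h _).1 (by simpa using hg), ?_⟩
    show ((e (γ (γ.symm g)) : S) : Ω) = _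
    rw [MulEquiv.apply_symm_apply]
    rfl

variable [Fintype K] [CharP K 2] [Fact (Nat.Prime 2)]

theorem graph_radA : img ((U4.graphIso (K := K)).trans e) (U4.radA K) = img e (radB K) :=
  img_trans e _ fun g => by
    rw [mem_radB, U4.mem_radA, U4.graphIso_apply]
    exact pow_eq_zero_iff two_ne_zero

theorem graph_radB : img ((U4.graphIso (K := K)).trans e) (radB K) = img e (U4.radA K) :=
  img_trans e _ fun g => by rw [mem_radB, U4.mem_radA, U4.graphIso_apply]

/-- If the system is not constrained both abelian radicals are radical. -/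
theorem both_radical (hS : IsPGroup 2 S) (hF : F.IsSaturated 2) (hcore : F.core ≠ ⊥)
    (hnc : ¬ F.IsConstrained 2) :
    F.IsRadical 2 (img e (U4.radA K)) ∧ F.IsRadical 2 (img e (radB K)) := by
  have main : ∀ e : U4 K ≃* S, F.IsRadical 2 (img e (radB K)) := by
    intro e
    by_contra hB
    have hAn : F.IsNormal (img e (U4.radA K)) := by
      refine isNormal_of_invariant hS hF (img_le e _) (fun β hβ => ?_) fun R hR hnR hgen => ?_
      · by_cases hrA : F.IsRadical 2 (img e (U4.radA K))
        · refine Subgroup.eq_of_le_of_card_ge ?_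
            (le_of_eq (Subgroup.card_map_of_injective β.injective).symm)
          rintro _ ⟨x, hxm, rfl⟩
          obtain ⟨g, hg, hgx⟩ := exists_el_of_img e hxm
          show ((β x : S) : Ω) ∈ img e (U4.radA K)
          have e1 : ((β x : S) : Ω) = el e (pull e β g) := by
            rw [el_pull]
            exact congrArg (fun z => ((β z : S) : Ω)) (Subtype.ext hgx.symm)
          rw [e1, el_mem_img]
          rcases U4.radA_or_radB CharTwo.two_eq_zero (pull e β) with h | h
          · exact h g hg
          · exfalso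
            refine hB ?_
            have hle := img_le e (U4.radA K)
            have hφ := restrict_mem (hom_of_mem_autGroup le_rfl hβ).1 hle
            have hr : ((S.subtype.comp β.toMonoidHom).comp (Subgroup.inclusion hle)).range =
                img e (radB K) := by
              refine range_eq_of_le hφ (img_le e _) (fun x => ?_) ?_
              · obtain ⟨g, hg, hgx⟩ := exists_el_of_img e x.2
                obtain rfl : x = ⟨el e g, (el_mem_img e).2 hg⟩ := Subtype.ext hgx.symm
                show ((β ⟨el e g, el_mem e g⟩ : S) : Ω) ∈ _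
                rw [← el_pull, el_mem_img, mem_radB]
                exact h g hg
              · refine le_of_eq ?_
                rw [← graph_radA e]
                simp only [img]
                rw [Subgroup.card_map_of_injective
                    (fun x y h => ((U4.graphIso (K := K)).trans e).injective (Subtype.ext h)),
                  Subgroup.card_map_of_injective (fun x y h => e.injective (Subtype.ext h))]
            exact isRadical_of_conj hS hφ hr hrA
        · -- only `S` is left
          exfalso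
          refine hnc ⟨hF, S, ?_, isCentric_self F⟩
          refine isNormal_of_invariant hS hF le_rfl (fun β _ => ?_) fun R hR hnR hgen => ?_
          · rw [Subgroup.subgroupOf_self]
            exact Subgroup.map_top_of_surjective _ β.surjective
          · obtain ⟨hcR, hrR⟩ := centric_radical_of_not_generated hS hF hnR hgen
            rcases radical_cases e hS hF hcore hnc hnR hcR hrR with h | h | ⟨-, h⟩ | ⟨h, -⟩
            · exact absurd h hR.ne
            · exact absurd (h ▸ hrR) hrA
            · exact absurd (h ▸ hrR) hB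
            · exact absurd CharTwo.two_eq_zero h
      · obtain ⟨hcR, hrR⟩ := centric_radical_of_not_generated hS hF hnR hgen
        rcases radical_cases e hS hF hcore hnc hnR hcR hrR with h | h | ⟨-, h⟩ | ⟨h, -⟩
        · exact absurd h hR.ne
        · subst h
          have := finite_of_le (Ω := Ω) hnR.1
          refine ⟨le_rfl, fun a _ => ?_⟩
          rw [Subgroup.subgroupOf_self]
          exact Subgroup.map_top_of_surjective _ a.surjective
        · exact absurd (h ▸ hrR) hB
        · exact absurd CharTwo.two_eq_zero h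
    exact hnc (ConstrainedExtensions.isConstrained_of_normal_core hF hAn (centralizerIn_img_radA e))
  refine ⟨?_, main e⟩
  have h := main ((U4.graphIso (K := K)).trans e)
  rwa [graph_radB] at h

/-- The shapes on the abelian radical, for a core element `(1, 0, 0)` fixed. -/
theorem shapes_repA (hS : IsPGroup 2 S) (hF : F.IsSaturated 2) (hX : F.core ≤ centralizerIn S S)
    (hn : F.IsFullyNormalized (img e (U4.radA K))) {b₀ : K}
    (hx : el e (U4.vec (1, b₀, 0)) ∈ F.core) (hax : b₀ = 0 ∨ 4 < Fintype.card K) :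
    Module.Shapes (repA e F) (sigG e hX) := by
  intro g hg
  obtain ⟨α, -, hA, hv⟩ := exists_pull e hS hF hX hn hg
  have h2 : (2 : K) = 0 := CharTwo.two_eq_zero
  have hfix : repA e F g (1, b₀, 0) = (1, b₀, 0) := by
    rw [repA_apply]
    refine vecA_injective e ?_
    rw [vecA_actA]
    exact g.2 _ hx
  have hax' : (∀ a, (pull e α (U4.vec (a, 0, 0))).b = 0) ∧
      ∀ b, (pull e α (U4.vec (0, b, 0))).a = 0 := by
    rcases (U4.axes_two (pull e α) hA h2).2 with h | ⟨ha, hb⟩
    · exact h
    exfalso
    rcases hax with rfl | hK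
    · have h3 := ha 1
      rw [hv, hfix] at h3
      exact one_ne_zero h3
    · exact U4.no_swap hK h2 _ hA ha hb
  obtain ⟨φ₁, ω, φ, o₁, o₂, hs⟩ := U4.exists_shape_two (pull e α) hA h2 hax'.1 hax'.2
  obtain ⟨h0, h0'⟩ := U4.zero_of_shape hs
  rw [zero_add] at h0
  have hval : ∀ a b c, repA e F g (a, b, c) =
      (φ₁ ^ 2 * ω * φ a + o₁ c, φ₁ * ω * φ b + o₂ c, ω * φ c) := fun a b c => by
    have h := (hv (a, b, c)).symm.trans (hs.2.2.2 a b c)
    have k1 := congrArg U4.a h
    have k2 := congrArg U4.b h
    have k3 := congrArg U4.c h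
    simp only [add_zero] at k1
    exact Prod.ext k1 (Prod.ext k2 k3)
  have h1 : φ₁ ^ 2 * ω = 1 := by
    have := congrArg Prod.fst ((hval 1 b₀ 0).symm.trans hfix)
    simpa [h0] using this
  exact ⟨φ₁, ω, φ, o₁, o₂, h1, h0, h0', hs.1, hs.2.1, fun a b c => by rw [hval, h1, one_mul]⟩

/-- For at least eight elements the abelian radical is not radical if the core leaves the second axis. -/
theorem not_radical_radA_two (hS : IsPGroup 2 S) (hF : F.IsSaturated 2)
    (hX : F.core ≤ centralizerIn S S) {n : ℕ} (hK : Fintype.card K = 2 ^ n) (h3 : 3 ≤ n)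
    {g : U4 K} (hg : el e g ∈ F.core) (ha : g.a ≠ 0) :
    ¬ F.IsRadical 2 (img e (U4.radA K)) := by
  intro hr
  obtain ⟨h1, h4, -⟩ := U4.mem_center.1 ((el_mem_zc e).1 (hX hg))
  set e' := (U4.scaleIso (Units.mk0 g.a ha)).trans e with he'
  have himg : img e' (U4.radA K) = img e (U4.radA K) :=
    img_trans e _ fun x => by rw [U4.mem_radA, U4.mem_radA]; rfl
  have hn : F.IsFullyNormalized (img e' (U4.radA K)) :=
    isFullyNormalized_of_le_normalizer (img_le e' _) (le_normalizer_img e' radA_normal)
  have hx : el e' (U4.vec (1, g.b / g.a, 0)) ∈ F.core := by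
    have : U4.scaleIso (Units.mk0 g.a ha) (U4.vec (1, g.b / g.a, 0)) = g := by
      ext <;> simp [U4.scaleIso, h1, h4, mul_div_cancel₀ _ ha]
    show el e (U4.scaleIso (Units.mk0 g.a ha) (U4.vec (1, g.b / g.a, 0))) ∈ F.core
    rw [this]
    exact hg
  have h4' : 4 < Fintype.card K := by
    rw [hK]
    exact lt_of_lt_of_le (by norm_num) (Nat.pow_le_pow_right (by norm_num) h3)
  have hN := shapes_repA e' hS hF hX hn hx (Or.inr h4')
  have := finite_of_le (Ω := Ω) hn.1
  have := finite_mulAut (Ω := Ω) hn.1
  obtain ⟨g₀, hg₀⟩ := exists_notMem_normalizer e' hS hF hX hn (himg ▸ hr)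
  exact Module.false_two (hyp_repA e' hS hF hX hn) hK h3 hN hg₀

include e in
/-- For at least eight elements a nontrivial core forces the system to be constrained. -/
theorem isConstrained_two_large (hS : IsPGroup 2 S) (hF : F.IsSaturated 2) (hcore : F.core ≠ ⊥)
    {n : ℕ} (hK : Fintype.card K = 2 ^ n) (h3 : 3 ≤ n) : F.IsConstrained 2 := by
  by_contra hnc
  have hX := core_le_center e hS hF hnc
  obtain ⟨hA, hB⟩ := both_radical e hS hF hcore hnc
  obtain ⟨x, hx, hx1⟩ := F.core.bot_or_exists_ne_one.resolve_left hcore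
  obtain ⟨g, rfl⟩ := exists_el e ((isNormal_core F).1 hx)
  by_cases ha : g.a = 0
  · obtain ⟨h1, h4, -⟩ := U4.mem_center.1 ((el_mem_zc e).1 (hX hx))
    have hb : g.b ≠ 0 := fun h => hx1 (by rw [show g = 1 from U4.ext h1 ha h h4, el_one])
    refine not_radical_radA_two ((U4.graphIso (K := K)).trans e) hS hF hX hK h3
      (g := U4.vec (g.b, 0, 0)) ?_ hb (by rw [graph_radA]; exact hB)
    show el e (U4.graphIso (U4.vec (g.b, 0, 0))) ∈ F.core
    rwa [show U4.graphIso (U4.vec (g.b, 0, 0)) = g by
      rw [U4.graphIso_apply]; ext <;> simp [h1, h4, ha]]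
  · exact not_radical_radA_two e hS hF hX hK h3 hx ha hA

end Cfsg.Agent.Fusion.SpFour
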